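/-
helper743: `Meet p T` for the Tits group (used for S5762).
-/
import Mathlib
import Cfsg.Agent.H903.SylMeet
import Cfsg.Agent.OddRank.SzTits
import Cfsg.Agent.TitsK.Inst
import Cfsg.Agent.TitsK.Model
import Cfsg.Agent.TitsK.SheetT
import Cfsg.Agent.FourTwo.Perf
import Cfsg.Agent.H55.OutGen

set_option autoImplicit false

namespace Cfsg.Agent.H743.MeetTits

open Cfsg Cfsg.Agent.H903.SylMeet

/-- Sylow subgroups of order at most `p ^ 2`, `|Out T|` prime to `p`. -/
theorem meet_sq {p : ℕ} [Fact p.Prime] {T : Type*} [Group T] [Finite T]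
    [IsSimpleGroup T] (hT : ¬ IsMulCommutative T)
    (hi : ¬ p ∣ (MulAut.conj : T →* MulAut T).range.index) (h3 : ¬ p ^ 3 ∣ Nat.card T) : Meet p T := by
  have hp := (Fact.out : p.Prime)
  obtain ⟨P⟩ : Nonempty (Sylow p (MulAut T)) := inferInstance
  obtain ⟨k, hk⟩ := P.isPGroup'.exists_card_eq
  have h1 : p ^ k ∣ Nat.card (MulAut T) := by
    rw [← hk]; exact Subgroup.card_subgroup_dvd_card _
  rw [← (MulAut.conj : T →* MulAut T).range.index_mul_card,
    ← Nat.card_congr (MonoidHom.ofInjective (conj_injective hT)).toEquiv] at h1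
  have h2 : p ^ k ∣ Nat.card T :=
    (Nat.Coprime.pow_left k ((hp.coprime_iff_not_dvd).2 hi)).dvd_of_dvd_mul_left h1
  have hk2 : k ≤ 2 := by
    by_contra h
    exact h3 ((pow_dvd_pow p (by omega)).trans h2)
  apply meet_of_comm hT P
  have hcomm : ∀ a b : P, a * b = b * a := by
    interval_cases k
    · have : Subsingleton P := (Nat.card_eq_one_iff_unique.1 (by simpa using hk)).1
      intro a b
      exact Subsingleton.elim _ _
    · rw [pow_one] at hk
      have := isCyclic_of_prime_card hk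
      intro a b
      let _ : CommGroup P := IsCyclic.commGroup
      exact mul_comm a b
    · intro a b
      exact (IsPGroup.commGroupOfCardEqPrimeSq hk).mul_comm a b
  intro a ha b hb
  exact congrArg Subtype.val (hcomm ⟨a, ha⟩ ⟨b, hb⟩)

theorem meet_aux {G T : Type*} [Group G] [Finite G] [IsSimpleGroup G] [Group T] (e : G ≃* T)
    (hcard : Nat.card G = 2 ^ 11 * 3 ^ 3 * 5 ^ 2 * 13)
    (hidx : Nat.card (Out T) ≤ 2) {p : ℕ} [Fact p.Prime] (hp : 5 ≤ p) :
    Meet p G := by
  have hpp := (Fact.out : p.Prime)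
  have : Finite T := Finite.of_equiv G e.toEquiv
  have : IsSimpleGroup T := e.isSimpleGroup_congr.1 inferInstance
  refine Meet.congr e.symm ?_
  have hcT : Nat.card T = 2 ^ 11 * 3 ^ 3 * 5 ^ 2 * 13 := by
    rw [← hcard]; exact (Nat.card_congr e.toEquiv).symm
  have hT : ¬ IsMulCommutative T := by
    intro hc
    let _ : CommGroup T := { (inferInstance : Group T) with mul_comm := hc.is_comm.comm }
    have h1 := IsSimpleGroup.prime_card (α := T)
    rw [hcT] at h1
    norm_num at h1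
  refine meet_sq hT ?_ ?_
  · intro h1
    have h2 : Nat.card (Out T) = (MulAut.conj : T →* MulAut T).range.index := rfl
    rw [← h2] at h1
    have h3 : 0 < Nat.card (Out T) := by rw [h2]; exact Nat.pos_of_ne_zero Subgroup.index_ne_zero_of_finite
    have := Nat.le_of_dvd h3 h1
    omega
  · intro h1
    rw [hcT] at h1
    by_cases h5 : p = 5
    · subst h5
      norm_num at h1
    · have h2 : p ∣ 2 ^ 11 * 3 ^ 3 * 5 ^ 2 * 13 := (dvd_pow_self p (by norm_num)).trans h1
      have c2 : Nat.Coprime (p ^ 3) (2 ^ 11) := Nat.Coprime.pow _ _ ((Nat.coprime_primes hpp Nat.prime_two).2 (by omega))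
      have c3 : Nat.Coprime (p ^ 3) (3 ^ 3) := Nat.Coprime.pow _ _ ((Nat.coprime_primes hpp Nat.prime_three).2 (by omega))
      have c5 : Nat.Coprime (p ^ 3) (5 ^ 2) := Nat.Coprime.pow _ _ ((Nat.coprime_primes hpp Nat.prime_five).2 h5)
      have h3 : p ^ 3 ∣ 13 := ((c2.mul_right c3).mul_right c5).dvd_of_dvd_mul_left h1
      have h4 := Nat.le_of_dvd (by norm_num) h3
      have h6 : 5 ^ 3 ≤ p ^ 3 := Nat.pow_le_pow_left hp 3
      omega

theorem exists_tits_TT {K : Type*} [Group K] (h : Lie.IsoTits K) : Nonempty (K ≃* ↥Cfsg.Agent.TitsK.TT) := by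
  obtain ⟨e⟩ := h
  obtain ⟨e'⟩ := Cfsg.Agent.TitsK.exists_equiv
  exact ⟨e.trans e'⟩

theorem card_out_TT : Nat.card (Out ↥Cfsg.Agent.TitsK.TT) ≤ 2 := by
  have hfin : Finite Cfsg.Agent.FourTwo.Base.LL := Cfsg.Agent.FourTwo.Perf.instFiniteLL
  have h := Cfsg.Agent.TitsK.tdata.index_inn
  refine Nat.le_of_dvd (by norm_num) ?_
  rw [H55.OutGen.card_out_eq_index]
  refine dvd_trans ?_ h
  exact dvd_refl _

/-- **The Tits group.** -/
theorem meet_Tits {G : Type*} [Group G] [Finite G] [IsSimpleGroup G] (h : Cfsg.Lie.IsoTits G)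
    {p : ℕ} [Fact p.Prime] (hp : 5 ≤ p) : Meet p G := by
  have hcard := OddRank.SzTits.tits_card h
  obtain ⟨e⟩ := exists_tits_TT h
  have h2 := meet_aux (T := ↥Cfsg.Agent.TitsK.TT) e hcard
  exact h2 card_out_TT hp

end Cfsg.Agent.H743.MeetTits
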