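/-
helper743: `Meet p T` for simple groups with cyclic Sylow `p`-subgroups (used for S5762).
-/
import Mathlib
import Cfsg.Agent.H903.SylMeet

set_option autoImplicit false

namespace Cfsg.Agent.H743.MeetRank

open Cfsg.Agent.H903.SylMeet

/-- `1 + b + ... + b ^ (p - 1) ≡ p mod p²` for `b ≡ 1 mod p`, `p` odd. -/
theorem sum_pow_mod {p b : ℕ} (hp : p.Prime) (hp2 : p ≠ 2) (hb : (b : ZMod p) = 1) :
    ∃ k : ℕ, (∑ i ∈ Finset.range p, b ^ i) = p + p ^ 2 * k := by
  have := Fact.mk hp
  obtain ⟨m, hm⟩ : ∃ m, p = 2 * m + 1 := hp.odd_of_ne_two hp2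
  have hb1 : 1 ≤ b := by
    rcases Nat.eq_zero_or_pos b with h | h
    · subst h; simp at hb
    · exact h
  obtain ⟨c, hc⟩ : ∃ c, b = 1 + p * c := by
    have h1 : (1 : ℕ) ≡ b [MOD p] := by
      rw [← ZMod.natCast_eq_natCast_iff]; rw [hb]; simp
    obtain ⟨c, hc⟩ := (Nat.modEq_iff_dvd' hb1).1 h1
    exact ⟨c, by omega⟩
  have h2 : ∀ i : ℕ, ∃ d : ℕ, b ^ i = 1 + i * (p * c) + p ^ 2 * d := by
    intro i
    induction i with
    | zero => exact ⟨0, by simp⟩
    | succ j ih =>
      obtain ⟨d, hd⟩ := ih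
      refine ⟨d + j * c * c + p * c * d, ?_⟩
      rw [pow_succ, hd, hc]; ring
  choose d hd using h2
  refine ⟨c * m + ∑ i ∈ Finset.range p, d i, ?_⟩
  have h3 : (∑ i ∈ Finset.range p, b ^ i) = ∑ i ∈ Finset.range p, (1 + i * (p * c) + p ^ 2 * d i) :=
    Finset.sum_congr rfl fun i _ => hd i
  rw [h3, Finset.sum_add_distrib, Finset.sum_add_distrib, ← Finset.mul_sum, ← Finset.sum_mul]
  have h4 : (∑ i ∈ Finset.range p, i) = p * m := by
    have h5 := Finset.sum_range_id_mul_two p
    have h6 : p - 1 = 2 * m := by omega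
    rw [h6] at h5
    nlinarith
  rw [h4]
  simp
  ring

theorem conj_pow_pow {P : Type*} [Group P] {r x : P} {b : ℕ} (h : x * r * x⁻¹ = r ^ b) (n : ℕ) :
    x ^ n * r * (x ^ n)⁻¹ = r ^ (b ^ n) := by
  induction n with
  | zero => simp
  | succ k ih =>
    have h2 : x ^ (k + 1) * r * (x ^ (k + 1))⁻¹ = x * (x ^ k * r * (x ^ k)⁻¹) * x⁻¹ := by
      rw [pow_succ']; group
    rw [h2, ih, ← conj_pow, h, ← pow_mul, pow_succ']

/-- The power formula. -/
theorem mul_pow_of_conj {P : Type*} [Group P] {r x : P} {b : ℕ} (h : x * r * x⁻¹ = r ^ b) (n : ℕ) :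
    (r * x) ^ n = r ^ (∑ i ∈ Finset.range n, b ^ i) * x ^ n := by
  induction n with
  | zero => simp
  | succ k ih =>
    have h2 := conj_pow_pow h k
    have h3 : x ^ k * r = r ^ (b ^ k) * x ^ k := by
      rw [← h2]; group
    rw [pow_succ, ih, Finset.sum_range_succ, pow_add, pow_succ, ← mul_assoc (_ * x ^ k),
      mul_assoc (r ^ _) (x ^ k) r, h3]
    group

/-- Elements of order `p` of a `p`-group (`p` odd) congruent modulo a cyclic normal subgroup differ by
an element of order `p`. -/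
theorem pow_p_eq_one {p : ℕ} [Fact p.Prime] (hp2 : p ≠ 2) {P : Type*} [Group P] [Finite P]
    (hP : IsPGroup p P) (R : Subgroup P) [R.Normal] [IsCyclic R] {r x : P} (hr : r ∈ R)
    (h : (r * x) ^ p = 1) (hx : x ^ p = 1) : r ^ p = 1 := by
  have hp := (Fact.out : p.Prime)
  by_cases hr1 : r = 1
  · rw [hr1, one_pow]
  obtain ⟨b, hb⟩ : ∃ b : ℕ, x * r * x⁻¹ = r ^ b := by
    obtain ⟨g, hg⟩ := IsCyclic.exists_generator (α := R)
    have h1 : (⟨x * g * x⁻¹, ‹R.Normal›.conj_mem _ g.2 x⟩ : R) ∈ Submonoid.powers g := by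
      rw [mem_powers_iff_mem_zpowers]; exact hg _
    obtain ⟨b, hb⟩ := h1
    have h2 : (⟨r, hr⟩ : R) ∈ Submonoid.powers g := by
      rw [mem_powers_iff_mem_zpowers]; exact hg _
    obtain ⟨j, hj⟩ := h2
    refine ⟨b, ?_⟩
    have hb' : (g : P) ^ b = x * g * x⁻¹ := by simpa using congrArg Subtype.val hb
    have hj' : (g : P) ^ j = r := by simpa using congrArg Subtype.val hj
    rw [← hj', ← conj_pow, ← hb', ← pow_mul, ← pow_mul, mul_comm]
  obtain ⟨e, he⟩ := (IsPGroup.iff_orderOf.1 hP) x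
  obtain ⟨e', he'⟩ := (IsPGroup.iff_orderOf.1 hP) r
  have hpr : p ∣ orderOf r := by
    rw [he']
    apply dvd_pow_self
    rintro rfl
    exact hr1 (orderOf_eq_one_iff.1 (by simpa using he'))
  have hbp : (b : ZMod p) = 1 := by
    have h1 := conj_pow_pow hb (orderOf x)
    rw [pow_orderOf_eq_one, one_mul, inv_one, mul_one] at h1
    have h2 : 1 ≡ b ^ orderOf x [MOD orderOf r] := by
      rw [← pow_eq_pow_iff_modEq, pow_one]; exact h1
    have h3 : 1 ≡ b ^ orderOf x [MOD p] := h2.of_dvd hpr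
    rw [← ZMod.natCast_eq_natCast_iff, he, Nat.cast_pow, ZMod.pow_card_pow, Nat.cast_one] at h3
    exact h3.symm
  obtain ⟨k, hk⟩ := sum_pow_mod hp hp2 hbp
  rw [mul_pow_of_conj hb, hx, mul_one, hk] at h
  -- p ^ e' ∣ p (1 + p k)
  have h1 : orderOf r ∣ p * (1 + p * k) := by
    apply orderOf_dvd_of_pow_eq_one
    rw [← h]; congr 1; ring
  have h2 : Nat.Coprime (orderOf r) (1 + p * k) := by
    rw [he']
    apply Nat.Coprime.pow_left
    simp
  exact orderOf_dvd_iff_pow_eq_one.1 (h2.dvd_of_dvd_mul_right h1)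

/-- A metacyclic `p`-group (`p` odd) has at most `p²` elements with `x ^ p = 1`. -/
theorem card_omega_le {p : ℕ} [Fact p.Prime] (hp2 : p ≠ 2) {P : Type*} [Group P] [Fintype P]
    [DecidableEq P] (hP : IsPGroup p P) (R : Subgroup P) [R.Normal] [IsCyclic R]
    {C : Type*} [Group C] [Finite C] [IsCyclic C] (χ : P →* C) (hχ : ∀ x, χ x = 1 → x ∈ R) :
    (Finset.univ.filter fun x : P => x ^ p = 1).card ≤ p ^ 2 := by
  classical
  have hp := (Fact.out : p.Prime)
  have hZ : (Finset.univ.filter fun x : P => x ∈ R ∧ x ^ p = 1).card ≤ p := by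
    have h1 : (Finset.univ.filter fun c : R => c ^ p = 1).card ≤ p :=
      IsCyclic.card_pow_eq_one_le hp.pos
    refine le_trans ?_ h1
    refine Finset.card_le_card_of_surjOn (fun c : R => (c : P)) ?_
    intro x hx
    simp only [Finset.coe_filter, Finset.mem_univ, true_and, Set.mem_ofPred_eq] at hx
    refine ⟨⟨x, hx.1⟩, ?_, rfl⟩
    simp only [Finset.coe_filter, Finset.mem_univ, true_and, Set.mem_ofPred_eq]
    apply Subtype.ext
    simpa using hx.2
  by_cases hy : ∃ y : P, y ^ p = 1 ∧ χ y ≠ 1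
  · obtain ⟨y, hyp, hy1⟩ := hy
    have hsub : (Finset.univ.filter fun x : P => x ^ p = 1) ⊆
        ((Finset.univ.filter fun x : P => x ∈ R ∧ x ^ p = 1) ×ˢ (Finset.range p)).image
          fun z : P × ℕ => z.1 * y ^ z.2 := by
      intro x hx
      simp only [Finset.mem_filter, Finset.mem_univ, true_and] at hx
      obtain ⟨k, hk⟩ := mem_zpowers_of_cyclic (p := p) (χ y) (χ x) (by rw [← map_pow, hyp, map_one])
        hy1 (by rw [← map_pow, hx, map_one])
      -- reduce the exponent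
      have hpz : (p : ℤ) ≠ 0 := by exact_mod_cast hp.ne_zero
      have hk0 : 0 ≤ k % (p : ℤ) := Int.emod_nonneg _ hpz
      have hk1 : k % (p : ℤ) < p := Int.emod_lt_of_pos _ (by exact_mod_cast hp.pos)
      set j : ℕ := (k % (p : ℤ)).toNat with hj
      have hjk : (j : ℤ) = k % (p : ℤ) := by rw [hj, Int.toNat_of_nonneg hk0]
      have hyk : y ^ k = y ^ j := by
        have h1 : k = j + p * (k / p) := by
          rw [hjk]; exact (Int.emod_add_mul_ediv k p).symm
        conv_lhs => rw [h1]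
        rw [zpow_add, zpow_mul, zpow_natCast, zpow_natCast, hyp, one_zpow, mul_one]
      have hr : x * (y ^ j)⁻¹ ∈ R := by
        apply hχ
        rw [map_mul, map_inv, ← hyk, map_zpow, hk, mul_inv_cancel]
      rw [Finset.mem_image]
      refine ⟨(x * (y ^ j)⁻¹, j), ?_, by simp⟩
      rw [Finset.mem_product]
      refine ⟨?_, Finset.mem_range.2 (by omega)⟩
      simp only [Finset.mem_filter, Finset.mem_univ, true_and]
      refine ⟨hr, pow_p_eq_one hp2 hP R hr (x := y ^ j) (by simpa using hx) ?_⟩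
      rw [← pow_mul, mul_comm, pow_mul, hyp, one_pow]
    refine (Finset.card_le_card hsub).trans (Finset.card_image_le.trans ?_)
    rw [Finset.card_product, Finset.card_range, sq]
    exact Nat.mul_le_mul_right _ hZ
  · push Not at hy
    have hsub : (Finset.univ.filter fun x : P => x ^ p = 1) ⊆
        (Finset.univ.filter fun x : P => x ∈ R ∧ x ^ p = 1) := by
      intro x hx
      simp only [Finset.mem_filter, Finset.mem_univ, true_and] at hx ⊢
      exact ⟨hχ x (hy x hx), hx⟩
    refine (Finset.card_le_card hsub).trans (hZ.trans ?_)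
    exact Nat.le_self_pow (by norm_num) p

/-- The number of subgroups of order `p`. -/
theorem card_order_p_mul_le' {p : ℕ} [Fact p.Prime] {A : Type*} [Group A] [Fintype A]
    {P : Subgroup A} [Fintype P] [DecidableEq P] {s : ℕ}
    (hs : (Finset.univ.filter fun x : P => x ^ p = 1).card ≤ s) (𝒴 : Finset (Subgroup A))
    (h𝒴 : ∀ Y ∈ 𝒴, Y ≤ P ∧ Nat.card Y = p) : 𝒴.card * (p - 1) ≤ s - 1 := by
  classical
  let E : Subgroup A → Finset A := fun Y => Finset.univ.filter fun y => y ∈ Y ∧ y ≠ 1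
  have hE : ∀ Y ∈ 𝒴, (E Y).card = p - 1 := by
    intro Y hY
    have h1 : insert 1 (E Y) = Finset.univ.filter fun y => y ∈ Y := by
      ext y
      simp only [E, Finset.mem_insert, Finset.mem_filter, Finset.mem_univ, true_and]
      constructor
      · rintro (rfl | h)
        · exact Y.one_mem
        · exact h.1
      · intro h
        by_cases h' : y = 1
        · exact Or.inl h'
        · exact Or.inr ⟨h, h'⟩
    have h2 : (insert 1 (E Y)).card = p := by
      rw [h1, ← (h𝒴 Y hY).2, Nat.card_eq_fintype_card, Fintype.card_subtype]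
    rw [Finset.card_insert_of_notMem (by simp [E])] at h2
    omega
  have hord : ∀ Y ∈ 𝒴, ∀ y ∈ Y, y ≠ 1 → orderOf y = p := by
    intro Y hY y hy hy1
    have h3 : orderOf y ∣ p := by
      rw [← (h𝒴 Y hY).2]
      exact Subgroup.orderOf_dvd_natCard Y hy
    rcases ((Fact.out : p.Prime).eq_one_or_self_of_dvd _ h3) with h4 | h4
    · exact absurd (orderOf_eq_one_iff.1 h4) hy1
    · exact h4
  have hdisj : ∀ Y ∈ 𝒴, ∀ Y' ∈ 𝒴, Y ≠ Y' → Disjoint (E Y) (E Y') := by
    intro Y hY Y' hY' hne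
    rw [Finset.disjoint_left]
    intro y hy hy'
    simp only [E, Finset.mem_filter, Finset.mem_univ, true_and] at hy hy'
    apply hne
    have key : ∀ Z ∈ 𝒴, y ∈ Z → Subgroup.zpowers y = Z := by
      intro Z hZ hyZ
      apply Subgroup.eq_of_le_of_card_ge (by simpa using hyZ)
      rw [(h𝒴 Z hZ).2, Nat.card_zpowers]
      exact (hord Z hZ y hyZ hy.2).ge
    rw [← key Y hY hy.1, ← key Y' hY' hy'.1]
  have hsub : (𝒴.biUnion E) ⊆
      (((Finset.univ.filter fun x : P => x ^ p = 1).erase 1).image fun x : P => (x : A)) := by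
    intro y hy
    simp only [Finset.mem_biUnion, E, Finset.mem_filter, Finset.mem_univ, true_and,
      Finset.mem_erase, Finset.mem_image] at hy ⊢
    obtain ⟨Y, hY, h1, h2⟩ := hy
    refine ⟨⟨y, (h𝒴 Y hY).1 h1⟩, ⟨fun h => h2 (congrArg Subtype.val h), ?_⟩, rfl⟩
    apply Subtype.ext
    have := pow_orderOf_eq_one y
    rw [hord Y hY y h1 h2] at this
    simpa using this
  have h1 := (Finset.card_le_card hsub).trans Finset.card_image_le
  rw [Finset.card_biUnion hdisj, Finset.sum_congr rfl hE, Finset.sum_const, smul_eq_mul,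
    Finset.card_erase_of_mem (by simp)] at h1
  omega

/-- **Rank one.** `T` simple with cyclic `p`-subgroups, such that the `p`-elements of `Aut T` in the kernel of
`χ : Aut T → C` (`C` cyclic) are inner. -/
theorem meet_rank_one {p : ℕ} [Fact p.Prime] (hp2 : p ≠ 2) {T : Type*} [Group T] [Finite T]
    [IsSimpleGroup T] (hT : ¬ IsMulCommutative T)
    {C : Type*} [Group C] [Finite C] [IsCyclic C] (χ : MulAut T →* C)
    (hχ : ∀ a : MulAut T, (∃ k, a ^ p ^ k = 1) → χ a = 1 → ∃ t, MulAut.conj t = a)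
    (hcyc : ∀ R : Subgroup T, IsPGroup p R → IsCyclic R) {m : ℕ}
    (hm : ∀ H : Subgroup T, H ≠ ⊤ → m ≤ H.index)
    (hpm : p ∣ Nat.card C → p ∣ Nat.card T → (p + 1) ^ 2 < m) : Meet p T := by
  classical
  have hp := (Fact.out : p.Prime)
  obtain ⟨P⟩ : Nonempty (Sylow p (MulAut T)) := inferInstance
  have hpP : ∀ a ∈ (P : Subgroup (MulAut T)), ∃ k, a ^ p ^ k = 1 := fun a ha => by
    obtain ⟨k, hk⟩ := P.isPGroup' ⟨a, ha⟩
    exact ⟨k, by simpa using congrArg Subtype.val hk⟩
  -- the inner part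
  let R₀ : Subgroup T := (P : Subgroup (MulAut T)).comap MulAut.conj
  have hR₀p : IsPGroup p R₀ := P.isPGroup'.comap_of_injective _ (conj_injective hT)
  have hR₀c : IsCyclic R₀ := hcyc _ hR₀p
  let R : Subgroup P := (MulAut.conj : T →* MulAut T).range.subgroupOf (P : Subgroup (MulAut T))
  have hRmem : ∀ a : P, a ∈ R ↔ ∃ t : T, MulAut.conj t = (a : MulAut T) := fun a => Iff.rfl
  have hRn : R.Normal := ⟨by
    rintro n hn g
    rw [hRmem] at hn ⊢
    obtain ⟨t, ht⟩ := hn
    refine ⟨(g : MulAut T) t, ?_⟩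
    rw [← conj_apply_aut, ht]
    simp⟩
  have hRc : IsCyclic R := by
    let f : R₀ →* R :=
      { toFun := fun t => ⟨⟨MulAut.conj (t : T), t.2⟩, (hRmem _).2 ⟨t, rfl⟩⟩
        map_one' := by
          apply Subtype.ext; apply Subtype.ext; simp
        map_mul' := fun a b => by
          apply Subtype.ext; apply Subtype.ext; simp }
    have hf : Function.Surjective f := by
      rintro ⟨⟨a, ha⟩, h⟩
      obtain ⟨t, ht⟩ := (hRmem _).1 h
      refine ⟨⟨t, ?_⟩, ?_⟩
      · change MulAut.conj t ∈ (P : Subgroup (MulAut T))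
        rw [ht]; exact ha
      · apply Subtype.ext; apply Subtype.ext
        exact ht
    exact isCyclic_of_surjective f hf
  let χ' : P →* C := χ.comp (P : Subgroup (MulAut T)).subtype
  have hχ' : ∀ x : P, χ' x = 1 → x ∈ R := fun x hx => (hRmem x).2 (hχ _ (hpP _ x.2) hx)
  by_cases hpC : p ∣ Nat.card C
  · by_cases hpT : p ∣ Nat.card T
    · apply meet_of_sylow P
      have hfin : Fintype (MulAut T) := Fintype.ofFinite _
      have hfin' : Fintype (Subgroup (MulAut T)) := Fintype.ofFinite _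
      let 𝒴 : Finset (Subgroup (MulAut T)) :=
        Finset.univ.filter fun Y => Y ≤ (P : Subgroup (MulAut T)) ∧ Nat.card Y = p
      have h1 := card_omega_le hp2 P.isPGroup' R χ' hχ'
      have h2 : 𝒴.card * (p - 1) ≤ p ^ 2 - 1 :=
        card_order_p_mul_le' (P := (P : Subgroup (MulAut T))) h1 𝒴
          (fun Y hY => by simpa [𝒴] using hY)
      refine good_of_minIndex (m := m) (s := p + 1) hT hm P.isPGroup' 𝒴
        (fun Y hY hc => Finset.mem_filter.2 ⟨Finset.mem_univ _, hY, hc⟩) ?_ (hpm hpC hpT)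
      have h3 : p ^ 2 - 1 = (p + 1) * (p - 1) := by
        have := hp.one_lt
        obtain ⟨k, rfl⟩ : ∃ k, p = k + 1 := ⟨p - 1, by omega⟩
        simp only [Nat.add_sub_cancel]
        have : (k + 1) ^ 2 = (k + 1 + 1) * k + 1 := by ring
        omega
      rw [h3] at h2
      exact Nat.le_of_mul_le_mul_right h2 (by have := hp.one_lt; omega)
    · -- no inner p-elements: P embeds in C
      have hR1 : ∀ x : P, x ∈ R → x = 1 := by
        intro x hx
        obtain ⟨t, ht⟩ := (hRmem _).1 hx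
        obtain ⟨k, hk⟩ := hpP _ x.2
        rw [← ht, ← map_pow] at hk
        have h1 : t ^ p ^ k = 1 := conj_injective hT (by rw [hk, map_one])
        have h2 : orderOf t ∣ p ^ k := orderOf_dvd_of_pow_eq_one h1
        have h3 : orderOf t ∣ Nat.card T := orderOf_dvd_natCard t
        have h4 : Nat.Coprime (p ^ k) (Nat.card T) :=
          Nat.Coprime.pow_left _ ((hp.coprime_iff_not_dvd).2 hpT)
        have h5 : orderOf t = 1 := Nat.eq_one_of_dvd_coprimes h4 h2 h3
        rw [orderOf_eq_one_iff] at h5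
        apply Subtype.ext
        rw [← ht, h5, map_one]; rfl
      have hinj : Function.Injective χ' := by
        rw [injective_iff_map_eq_one]
        intro a ha
        exact hR1 a (hχ' a ha)
      apply meet_of_comm hT P
      intro a ha b hb
      let _ : CommGroup C := IsCyclic.commGroup
      have : (⟨a, ha⟩ : P) * ⟨b, hb⟩ = ⟨b, hb⟩ * ⟨a, ha⟩ := by
        apply hinj
        rw [map_mul, map_mul]
        exact mul_comm _ _
      exact congrArg Subtype.val this
  · -- P is inner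
    have hx1 : ∀ x : P, χ' x = 1 := by
      intro x
      obtain ⟨k, hk⟩ := hpP _ x.2
      have h2 : orderOf (χ' x) ∣ p ^ k := by
        apply orderOf_dvd_of_pow_eq_one
        rw [← map_pow]
        have : x ^ p ^ k = 1 := by apply Subtype.ext; simpa using hk
        rw [this, map_one]
      have h3 : orderOf (χ' x) ∣ Nat.card C := orderOf_dvd_natCard _
      have h4 : Nat.Coprime (p ^ k) (Nat.card C) :=
        Nat.Coprime.pow_left _ ((hp.coprime_iff_not_dvd).2 hpC)
      exact orderOf_eq_one_iff.1 (Nat.eq_one_of_dvd_coprimes h4 h2 h3)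
    apply meet_of_comm hT P
    intro a ha b hb
    let _ : CommGroup R := IsCyclic.commGroup
    have h1 : (⟨⟨a, ha⟩, hχ' _ (hx1 _)⟩ : R) * ⟨⟨b, hb⟩, hχ' _ (hx1 _)⟩
        = ⟨⟨b, hb⟩, hχ' _ (hx1 _)⟩ * ⟨⟨a, ha⟩, hχ' _ (hx1 _)⟩ := mul_comm _ _
    exact congrArg Subtype.val (congrArg Subtype.val h1)

end Cfsg.Agent.H743.MeetRank
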