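/-
helper743: `Meet p (PSL₂(q))`, `p ≥ 5` prime to `q` (used for S5762).
-/
import Mathlib
import Cfsg.Agent.H743.MeetRank
import Cfsg.Agent.CpAutRee.PslThree
import Cfsg.Agent.LieRecognition.FieldSemilinear
import Cfsg.Agent.H382.FieldAction
import Cfsg.Agent.S0262
import Cfsg.Agent.S0806
import Cfsg.Agent.SmallSimple.PSLTwoPart
import Cfsg.Agent.TwoFusion.SLTwoFacts
import Cfsg.Agent.ClassicalGeometry.PSL2Solvable

set_option autoImplicit false

namespace Cfsg.Agent.H743.MeetPSL2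

open Matrix Cfsg
open Cfsg.Agent.ClassicalGeometry.AutPSL.Root
open Cfsg.Agent.ClassicalGeometry.AutPSL.Auto
open Cfsg.Agent.ClassicalGeometry.AutPSL.Main
open Cfsg.Agent.H903.SylMeet

variable {F : Type} [Field F] [Fintype F]

local notation "T" => Matrix.ProjectiveSpecialLinearGroup (Fin 2) F

/-- the linear automorphisms -/
def D (F : Type) [Field F] : Subgroup (MulAut (Matrix.ProjectiveSpecialLinearGroup (Fin 2) F)) :=
  ((lift (ι := Fin 2) (F := F)).comp (cj (ι := Fin 2) (F := F))).range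

theorem mem_D {a : MulAut T} : a ∈ D F ↔ ∃ A : GL (Fin 2) F, lift (cj A) = a := Iff.rfl

instance normal_D : (D F).Normal := ⟨by
  obtain ⟨r, hchar⟩ := CharP.exists F
  have hr : r.Prime := CharP.char_is_prime F r
  have : Fact r.Prime := ⟨hr⟩
  rintro n hn g
  obtain ⟨A, rfl⟩ := mem_D.1 hn
  obtain ⟨B, σ, rfl⟩ := surj_two r g
  rw [mem_D]
  refine ⟨B * CpAutRee.PslThree.gm σ A * B⁻¹, ?_⟩
  rw [← map_mul, ← map_inv, ← map_mul]
  congr 1
  have h1 : cj B * fld σ * cj A = cj B * (cj (CpAutRee.PslThree.gm σ A) * fld σ) := by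
    rw [mul_assoc, CpAutRee.PslThree.fld_mul_cj]
  rw [map_mul, map_mul, map_inv, h1]
  group⟩

theorem isCyclic_quot : IsCyclic (MulAut T ⧸ D F) ∧ Nat.card (MulAut T ⧸ D F) ∣ Nat.card (F ≃+* F) := by
  obtain ⟨r, hchar⟩ := CharP.exists F
  have hr : r.Prime := CharP.char_is_prime F r
  have : Fact r.Prime := ⟨hr⟩
  let ψ : (F ≃+* F) →* MulAut T ⧸ D F :=
    (QuotientGroup.mk' (D F)).comp ((lift (ι := Fin 2) (F := F)).comp (fld (ι := Fin 2) (F := F)))
  have hψ : Function.Surjective ψ := by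
    intro x
    obtain ⟨g, rfl⟩ := QuotientGroup.mk_surjective x
    obtain ⟨B, σ, rfl⟩ := surj_two r g
    refine ⟨σ, ?_⟩
    change ((lift (fld σ) : MulAut T) : MulAut T ⧸ D F) = _
    rw [map_mul, QuotientGroup.mk_mul]
    have : ((lift (cj B) : MulAut T) : MulAut T ⧸ D F) = 1 := by
      rw [QuotientGroup.eq_one_iff]; exact mem_D.2 ⟨B, rfl⟩
    rw [this, one_mul]
  have hc : IsCyclic (F ≃+* F) := LieRecognition.FieldSemilinear.isCyclic_ringAut F
  exact ⟨isCyclic_of_surjective ψ hψ, Subgroup.card_dvd_of_surjective ψ hψ⟩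

theorem inner_of_D {a : MulAut T} {n : ℕ} (hn : Odd n) (ha : a ^ n = 1) (hD : a ∈ D F) :
    ∃ t : T, MulAut.conj t = a := by
  obtain ⟨A, rfl⟩ := mem_D.1 hD
  obtain ⟨k, hk⟩ := hn
  have h1 : lift (cj A) = lift (cj (A ^ (k + 1) * A ^ (k + 1))) := by
    rw [← pow_add, map_pow, map_pow]
    have : k + 1 + (k + 1) = n + 1 := by omega
    rw [this, pow_succ, ha, one_mul]
  obtain ⟨g, hg⟩ := CpAutRee.PslThree.lift_cj_inner (A := A ^ (k + 1) * A ^ (k + 1))
    (c := ((A ^ (k + 1) : GL (Fin 2) F) : Matrix (Fin 2) (Fin 2) F).det) (by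
      rw [Units.val_mul, det_mul, sq])
  exact ⟨g, by rw [← hg, h1]⟩

theorem isCyclic_of_isPGroup {p : ℕ} [Fact p.Prime] (hp2 : p ≠ 2) (hpF : ¬ p ∣ Fintype.card F)
    (R : Subgroup T) (hR : IsPGroup p R) : IsCyclic R := by
  obtain ⟨r, hchar⟩ := CharP.exists F
  have hr : r.Prime := CharP.char_is_prime F r
  have : Fact r.Prime := ⟨hr⟩
  have hne : p ≠ r := by
    rintro rfl
    apply hpF
    obtain ⟨n, hn⟩ := FiniteField.card F p
    rw [hn.2]
    exact dvd_pow_self p n.ne_zero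
  obtain ⟨P, hP⟩ := hR.exists_le_sylow
  let f : SpecialLinearGroup (Fin 2) F →* T := QuotientGroup.mk' _
  have hf : Function.Surjective f := QuotientGroup.mk'_surjective _
  obtain ⟨Q, hQ⟩ := Sylow.mapSurjective_surjective hf p P
  have hc := S0262.isCyclic_of_isPGroup r p hp2 hne (Q : Subgroup (SpecialLinearGroup (Fin 2) F)) Q.isPGroup'
  have h1 : ((Q.mapSurjective hf : Sylow p T) : Subgroup T) =
      (Q : Subgroup (SpecialLinearGroup (Fin 2) F)).map f := Sylow.coe_mapSurjective hf Q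
  have h2 : IsCyclic ((Q : Subgroup (SpecialLinearGroup (Fin 2) F)).map f) :=
    isCyclic_of_surjective (f.subgroupMap (Q : Subgroup (SpecialLinearGroup (Fin 2) F)))
      (f.subgroupMap_surjective _)
  rw [← h1, hQ] at h2
  exact isCyclic_of_injective (Subgroup.inclusion hP) (Subgroup.inclusion_injective hP)

theorem sq_lt_four_pow {p : ℕ} (hp : 5 ≤ p) : (p + 1) ^ 2 < 4 ^ p := by
  induction p, hp using Nat.le_induction with
  | base => norm_num
  | succ n hn ih =>
    rw [pow_succ 4]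
    nlinarith

/-- **S5762, `PSL₂(q)`, cross characteristic.** -/
theorem cross_PSL2 (hF : 4 ≤ Fintype.card F) {p : ℕ} [Fact p.Prime] (hp : 5 ≤ p)
    (hpF : ¬ p ∣ Fintype.card F) : Meet p (Matrix.ProjectiveSpecialLinearGroup (Fin 2) F) := by
  have hpp := (Fact.out : p.Prime)
  have hsimple : IsSimpleGroup T := TwoFusion.SLTwoFacts.isSimpleGroup_psl (F := F) hF
  have hT : ¬ IsMulCommutative T := by
    intro h
    apply ClassicalGeometry.PSL2Solvable.not_isSolvable_psl F hF
    exact Group.isSolvable_of_comm h.is_comm.comm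
  obtain ⟨hC, hCd⟩ := isCyclic_quot (F := F)
  obtain ⟨r, hchar⟩ := CharP.exists F
  have hr : r.Prime := CharP.char_is_prime F r
  have : Fact r.Prime := ⟨hr⟩
  obtain ⟨f, -, hf⟩ := FiniteField.card F r
  have hcard : Nat.card (F ≃+* F) = f := (H382.FieldAction.card_ringAut_dvd F (by
    rw [Nat.card_eq_fintype_card, hf])).1
  by_cases hpC : p ∣ Nat.card (MulAut T ⧸ D F) ∧ p ∣ Nat.card T
  · have hpf : p ∣ (f : ℕ) := by
      rw [← hcard]; exact hpC.1.trans hCd
    obtain ⟨f₀, hf₀⟩ := hpf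
    have hq : Fintype.card F = (r ^ f₀) ^ p := by rw [hf, hf₀, mul_comm, pow_mul]
    obtain ⟨q₀, hq₀⟩ : ∃ q₀, q₀ = r ^ f₀ := ⟨_, rfl⟩
    rw [← hq₀] at hq
    have hdv : p ∣ Fintype.card F ^ 2 - 1 := by
      have h1 : p ∣ Fintype.card F * (Fintype.card F ^ 2 - 1) := by
        rcases Nat.even_or_odd (Fintype.card F) with h | h
        · rw [← SmallSimple.PSLTwoPart.card_psl_two_even h]; exact hpC.2
        · rw [← SmallSimple.PSLTwoPart.card_psl_two_odd h]; exact hpC.2.mul_left _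
      exact (hpp.dvd_mul.1 h1).resolve_left hpF
    have hq4 : 4 ≤ q₀ := by
      by_contra hlt
      have h0 : 0 < q₀ := by rw [hq₀]; exact pow_pos hr.pos _
      have h2 : ((q₀ : ZMod p)) ^ 2 = 1 := by
        have h3 : ((Fintype.card F ^ 2 : ℕ) : ZMod p) = ((1 : ℕ) : ZMod p) := by
          rw [ZMod.natCast_eq_natCast_iff]
          exact ((Nat.modEq_iff_dvd' (Nat.one_le_pow _ _ (by omega))).2 hdv).symm
        rw [hq] at h3
        push_cast at h3
        rwa [ZMod.pow_card] at h3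
      have h3 : ((q₀ ^ 2 : ℕ) : ZMod p) = ((1 : ℕ) : ZMod p) := by push_cast; exact h2
      rw [ZMod.natCast_eq_natCast_iff] at h3
      have h4 := (Nat.modEq_iff_dvd' (Nat.one_le_pow 2 _ h0)).1 h3.symm
      have h5 : q₀ = 1 ∨ q₀ = 2 ∨ q₀ = 3 := by omega
      rcases h5 with h5 | h5 | h5
      · rw [h5, one_pow] at hq; omega
      · rw [h5] at h4
        have := Nat.le_of_dvd (by norm_num) h4
        norm_num at this
        omega
      · rw [h5] at h4
        have h6 : p ∣ 2 ^ 3 := by simpa using h4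
        have := (Nat.prime_dvd_prime_iff_eq hpp Nat.prime_two).1 (hpp.dvd_of_dvd_pow h6)
        omega
    have hbig : 4 ^ p ≤ Fintype.card F := by rw [hq]; exact Nat.pow_le_pow_left hq4 p
    have h4p : 4 ^ 5 ≤ 4 ^ p := Nat.pow_le_pow_right (by norm_num) hp
    refine MeetRank.meet_rank_one (p := p) (by omega) hT (QuotientGroup.mk' (D F)) ?_
      (fun R hR => isCyclic_of_isPGroup (by omega) hpF R hR) (m := Fintype.card F + 1)
      (S0806.result (F := F) rfl (by
        simp only [Finset.mem_insert, Finset.mem_singleton, not_or]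
        norm_num at h4p
        omega)).1 ?_
    · rintro a ⟨k, hk⟩ ha
      exact inner_of_D ((hpp.odd_of_ne_two (by omega)).pow (n := k)) hk
        ((QuotientGroup.eq_one_iff a).1 ha)
    · intro _ _
      have := sq_lt_four_pow hp
      omega
  · refine MeetRank.meet_rank_one (p := p) (by omega) hT (QuotientGroup.mk' (D F)) ?_
      (fun R hR => isCyclic_of_isPGroup (by omega) hpF R hR) (m := 0)
      (fun H _ => Nat.zero_le _) (fun h1 h2 => absurd ⟨h1, h2⟩ hpC)
    rintro a ⟨k, hk⟩ ha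
    exact inner_of_D ((hpp.odd_of_ne_two (by omega)).pow (n := k)) hk
      ((QuotientGroup.eq_one_iff a).1 ha)

end Cfsg.Agent.H743.MeetPSL2
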