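import Mathlib
import Cfsg.Agent.H185.MeetChar

/-!
# Sylow subgroups of `Aut T` meeting trivially: one element (helper743)

`meet_of_pair`: `U` is a Sylow `p`-subgroup of `T`, `st : Γ →* Aut T` normalises `U`, `|Out T|` divides `m |Γ|`, `p ∤ m`,
and `x u (st γ x)⁻¹ ∈ U` implies `u = 1`, `γ = 1`.
-/

set_option autoImplicit false

namespace Cfsg.Agent.H743.MeetPair

open Cfsg.Agent.H903.SylMeet Cfsg.Agent.H185.MeetChar

variable {p : ℕ} [Fact p.Prime] {T : Type*} [Group T]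

theorem meet_of_pair [Finite T] [IsSimpleGroup T] (hT : ¬ IsMulCommutative T)
    {U : Subgroup T} (hU : IsPGroup p U) (hUi : ¬ p ∣ U.index)
    {Γ : Type*} [Group Γ] [Finite Γ] (st : Γ →* MulAut T) (hst : ∀ γ, ∀ u ∈ U, st γ u ∈ U)
    {m : ℕ} (hm : ¬ p ∣ m) (hout : Nat.card (Cfsg.Out T) ∣ m * Nat.card Γ) (x : T)
    (hx : ∀ u ∈ U, ∀ γ, (∃ n, γ ^ p ^ n = 1) → x * u * (st γ x)⁻¹ ∈ U → u = 1 ∧ γ = 1) : Meet p T := by
  have hp : p.Prime := Fact.out
  have hinj := conj_injective (T := T) hT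
  obtain ⟨S⟩ : Nonempty (Sylow p Γ) := inferInstance
  have hS : ∀ γ ∈ (S : Subgroup Γ), ∃ n, γ ^ p ^ n = 1 := by
    intro γ hγ
    obtain ⟨n, hn⟩ := S.isPGroup' ⟨γ, hγ⟩
    exact ⟨n, by simpa using congrArg Subtype.val hn⟩
  -- `D ∩ Inn T = 1`
  have hDI : ∀ γ ∈ (S : Subgroup Γ), ∀ g : T, MulAut.conj g = st γ → γ = 1 := by
    intro γ hγ g hg
    obtain ⟨n, hn⟩ := hS γ hγ
    have hgn : g ^ p ^ n = 1 := by
      apply hinj
      rw [map_pow, hg, ← map_pow, hn, map_one, map_one]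
    have hgU : g ∈ U := by
      apply Cfsg.Agent.H185.MeetChar.mem_of_normalises hU hUi hgn
      intro u hu
      have := hst γ u hu
      rw [← hg] at this
      exact this
    refine (hx g⁻¹ (inv_mem hgU) γ ⟨n, hn⟩ ?_).2
    rw [← hg, MulAut.conj_apply]
    have : x * g⁻¹ * (g * x * g⁻¹)⁻¹ = x * g⁻¹ * g * x⁻¹ * g⁻¹ := by group
    rw [this]
    have : x * g⁻¹ * g * x⁻¹ * g⁻¹ = g⁻¹ := by group
    rw [this]
    exact inv_mem hgU
  have huniq : ∀ u' ∈ U, ∀ γ ∈ (S : Subgroup Γ), ∀ γ' ∈ (S : Subgroup Γ), ∀ g : T,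
      MulAut.conj g * st γ = MulAut.conj u' * st γ' → γ = γ' ∧ g = u' := by
    intro u' _ γ hγ γ' hγ' g h
    have h1 : MulAut.conj (u'⁻¹ * g) = st (γ' * γ⁻¹) := by
      rw [map_mul, map_mul, map_inv, map_inv, inv_mul_eq_iff_eq_mul, ← mul_assoc, ← h, mul_assoc, mul_inv_cancel,
        mul_one]
    have h2 := hDI _ (mul_mem hγ' (inv_mem hγ)) _ h1
    have h3 : γ = γ' := (mul_inv_eq_one.1 h2).symm
    refine ⟨h3, ?_⟩
    subst h3
    exact hinj (mul_right_cancel h)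
  -- the order of `P`
  have hcard : Nat.card ↥(PP U (S : Subgroup Γ) st hst) = Nat.card U * Nat.card S := by
    rw [← Nat.card_prod]
    symm
    refine Nat.card_congr (Equiv.ofBijective (fun a => ⟨MulAut.conj (a.1 : T) * st (a.2 : Γ),
      ⟨a.1, a.1.2, a.2, a.2.2, rfl⟩⟩) ⟨?_, ?_⟩)
    · rintro ⟨⟨u, hu⟩, ⟨γ, hγ⟩⟩ ⟨⟨u', hu'⟩, ⟨γ', hγ'⟩⟩ h
      obtain ⟨h1, h2⟩ := huniq u' hu' γ hγ γ' hγ' u (congrArg Subtype.val h)
      subst h1
      subst h2
      rfl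
    · rintro ⟨y, u, hu, γ, hγ, rfl⟩
      exact ⟨⟨⟨u, hu⟩, ⟨γ, hγ⟩⟩, rfl⟩
  obtain ⟨a, ha⟩ := hU.exists_card_eq
  obtain ⟨b, hb⟩ := S.isPGroup'.exists_card_eq
  have hPp : IsPGroup p ↥(PP U (S : Subgroup Γ) st hst) := by
    apply IsPGroup.of_card (n := a + b)
    rw [hcard, ha, hb, pow_add]
  refine meet_of_index (PP U (S : Subgroup Γ) st hst) hPp ?_ ?_
  · intro hdvd
    have h1 := Subgroup.card_mul_index (PP U (S : Subgroup Γ) st hst)
    rw [hcard, ← Cfsg.Agent.H934.OutB.card_out_mul T hT] at h1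
    have h2 := U.card_mul_index
    have h3 := (S : Subgroup Γ).card_mul_index
    have h4 : p * (Nat.card U * Nat.card S) ∣ m * (Nat.card S * (S : Subgroup Γ).index) * (Nat.card U * U.index) := by
      rw [h2, h3]
      refine dvd_trans ?_ (mul_dvd_mul_right hout _)
      rw [← h1, mul_comm p]
      exact mul_dvd_mul_left _ hdvd
    have h5 : m * (Nat.card S * (S : Subgroup Γ).index) * (Nat.card U * U.index) =
        (m * (S : Subgroup Γ).index * U.index) * (Nat.card U * Nat.card S) := by ring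
    rw [h5] at h4
    have h6 := Nat.dvd_of_mul_dvd_mul_right (Nat.mul_pos Nat.card_pos Nat.card_pos) h4
    rcases (hp.dvd_mul.1 h6) with h7 | h7
    · rcases (hp.dvd_mul.1 h7) with h8 | h8
      · exact hm h8
      · exact S.not_dvd_index h8
    · exact hUi h7
  · refine ⟨x, ?_⟩
    rintro _ ⟨u, hu, γ, hγ, rfl⟩ h
    rw [conj_mul_aut] at h
    obtain ⟨u', hu', γ', hγ', h'⟩ := h
    obtain ⟨-, h1⟩ := huniq u' hu' γ hγ γ' hγ' _ h'
    obtain ⟨h3, h4⟩ := hx u hu γ (hS γ hγ) (by rw [h1]; exact hu')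
    rw [h3, h4, map_one, map_one, mul_one]

end Cfsg.Agent.H743.MeetPair
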