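/-
helper743: `Meet 3 (PSL₂(q))` (used for S2484 / S5760).
-/
import Mathlib
import Cfsg.Agent.H743.MeetPair
import Cfsg.Agent.H743.MeetPSL2
import Cfsg.Agent.H124.OutIdx

set_option autoImplicit false

namespace Cfsg.Agent.H743.MeetPslThree

open Matrix Cfsg
open Cfsg.Agent.ClassicalGeometry.AutPSL.Root
open Cfsg.Agent.ClassicalGeometry.AutPSL.Auto
open Cfsg.Agent.ClassicalGeometry.AutPSL.Main
open Cfsg.Agent.H903.SylMeet

variable {F : Type} [Field F]

local notation "SL" => Matrix.SpecialLinearGroup (Fin 2) F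
local notation "T" => Matrix.ProjectiveSpecialLinearGroup (Fin 2) F

/-- upper unipotent -/
def up (t : F) : SL := ⟨!![1, t; 0, 1], by simp [Matrix.det_fin_two_of]⟩

/-- lower unipotent -/
def lo (t : F) : SL := ⟨!![1, 0; t, 1], by simp [Matrix.det_fin_two_of]⟩

theorem up_val (t : F) : (up t : Matrix (Fin 2) (Fin 2) F) = !![1, t; 0, 1] := rfl

theorem lo_val (t : F) : (lo t : Matrix (Fin 2) (Fin 2) F) = !![1, 0; t, 1] := rfl

/-- projection -/
def q : SL →* T := QuotientGroup.mk' _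

theorem eq_smul {A B : SL} (h : q A = q B) :
    ∃ c : F, c ^ 2 = 1 ∧ (A : Matrix (Fin 2) (Fin 2) F) = c • (B : Matrix (Fin 2) (Fin 2) F) := by
  have h1 : A⁻¹ * B ∈ Subgroup.center SL := QuotientGroup.eq.1 h
  obtain ⟨c, hc, hcB⟩ := Matrix.SpecialLinearGroup.mem_center_iff.1 h1
  rw [Fintype.card_fin] at hc
  have h2 : (B : Matrix (Fin 2) (Fin 2) F) = c • (A : Matrix (Fin 2) (Fin 2) F) := by
    have h3 : B = A * (A⁻¹ * B) := by group
    rw [h3, Matrix.SpecialLinearGroup.coe_mul, ← hcB]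
    ext i j
    simp [Matrix.scalar_apply, mul_comm]
  refine ⟨c, hc, ?_⟩
  rw [h2, smul_smul, ← sq, hc, one_smul]

theorem st_q (γ : F ≃+* F) (A : SL) : lift (fld γ) (q A) = q (fld γ A) := rfl

theorem fld_val (γ : F ≃+* F) (A : SL) (i j : Fin 2) : (fld γ A).1 i j = γ (A.1 i j) := rfl

theorem up_mul (s t : F) : up s * up t = up (s + t) := by
  apply Subtype.ext
  rw [Matrix.SpecialLinearGroup.coe_mul, up_val, up_val, up_val, Matrix.mul_fin_two]
  simp [add_comm]

theorem lo_inv (t : F) : (lo t)⁻¹ = lo (-t) := by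
  apply Subtype.ext
  rw [Matrix.SpecialLinearGroup.coe_inv, lo_val, lo_val, Matrix.adjugate_fin_two_of, neg_zero]

theorem up_inv (t : F) : (up t)⁻¹ = up (-t) := by
  apply Subtype.ext
  rw [Matrix.SpecialLinearGroup.coe_inv, up_val, up_val, Matrix.adjugate_fin_two_of, neg_zero]

theorem fld_up (γ : F ≃+* F) (t : F) : fld γ (up t) = up (γ t) := by
  apply Subtype.ext
  ext i j
  rw [fld_val]
  fin_cases i <;> fin_cases j <;> simp [up]

theorem fld_lo (γ : F ≃+* F) (t : F) : fld γ (lo t) = lo (γ t) := by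
  apply Subtype.ext
  ext i j
  rw [fld_val]
  fin_cases i <;> fin_cases j <;> simp [lo]

theorem up_zero : up (0 : F) = 1 := by
  apply Subtype.ext
  rw [up_val, Matrix.SpecialLinearGroup.coe_one, Matrix.one_fin_two]

/-- the unipotent subgroup -/
def upHom (F : Type) [Field F] : Multiplicative F →* Matrix.ProjectiveSpecialLinearGroup (Fin 2) F where
  toFun t := q (up t.toAdd)
  map_one' := by rw [toAdd_one, up_zero, map_one]
  map_mul' s t := by rw [toAdd_mul, ← up_mul, map_mul]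

theorem upHom_injective : Function.Injective (upHom F) := by
  intro s t h
  obtain ⟨c, hc, h1⟩ := eq_smul (A := up s.toAdd) (B := up t.toAdd) h
  have h2 := congrFun (congrFun h1 0) 0
  have h3 := congrFun (congrFun h1 0) 1
  simp [up] at h2 h3
  rw [← h2, one_mul] at h3
  exact Multiplicative.toAdd.injective h3

section fin

variable [Fintype F]

/-- a generator of the multiplicative group is moved by all field automorphisms -/
theorem exists_gen : ∃ s : F, s ≠ 0 ∧ ∀ γ : F ≃+* F, γ s = s → γ = 1 := by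
  obtain ⟨g, hg⟩ := IsCyclic.exists_generator (α := Fˣ)
  refine ⟨g, g.ne_zero, fun γ hγ => ?_⟩
  ext y
  by_cases hy : y = 0
  · rw [hy, map_zero, map_zero]
  obtain ⟨k, hk⟩ := Subgroup.mem_zpowers_iff.1 (hg (Units.mk0 y hy))
  have h1 : y = (g : F) ^ k := by
    have := congrArg (Units.val) hk
    rw [Units.val_zpow_eq_zpow_val, Units.val_mk0] at this
    exact this.symm
  rw [h1, map_zpow₀, hγ]
  rfl

theorem card_out {r f : ℕ} (hr : r.Prime) (hf : 1 ≤ f) (hF : Fintype.card F = r ^ f) (h4 : 4 ≤ Fintype.card F) :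
    Nat.card (Cfsg.Out T) = f * Nat.gcd 2 (Fintype.card F - 1) := by
  have hsimple : IsSimpleGroup T := TwoFusion.SLTwoFacts.isSimpleGroup_psl (F := F) h4
  have hT : ¬ IsMulCommutative T := by
    intro h
    apply ClassicalGeometry.PSL2Solvable.not_isSolvable_psl F h4
    exact Group.isSolvable_of_comm h.is_comm.comm
  rw [Cfsg.Agent.H55.OutGen.card_out_eq_index, Cfsg.Agent.H124.OutIdx.index_psl hT hr hf hF le_rfl (fun _ => by omega)
    ⟨F, inferInstance, inferInstance, rfl, ⟨MulEquiv.refl _⟩⟩, if_pos rfl, one_mul]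

theorem not_comm (h4 : 4 ≤ Fintype.card F) : ¬ IsMulCommutative T := by
  intro h
  apply ClassicalGeometry.PSL2Solvable.not_isSolvable_psl F h4
  exact Group.isSolvable_of_comm h.is_comm.comm

theorem card_gal {r f : ℕ} (hr : r.Prime) [CharP F r] (hF : Fintype.card F = r ^ f) : Nat.card (F ≃+* F) = f := by
  have : Fact r.Prime := ⟨hr⟩
  exact (H382.FieldAction.card_ringAut_dvd F (by rw [Nat.card_eq_fintype_card, hF])).1

/-- **Characteristic three.** -/
theorem char_three [CharP F 3] (h4 : 4 ≤ Fintype.card F) : Meet 3 T := by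
  have h3p : Fact (Nat.Prime 3) := ⟨Nat.prime_three⟩
  have hsimple : IsSimpleGroup T := TwoFusion.SLTwoFacts.isSimpleGroup_psl (F := F) h4
  obtain ⟨f, -, hf⟩ := FiniteField.card F 3
  have hgal : Nat.card (F ≃+* F) = f := card_gal Nat.prime_three hf
  have hgf : Finite (F ≃+* F) := Nat.finite_of_card_ne_zero (by rw [hgal]; exact f.ne_zero)
  have h20 : (2 : F) ≠ 0 := by
    intro h
    have h1 : ((3 : ℕ) : F) = 0 := CharP.cast_eq_zero F 3
    have h2 : (1 : F) = ((3 : ℕ) : F) - 2 := by push_cast; ring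
    rw [h1, h, sub_zero] at h2
    exact one_ne_zero h2
  have hcU : Nat.card (upHom F).range = Fintype.card F := by
    rw [← Nat.card_congr (MonoidHom.ofInjective upHom_injective).toEquiv, Nat.card_eq_fintype_card,
      Fintype.card_multiplicative]
  have hodd : Odd (Fintype.card F) := by
    rw [hf]
    exact Odd.pow (by decide)
  have hTc := SmallSimple.PSLTwoPart.card_psl_two_odd hodd
  obtain ⟨s, hs0, hs⟩ := exists_gen (F := F)
  refine MeetPair.meet_of_pair (p := 3) (not_comm h4) (U := (upHom F).range) ?_ ?_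
    ((lift (ι := Fin 2) (F := F)).comp (fld (ι := Fin 2) (F := F))) ?_ (m := 2) (by norm_num) ?_ (q (lo s)) ?_
  · exact IsPGroup.of_card (n := f) (by rw [hcU, hf])
  · intro hd
    have h1 := (upHom F).range.card_mul_index
    rw [hcU] at h1
    have h2 : Fintype.card F * (2 * (upHom F).range.index) = Fintype.card F * (Fintype.card F ^ 2 - 1) := by
      rw [← hTc, ← h1]
      ring
    have h3 := Nat.eq_of_mul_eq_mul_left (by omega) h2
    have h5 : 3 ∣ Fintype.card F ^ 2 - 1 := by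
      rw [← h3]
      exact hd.mul_left 2
    have h6 : 3 ∣ Fintype.card F ^ 2 := by
      rw [hf, ← pow_mul]
      exact dvd_pow_self 3 (by have := f.ne_zero; omega)
    have h7 : 1 ≤ Fintype.card F ^ 2 := Nat.one_le_pow _ _ (by omega)
    omega
  · rintro γ _ ⟨t, rfl⟩
    refine ⟨Multiplicative.ofAdd (γ t.toAdd), ?_⟩
    show q (up (γ t.toAdd)) = lift (fld γ) (q (up t.toAdd))
    rw [st_q, fld_up]
  · rw [card_out Nat.prime_three f.pos hf h4, hgal, mul_comm 2]
    exact mul_dvd_mul_left _ (Nat.gcd_dvd_left 2 _)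
  · rintro _ ⟨t, rfl⟩ γ ⟨n, hn⟩ ⟨t', h⟩
    obtain ⟨t, rfl⟩ := Multiplicative.ofAdd.surjective t
    obtain ⟨t', rfl⟩ := Multiplicative.ofAdd.surjective t'
    have h1 : q (lo s * up t * lo (-γ s)) = q (up t') := by
      rw [map_mul, map_mul, ← lo_inv, ← fld_lo, map_inv]
      exact h.symm
    obtain ⟨c, hc, h2⟩ := eq_smul h1
    rw [Matrix.SpecialLinearGroup.coe_mul, Matrix.SpecialLinearGroup.coe_mul, up_val, up_val, lo_val, lo_val,
      Matrix.mul_fin_two, Matrix.mul_fin_two] at h2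
    have e00 := congrFun (congrFun h2 0) 0
    have e01 := congrFun (congrFun h2 0) 1
    have e10 := congrFun (congrFun h2 1) 0
    have e11 := congrFun (congrFun h2 1) 1
    simp at e00 e01 e10 e11
    have hprod : t * (s + γ s) = 0 := by linear_combination e11 - e00
    rcases mul_eq_zero.1 hprod with ht | ht
    · subst ht
      have hγ : γ = 1 := by
        apply hs
        linear_combination -e10
      refine ⟨?_, hγ⟩
      show q (up 0) = 1
      rw [up_zero, map_one]
    · exfalso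
      have h3 : γ s = -s := by linear_combination ht
      have h4 : γ ^ 2 = 1 := by
        apply hs
        show γ (γ s) = s
        rw [h3, map_neg, h3, neg_neg]
      have h5 : γ = 1 := by
        have h6 : orderOf γ ∣ 2 := orderOf_dvd_of_pow_eq_one h4
        have h7 : orderOf γ ∣ 3 ^ n := orderOf_dvd_of_pow_eq_one hn
        have h8 : Nat.Coprime 2 (3 ^ n) := Nat.Coprime.pow_right n (by norm_num)
        exact orderOf_eq_one_iff.1 (Nat.eq_one_of_dvd_coprimes h8 h6 h7)
      rw [h5] at h3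
      have h9 : (2 : F) * s = 0 := by
        have : s = -s := h3
        linear_combination this
      exact (mul_ne_zero h20 hs0) h9

end fin

/-! ### `PSL₂(8)` -/

/-- the torus of norm one elements of `F[ω]` -/
def tor (F : Type) [Field F] : Subgroup (Matrix.SpecialLinearGroup (Fin 2) F) where
  carrier := {A | A.1 1 0 = A.1 0 1 ∧ A.1 1 1 = A.1 0 0 + A.1 0 1}
  mul_mem' := by
    rintro A B ⟨h1, h2⟩ ⟨h3, h4⟩
    refine ⟨?_, ?_⟩
    · show (A.1 * B.1) 1 0 = (A.1 * B.1) 0 1
      rw [Matrix.mul_apply, Matrix.mul_apply, Fin.sum_univ_two, Fin.sum_univ_two, h1, h2, h3, h4]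
      ring
    · show (A.1 * B.1) 1 1 = (A.1 * B.1) 0 0 + (A.1 * B.1) 0 1
      rw [Matrix.mul_apply, Matrix.mul_apply, Matrix.mul_apply, Fin.sum_univ_two, Fin.sum_univ_two, Fin.sum_univ_two,
        h1, h2, h3, h4]
      ring
  one_mem' := by
    refine ⟨?_, ?_⟩ <;> simp
  inv_mem' := by
    rintro A ⟨h1, h2⟩
    refine ⟨?_, ?_⟩
    · rw [Matrix.SpecialLinearGroup.coe_inv, Matrix.adjugate_fin_two]
      show -(A.1 1 0) = -(A.1 0 1)
      rw [h1]
    · rw [Matrix.SpecialLinearGroup.coe_inv, Matrix.adjugate_fin_two]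
      show A.1 0 0 = A.1 1 1 + -(A.1 0 1)
      rw [h2]
      ring

theorem mem_tor {A : SL} : A ∈ tor F ↔ A.1 1 0 = A.1 0 1 ∧ A.1 1 1 = A.1 0 0 + A.1 0 1 := Iff.rfl

theorem tor_val {A : SL} (h : A ∈ tor F) : ∃ a b : F, A.1 = !![a, b; b, a + b] ∧ a * (a + b) - b * b = 1 := by
  obtain ⟨h1, h2⟩ := h
  have h3 : A.1 = !![A.1 0 0, A.1 0 1; A.1 0 1, A.1 0 0 + A.1 0 1] := by
    conv_lhs => rw [Matrix.eta_fin_two A.1]
    rw [h1, h2]
  refine ⟨_, _, h3, ?_⟩
  have h4 := A.2
  rw [h3, Matrix.det_fin_two_of] at h4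
  exact h4

theorem tor_pow [CharP F 2] (h8 : ∀ a : F, a ^ 8 = a) {A : SL} (h : A ∈ tor F) : A ^ 9 = 1 := by
  obtain ⟨a, b, hA, hdet⟩ := tor_val h
  have h2 : (2 : F) = 0 := CharTwo.two_eq_zero
  have sq : ∀ x y : F, (!![x, y; y, x + y] * !![x, y; y, x + y] : Matrix (Fin 2) (Fin 2) F) =
      !![x ^ 2 + y ^ 2, y ^ 2; y ^ 2, x ^ 2] := by
    intro x y
    rw [Matrix.mul_fin_two]
    congr 1
    ext i j
    fin_cases i <;> fin_cases j <;> simp <;> grind
  have h4 : (A ^ 2).1 = !![a ^ 2 + b ^ 2, b ^ 2; b ^ 2, (a ^ 2 + b ^ 2) + b ^ 2] := by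
    rw [pow_two]
    show A.1 * A.1 = _
    rw [hA, sq]
    congr 1
    ext i j
    fin_cases i <;> fin_cases j <;> simp <;> grind
  have h5 : (A ^ 4).1 = !![a ^ 4, b ^ 4; b ^ 4, a ^ 4 + b ^ 4] := by
    rw [show A ^ 4 = A ^ 2 * A ^ 2 by rw [← pow_add]]
    show (A ^ 2).1 * (A ^ 2).1 = _
    rw [h4, sq]
    congr 1
    ext i j
    fin_cases i <;> fin_cases j <;> simp <;> grind
  have h6 : (A ^ 8).1 = !![a + b, b; b, a] := by
    rw [show A ^ 8 = A ^ 4 * A ^ 4 by rw [← pow_add]]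
    show (A ^ 4).1 * (A ^ 4).1 = _
    rw [h5, sq]
    have ea := h8 a
    have eb := h8 b
    congr 1
    ext i j
    fin_cases i <;> fin_cases j <;> simp <;> grind
  apply Subtype.ext
  rw [show A ^ 9 = A * A ^ 8 by rw [← pow_succ']]
  show A.1 * (A ^ 8).1 = 1
  rw [h6, hA, Matrix.mul_fin_two, Matrix.one_fin_two]
  congr 1
  ext i j
  fin_cases i <;> fin_cases j <;> simp <;> grind

theorem q_eight [Fintype F] [CharP F 2] (hF : Fintype.card F = 8) : Meet 3 T := by
  have h3p : Fact (Nat.Prime 3) := ⟨Nat.prime_three⟩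
  have h2p : Fact (Nat.Prime 2) := ⟨Nat.prime_two⟩
  have h4 : 4 ≤ Fintype.card F := by omega
  have hsimple : IsSimpleGroup T := TwoFusion.SLTwoFacts.isSimpleGroup_psl (F := F) h4
  have hF3 : Fintype.card F = 2 ^ 3 := by rw [hF]; norm_num
  have hgal : Nat.card (F ≃+* F) = 3 := card_gal Nat.prime_two hF3
  have hgf : Finite (F ≃+* F) := Nat.finite_of_card_ne_zero (by rw [hgal]; norm_num)
  have h8 : ∀ a : F, a ^ 8 = a := fun a => by rw [← hF]; exact FiniteField.pow_card a
  have h20 : (2 : F) = 0 := CharTwo.two_eq_zero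
  have heven : Even (Fintype.card F) := by rw [hF]; decide
  have hTc := SmallSimple.PSLTwoPart.card_psl_two_even heven
  rw [hF] at hTc
  norm_num at hTc
  -- an element `t` with `t³ = t + 1`, moved by all field automorphisms
  obtain ⟨s, hs0, hs⟩ := exists_gen (F := F)
  have hs1 : s ≠ 1 := by
    rintro rfl
    have h1 : ∀ γ : F ≃+* F, γ = 1 := fun γ => hs γ (map_one γ)
    have h2 : Subsingleton (F ≃+* F) := ⟨fun a b => by rw [h1 a, h1 b]⟩
    have h3 : Nat.card (F ≃+* F) ≤ 1 := Finite.card_le_one_iff_subsingleton.2 h2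
    omega
  have hs7 : (s ^ 3 + s + 1) * (s ^ 3 + s ^ 2 + 1) = 0 := by
    have h1 : s * (s + 1) * ((s ^ 3 + s + 1) * (s ^ 3 + s ^ 2 + 1)) = 0 := by
      have := h8 s
      grind
    have h2 : s + 1 ≠ 0 := by
      intro h
      apply hs1
      grind
    exact (mul_eq_zero.1 h1).resolve_left (mul_ne_zero hs0 h2)
  obtain ⟨t, ht0, ht3, ht⟩ : ∃ t : F, t ≠ 0 ∧ t ^ 3 = t + 1 ∧ ∀ γ : F ≃+* F, γ t = t → γ = 1 := by
    rcases mul_eq_zero.1 hs7 with h | h
    · exact ⟨s, hs0, by grind, hs⟩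
    · refine ⟨s⁻¹, inv_ne_zero hs0, ?_, fun γ hγ => hs γ ?_⟩
      · field_simp
        grind
      · rw [map_inv₀] at hγ
        exact inv_injective hγ
  have ht1 : t ≠ 1 := by
    rintro rfl
    have h1 : ∀ γ : F ≃+* F, γ = 1 := fun γ => ht γ (map_one γ)
    have h2 : Subsingleton (F ≃+* F) := ⟨fun a b => by rw [h1 a, h1 b]⟩
    have h3 : Nat.card (F ≃+* F) ≤ 1 := Finite.card_le_one_iff_subsingleton.2 h2
    omega
  -- an element of order nine
  let M : SL := ⟨!![t ^ 2, t; t, t ^ 2 + t], by rw [Matrix.det_fin_two_of]; grind⟩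
  have hM : M ∈ tor F := mem_tor.2 ⟨rfl, rfl⟩
  have hM3 : (M ^ 3).1 = !![0, 1; 1, 1] := by
    rw [show M ^ 3 = M * M * M by rw [pow_succ, pow_two]]
    show M.1 * M.1 * M.1 = _
    show !![t ^ 2, t; t, t ^ 2 + t] * !![t ^ 2, t; t, t ^ 2 + t] * !![t ^ 2, t; t, t ^ 2 + t] = _
    rw [Matrix.mul_fin_two, Matrix.mul_fin_two]
    congr 1
    ext i j
    fin_cases i <;> fin_cases j <;> simp <;> grind
  have hord : orderOf (q M) = 3 ^ (1 + 1) := by
    refine orderOf_eq_prime_pow ?_ ?_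
    · intro h
      rw [pow_one, ← map_pow] at h
      obtain ⟨c, -, h1⟩ := eq_smul (A := M ^ 3) (B := 1) (by rw [h, map_one])
      have h2 := congrFun (congrFun h1 0) 1
      rw [hM3] at h2
      simp at h2
    · rw [show 3 ^ (1 + 1) = 9 by norm_num, ← map_pow, tor_pow h8 hM, map_one]
  have hUp : IsPGroup 3 ↥((tor F).map q) := by
    rintro ⟨_, A, hA, rfl⟩
    refine ⟨2, ?_⟩
    apply Subtype.ext
    show (q A) ^ 3 ^ 2 = 1
    rw [show 3 ^ 2 = 9 by norm_num, ← map_pow, tor_pow h8 hA, map_one]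
  refine MeetPair.meet_of_pair (p := 3) (not_comm h4) (U := (tor F).map q) hUp ?_
    ((lift (ι := Fin 2) (F := F)).comp (fld (ι := Fin 2) (F := F))) ?_ (m := 1) (by norm_num) ?_ (q (up t)) ?_
  · intro hd
    have h1 : 9 ∣ Nat.card ↥((tor F).map q) := by
      have := orderOf_dvd_natCard (⟨q M, M, hM, rfl⟩ : ↥((tor F).map q))
      rwa [← Subgroup.orderOf_coe, hord] at this
    have h2 := ((tor F).map q).card_mul_index
    rw [hTc] at h2
    have h3 : 9 * 3 ∣ 504 := by
      rw [← h2]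
      exact mul_dvd_mul h1 hd
    norm_num at h3
  · rintro γ _ ⟨A, hA, rfl⟩
    obtain ⟨h1, h2⟩ := mem_tor.1 hA
    refine ⟨fld γ A, mem_tor.2 ⟨?_, ?_⟩, rfl⟩
    · rw [fld_val, fld_val, h1]
    · rw [fld_val, fld_val, fld_val, h2, map_add]
  · rw [card_out Nat.prime_two (by norm_num) hF3 h4, hgal, hF]
    norm_num
  · rintro _ ⟨A, hA, rfl⟩ γ - ⟨B, hB, h⟩
    obtain ⟨a, b, hAv, hdet⟩ := tor_val hA
    obtain ⟨a', b', hBv, -⟩ := tor_val hB
    have h1 : q (up t * A * up (-γ t)) = q B := by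
      rw [map_mul, map_mul, ← up_inv, ← fld_up, map_inv]
      exact h.symm
    obtain ⟨c, hc, h2⟩ := eq_smul h1
    rw [Matrix.SpecialLinearGroup.coe_mul, Matrix.SpecialLinearGroup.coe_mul, up_val, up_val, hAv, hBv,
      Matrix.mul_fin_two, Matrix.mul_fin_two] at h2
    have e00 := congrFun (congrFun h2 0) 0
    have e01 := congrFun (congrFun h2 0) 1
    have e10 := congrFun (congrFun h2 1) 0
    have e11 := congrFun (congrFun h2 1) 1
    simp at e00 e01 e10 e11
    generalize hg : γ t = s' at *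
    have k1 : b * (t + s') = 0 := by grind
    have hb : b = 0 := by
      rcases mul_eq_zero.1 k1 with hb | hb
      · exact hb
      · have hst : s' = t := by grind
        have k2 : t * b * (t + 1) = 0 := by grind
        have k3 : t + 1 ≠ 0 := by
          intro h
          apply ht1
          grind
        exact (mul_eq_zero.1 ((mul_eq_zero.1 k2).resolve_right k3)).resolve_left ht0
    subst hb
    have ha : a = 1 := by
      have : (a + 1) ^ 2 = 0 := by grind
      have := pow_eq_zero_iff (two_ne_zero) |>.1 this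
      grind
    subst ha
    have hst : s' = t := by grind
    refine ⟨?_, ht γ (by rw [hg, hst])⟩
    have hA1 : A = 1 := by
      apply Subtype.ext
      rw [hAv, Matrix.SpecialLinearGroup.coe_one, Matrix.one_fin_two]
      simp
    rw [hA1, map_one]

/-- **S2484, `PSL₂(q)`.** -/
theorem meet3_PSL2 {F : Type} [Field F] [Fintype F] (hF : 4 ≤ Fintype.card F) :
    Cfsg.Agent.H903.SylMeet.Meet 3 (Matrix.ProjectiveSpecialLinearGroup (Fin 2) F) := by
  have h3p : Fact (Nat.Prime 3) := ⟨Nat.prime_three⟩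
  obtain ⟨r, hchar⟩ := CharP.exists F
  have hr : r.Prime := CharP.char_is_prime F r
  have : Fact r.Prime := ⟨hr⟩
  obtain ⟨f, -, hf⟩ := FiniteField.card F r
  by_cases hr3 : r = 3
  · subst hr3
    exact char_three hF
  by_cases h8 : Fintype.card F = 8
  · have hr2 : r = 2 := by
      have h1 : r ∣ 2 ^ 3 := by
        rw [show 2 ^ 3 = 8 by norm_num, ← h8, hf]
        exact dvd_pow_self r f.ne_zero
      exact (Nat.prime_dvd_prime_iff_eq hr Nat.prime_two).1 (hr.dvd_of_dvd_pow h1)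
    subst hr2
    exact q_eight h8
  have hpF : ¬ 3 ∣ Fintype.card F := by
    rw [hf]
    intro h
    exact hr3 ((Nat.prime_dvd_prime_iff_eq Nat.prime_three hr).1 (Nat.prime_three.dvd_of_dvd_pow h)).symm
  have hsimple : IsSimpleGroup (Matrix.ProjectiveSpecialLinearGroup (Fin 2) F) :=
    TwoFusion.SLTwoFacts.isSimpleGroup_psl (F := F) hF
  have hT := not_comm hF
  obtain ⟨hC, hCd⟩ := MeetPSL2.isCyclic_quot (F := F)
  have hcard : Nat.card (F ≃+* F) = f := card_gal hr hf
  have hinner : ∀ a : MulAut (Matrix.ProjectiveSpecialLinearGroup (Fin 2) F), (∃ k, a ^ 3 ^ k = 1) →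
      QuotientGroup.mk' (MeetPSL2.D F) a = 1 → ∃ t, MulAut.conj t = a := by
    rintro a ⟨k, hk⟩ ha
    exact MeetPSL2.inner_of_D ((Nat.prime_three.odd_of_ne_two (by norm_num)).pow (n := k)) hk
      ((QuotientGroup.eq_one_iff a).1 ha)
  by_cases hpC : 3 ∣ Nat.card (MulAut (Matrix.ProjectiveSpecialLinearGroup (Fin 2) F) ⧸ MeetPSL2.D F)
  · have hpf : 3 ∣ (f : ℕ) := by
      rw [← hcard]; exact hpC.trans hCd
    obtain ⟨f₀, hf₀⟩ := hpf
    have hq : Fintype.card F = (r ^ f₀) ^ 3 := by rw [hf, hf₀, mul_comm, pow_mul]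
    obtain ⟨q₀, hq₀⟩ : ∃ q₀, q₀ = r ^ f₀ := ⟨_, rfl⟩
    rw [← hq₀] at hq
    have hq4 : 4 ≤ q₀ := by
      by_contra hlt
      have h0 : 0 < q₀ := by rw [hq₀]; exact pow_pos hr.pos _
      have h5 : q₀ = 1 ∨ q₀ = 2 ∨ q₀ = 3 := by omega
      rcases h5 with h5 | h5 | h5
      · rw [h5, one_pow] at hq; omega
      · rw [h5] at hq; omega
      · apply hpF
        rw [hq, h5]
        norm_num
    have hbig : 4 ^ 3 ≤ Fintype.card F := by rw [hq]; exact Nat.pow_le_pow_left hq4 3
    refine MeetRank.meet_rank_one (p := 3) (by norm_num) hT (QuotientGroup.mk' (MeetPSL2.D F)) hinner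
      (fun R hR => MeetPSL2.isCyclic_of_isPGroup (by norm_num) hpF R hR) (m := Fintype.card F + 1)
      (S0806.result (F := F) rfl (by
        simp only [Finset.mem_insert, Finset.mem_singleton, not_or]
        norm_num at hbig
        omega)).1 ?_
    · intro _ _
      norm_num at hbig ⊢
      omega
  · exact MeetRank.meet_rank_one (p := 3) (by norm_num) hT (QuotientGroup.mk' (MeetPSL2.D F)) hinner
      (fun R hR => MeetPSL2.isCyclic_of_isPGroup (by norm_num) hpF R hR) (m := 0)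
      (fun H _ => Nat.zero_le _) (fun h1 _ => absurd h1 hpC)

end Cfsg.Agent.H743.MeetPslThree
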