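import Mathlib
import Cfsg.Agent.H176.NFStmt
import Cfsg.Agent.H518.DghpPSL
import Cfsg.Agent.H878.Nums
import Cfsg.Agent.H124.OutIdx
import Cfsg.Agent.S0249

/-!
# S5773, row NF-PSLN: `PSL_n(q)`, `n ≥ 4` (helper743)
-/

set_option autoImplicit false

namespace Cfsg.Agent.H743.NFPsl

open Module Cfsg.Agent.H176.NF Cfsg.Agent.H518.Dghp Cfsg.Agent.H518.DghpSep Cfsg.Agent.H518.DghpPrim
  Cfsg.Agent.H518.DghpMat

theorem conj_inj {T : Type} [Group T] (h : Subgroup.center T = ⊥) :
    Function.Injective (MulAut.conj : T →* MulAut T) := by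
  rw [injective_iff_map_eq_one]
  intro a ha
  have h1 : a ∈ Subgroup.center T := by
    rw [Subgroup.mem_center_iff]
    intro g
    have h2 := DFunLike.congr_fun ha g
    rw [MulAut.conj_apply, MulAut.one_apply] at h2
    rw [mul_inv_eq_iff_eq_mul] at h2
    exact h2.symm
  rwa [h, Subgroup.mem_bot] at h1

theorem not_comm_of_primes {T : Type} [Group T] [Finite T] [IsSimpleGroup T] {r s : ℕ} (hr : r.Prime) (hs : s.Prime)
    (hrs : r ≠ s) (hrT : r ∣ Nat.card T) (hsT : s ∣ Nat.card T) : ¬ IsMulCommutative T := by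
  intro hc
  let _ : CommGroup T := { (inferInstance : Group T) with mul_comm := fun a b => hc.is_comm.comm a b }
  have h1 : (Nat.card T).Prime := IsSimpleGroup.prime_card
  have h2 := (Nat.prime_dvd_prime_iff_eq hr h1).1 hrT
  have h3 := (Nat.prime_dvd_prime_iff_eq hs h1).1 hsT
  exact hrs (h2.trans h3.symm)

theorem core (hB : BdOfUnip) (hL : UnipLin) {F : Type} [Field F] [Fintype F] {n p k r s e : ℕ} (hp : p.Prime)
    (hk : 1 ≤ k) (hF : Fintype.card F = p ^ k) (hn : 4 ≤ n) (hr : r.Prime) (hs : s.Prime)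
    (hor : orderOf ((Fintype.card F : ℕ) : ZMod r) = n) (hos : orderOf ((Fintype.card F : ℕ) : ZMod s) = e)
    (he : n < 2 * e) (hen : e < n) (hfe : ¬ e ∣ n) (hse : ¬ s ∣ n) (hro : ¬ r ∣ 2 * k) (hso : ¬ s ∣ 2 * k)
    (hnum : n.factorization p + e.factorization p + (2 * k).factorization p < k * (e * (e - 1) / 2)) :
    NF (Matrix.ProjectiveSpecialLinearGroup (Fin n) F) := by
  obtain ⟨q, hq⟩ : ∃ q, Fintype.card F = q := ⟨_, rfl⟩
  have hq1 : 1 < q := hq ▸ Fintype.one_lt_card
  rw [hq] at hF hor hos
  have hsimple : IsSimpleGroup (Matrix.ProjectiveSpecialLinearGroup (Fin n) F) := S0249.result n (by omega)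
  have hrq : ¬ r ∣ q := not_dvd_of_orderOf hr hor (by omega)
  have hsq : ¬ s ∣ q := not_dvd_of_orderOf hs hos (by omega)
  have hpq : p ∣ q := by rw [hF]; exact dvd_pow_self p (by omega)
  have hrp : r ≠ p := fun h => hrq (h ▸ hpq)
  have hsp : s ≠ p := fun h => hsq (h ▸ hpq)
  have hpq1 : ¬ p ∣ q - 1 := by
    intro h
    have h1 := (Nat.dvd_sub hpq h)
    have h2 : q - (q - 1) = 1 := by omega
    rw [h2] at h1
    exact hp.one_lt.ne' (Nat.dvd_one.1 h1)
  have hnr := lt_prime hr hor (by omega)
  have hes := lt_prime hs hos (by omega)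
  have hrs : r ≠ s := by
    rintro rfl
    rw [hor] at hos
    omega
  have hr1 : ¬ r ∣ q - 1 := by
    have h1 := not_dvd_pow_sub_one (q := q) (m := 1) (by omega) hor (fun h => by
      have := Nat.le_of_dvd one_pos h
      omega)
    rwa [pow_one] at h1
  have hs1 : ¬ s ∣ q - 1 := by
    have h1 := not_dvd_pow_sub_one (q := q) (m := 1) (by omega) hos (fun h => by
      have := Nat.le_of_dvd one_pos h
      omega)
    rwa [pow_one] at h1
  have hrT : r ∣ Nat.card (Matrix.ProjectiveSpecialLinearGroup (Fin n) F) :=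
    dvd_card_PSL hq (by omega) hr ((dvd_pow_sub_one (by omega) hor).trans
      (pow_sub_one_dvd_card_SL hq (by omega) le_rfl)) (fun h => hr1 (h.trans (Nat.gcd_dvd_right _ _)))
  have hsT : s ∣ Nat.card (Matrix.ProjectiveSpecialLinearGroup (Fin n) F) :=
    dvd_card_PSL hq (by omega) hs ((dvd_pow_sub_one (by omega) hos).trans
      (pow_sub_one_dvd_card_SL hq (by omega) hen.le)) (fun h => hs1 (h.trans (Nat.gcd_dvd_right _ _)))
  have hna := not_comm_of_primes hr hs hrs hrT hsT
  have hcen := Cfsg.Agent.H124.OutIdx.center_eq_bot hna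
  have hout : outN (Matrix.ProjectiveSpecialLinearGroup (Fin n) F) = 2 * k * Nat.gcd n (q - 1) := by
    rw [outN_eq, Cfsg.Agent.H124.OutIdx.index_psl hna hp hk hF (by omega) (fun h => by omega)
      ⟨F, inferInstance, inferInstance, hq, ⟨MulEquiv.refl _⟩⟩, if_neg (by omega)]
  have hgcd : ∀ t : ℕ, t.Prime → ¬ t ∣ q - 1 → ¬ t ∣ Nat.gcd n (q - 1) := fun t _ ht h =>
    ht (h.trans (Nat.gcd_dvd_right _ _))
  have hro' : ¬ r ∣ outN (Matrix.ProjectiveSpecialLinearGroup (Fin n) F) := by
    rw [hout, hr.dvd_mul]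
    exact not_or.2 ⟨hro, hgcd r hr hr1⟩
  have hso' : ¬ s ∣ outN (Matrix.ProjectiveSpecialLinearGroup (Fin n) F) := by
    rw [hout, hs.dvd_mul]
    exact not_or.2 ⟨hso, hgcd s hs hs1⟩
  have hsep : Sep (Matrix.SpecialLinearGroup (Fin n) F) r s :=
    sep_linear (matRep (slHom (Fin n) F)) (matRep_injective (slHom_injective _ _)) hr hs (by rwa [hq])
      (by rwa [hq]) (e := n) (f := e) (d := n) (by rw [hq, hor]) (by rw [hq, hos])
      (by rw [finrank_pi_fin, Fintype.card_fin]) (by omega) (by omega) hfe hse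
      (fun h => by
        have := Nat.le_of_dvd (by omega) h
        omega)
      (by
        have h1 : 2 * e ≤ r * e := Nat.mul_le_mul_right e hr.two_le
        omega)
  have hsol : Group.IsSolvable ↥(Subgroup.center (Matrix.SpecialLinearGroup (Fin n) F)) :=
    Group.isSolvable_of_comm fun a b => Subtype.ext ((Subgroup.mem_center_iff.1 b.2) a)
  have hsep' : Sep (Matrix.ProjectiveSpecialLinearGroup (Fin n) F) r s := by
    refine Sep.of_surjective hsep (QuotientGroup.mk' _) (QuotientGroup.mk'_surjective _) ?_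
    rw [QuotientGroup.ker_mk']
    exact hsol
  have hbr : Bd (Matrix.SpecialLinearGroup (Fin n) F) r p (0 + n.factorization p) := by
    refine hB _ F (Fin n) (slHom (Fin n) F) (slHom_injective _ _) r p n 0 hr hp hrp (by rwa [hq]) (by rw [hq, hor])
      (by rw [Fintype.card_fin]; omega) ?_
    intro x hx U hU hxU
    have := hL _ F n (slHom (Fin n) F) (slHom_injective _ _) r p n k hr hp hrp (by rw [hq, hF]) (by rw [hq, hor])
      (by omega) x hx U hU hxU
    rwa [Nat.sub_self, mul_zero] at this
  have hbs : Bd (Matrix.SpecialLinearGroup (Fin n) F) s p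
      (k * (n * (n - 1) / 2 - e * (e - 1) / 2) + e.factorization p) := by
    refine hB _ F (Fin n) (slHom (Fin n) F) (slHom_injective _ _) s p e _ hs hp hsp (by rwa [hq]) (by rw [hq, hos])
      (by rw [Fintype.card_fin]; omega) ?_
    intro x hx U hU hxU
    exact hL _ F n (slHom (Fin n) F) (slHom_injective _ _) s p e k hs hp hsp (by rw [hq, hF]) (by rw [hq, hos])
      (by omega) x hx U hU hxU
  have hT0 : Nat.card (Matrix.ProjectiveSpecialLinearGroup (Fin n) F) ≠ 0 := Nat.card_pos.ne'
  have hfT : (Nat.card (Matrix.ProjectiveSpecialLinearGroup (Fin n) F)).factorization p = k * (n * (n - 1) / 2) := by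
    have h1 := (Cfsg.Agent.H878.ppart_psl hp hq hpq (n := n) (by omega) (k * (n * (n - 1) / 2))).2 (by
      rw [hF, ← pow_mul])
    have h2 := mt (Cfsg.Agent.H878.ppart_psl hp hq hpq (n := n) (by omega) (k * (n * (n - 1) / 2) + 1)).1 (by
      rw [hF, ← pow_mul, Nat.pow_dvd_pow_iff_le_right hp.one_lt]
      omega)
    have h3 := (hp.pow_dvd_iff_le_factorization hT0).1 h1
    have h4 := mt (hp.pow_dvd_iff_le_factorization hT0).2 h2
    omega
  have hfo : (outN (Matrix.ProjectiveSpecialLinearGroup (Fin n) F)).factorization p = (2 * k).factorization p := by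
    rw [hout, Nat.factorization_mul (by omega) (by
      intro h
      rw [Nat.gcd_eq_zero_iff] at h
      omega), Finsupp.add_apply, Nat.factorization_eq_zero_of_not_dvd (hgcd p hp hpq1), add_zero]
  refine NF0.nf (conj_inj hcen) (nf0_pair hr hs hrT hsT hro' hso' hsep' (hbr.quot _ hsol) (hbs.quot _ hsol) ?_)
  rw [hfT, hfo]
  have hle : e * (e - 1) / 2 ≤ n * (n - 1) / 2 := Nat.div_le_div_right (Nat.mul_le_mul hen.le (by omega))
  have h1 : k * (n * (n - 1) / 2 - e * (e - 1) / 2) + k * (e * (e - 1) / 2) = k * (n * (n - 1) / 2) := by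
    rw [← mul_add, Nat.sub_add_cancel hle]
  omega

/-! ### the primes -/

theorem order_base {p k m r : ℕ} (hk : 1 ≤ k) (h : orderOf (p : ZMod r) = m * k) (_ : 1 ≤ m) :
    orderOf ((p ^ k : ℕ) : ZMod r) = m := by
  rw [Nat.cast_pow, orderOf_pow_of_dvd (by omega) (by rw [h]; exact dvd_mul_left k m), h,
    Nat.mul_div_cancel _ (by omega)]

theorem not_dvd_two_mul {p k m r : ℕ} (hr : r.Prime) (hk : 1 ≤ k) (h : orderOf (p : ZMod r) = m * k) (hm : 2 ≤ m) :
    ¬ r ∣ 2 * k := by
  have h1 := lt_prime hr h (by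
    have : 0 < m * k := Nat.mul_pos (by omega) (by omega)
    exact this)
  have h2 : 2 * k ≤ m * k := Nat.mul_le_mul_right k hm
  intro h3
  have := Nat.le_of_dvd (by omega) h3
  omega

theorem two_mul_fac_le {p m : ℕ} (hp : p.Prime) (hm : m ≠ 0) : 2 * m.factorization p ≤ m := by
  have h1 : p ^ m.factorization p ≤ m := Nat.le_of_dvd (Nat.pos_of_ne_zero hm) (Nat.ordProj_dvd m p)
  have h2 : ∀ v : ℕ, 2 * v ≤ 2 ^ v := by
    intro v
    induction v with
    | zero => norm_num
    | succ v ih =>
      rw [pow_succ]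
      have : 1 ≤ 2 ^ v := Nat.one_le_two_pow
      rcases Nat.eq_zero_or_pos v with h | h
      · subst h; norm_num
      · omega
  have h3 : 2 ^ m.factorization p ≤ p ^ m.factorization p := Nat.pow_le_pow_left hp.two_le _
  exact (h2 _).trans (h3.trans h1)

theorem fac_le {p m c : ℕ} (hp : p.Prime) (hm : m ≠ 0) (h : ∀ x : ℕ, 2 ≤ x → x ^ (c + 1) ∣ m → False) :
    m.factorization p ≤ c := by
  by_contra hc
  push Not at hc
  exact h p hp.two_le ((hp.pow_dvd_iff_le_factorization hm).2 hc)

theorem fac_two_mul {p k : ℕ} (hk : k ≠ 0) : (2 * k).factorization p = (2 : ℕ).factorization p + k.factorization p := by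
  rw [Nat.factorization_mul (by norm_num) hk, Finsupp.add_apply]

theorem num_gen {p k n : ℕ} (hp : p.Prime) (hk : 1 ≤ k) (hn : 5 ≤ n) :
    n.factorization p + (n - 2).factorization p + (2 * k).factorization p < k * ((n - 2) * (n - 2 - 1) / 2) := by
  rw [fac_two_mul (by omega)]
  have hk2 := two_mul_fac_le hp (show k ≠ 0 by omega)
  rcases Nat.lt_or_ge n 7 with h7 | h7
  · have h56 : n = 5 ∨ n = 6 := by omega
    rcases h56 with rfl | rfl
    · have h1 : (30 : ℕ).factorization p ≤ 1 := fac_le hp (by norm_num) (fun x hx h => by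
        have h0 := Nat.le_of_dvd (by norm_num) h
        rw [show 1 + 1 = 2 from rfl] at h h0
        have h2 : x < 6 := by nlinarith
        interval_cases x <;> omega)
      have h2 : (30 : ℕ).factorization p = (5 : ℕ).factorization p + (3 : ℕ).factorization p +
          (2 : ℕ).factorization p := by
        rw [show (30 : ℕ) = 5 * 3 * 2 by norm_num, Nat.factorization_mul (by norm_num) (by norm_num),
          Nat.factorization_mul (by norm_num) (by norm_num)]
        rfl
      show (5 : ℕ).factorization p + (3 : ℕ).factorization p + _ < k * 3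
      omega
    · have h1 : (48 : ℕ).factorization p ≤ 4 := fac_le hp (by norm_num) (fun x hx h => by
        have h3 := Nat.le_of_dvd (by norm_num) h
        rw [show 4 + 1 = 5 from rfl] at h h3
        have h2 : x < 3 := by
          by_contra hc
          push Not at hc
          have : 3 ^ 5 ≤ x ^ 5 := Nat.pow_le_pow_left hc 5
          omega
        interval_cases x
        omega)
      have h2 : (48 : ℕ).factorization p = (6 : ℕ).factorization p + (4 : ℕ).factorization p +
          (2 : ℕ).factorization p := by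
        rw [show (48 : ℕ) = 6 * 4 * 2 by norm_num, Nat.factorization_mul (by norm_num) (by norm_num),
          Nat.factorization_mul (by norm_num) (by norm_num)]
        rfl
      show (6 : ℕ).factorization p + (4 : ℕ).factorization p + _ < k * 6
      omega
  · have h1 := two_mul_fac_le hp (show n ≠ 0 by omega)
    have h2 := two_mul_fac_le hp (show n - 2 ≠ 0 by omega)
    have h3 := two_mul_fac_le hp (show (2 : ℕ) ≠ 0 by omega)
    have h4 : 2 * ((n - 2) * (n - 2 - 1) / 2) = (n - 2) * (n - 2 - 1) := by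
      refine Nat.mul_div_cancel' ?_
      rw [mul_comm]
      exact even_iff_two_dvd.1 (Nat.even_mul_pred_self (n - 2) |> fun h => by rwa [mul_comm] at h)
    have h5 : 2 * (k * ((n - 2) * (n - 2 - 1) / 2)) = k * ((n - 2) * (n - 2 - 1)) := by
      rw [mul_left_comm, h4]
    obtain ⟨m, rfl⟩ : ∃ m, n = m + 7 := ⟨n - 7, by omega⟩
    have h6 : (m + 7 - 2) * (m + 7 - 2 - 1) = (m + 5) * (m + 4) := by
      congr 1
    rw [h6] at h4 h5
    have h7 : k * ((m + 5) * (m + 4)) ≥ k + (2 * (m + 7) + 1) := by
      obtain ⟨j, rfl⟩ : ∃ j, k = j + 1 := ⟨k - 1, by omega⟩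
      nlinarith [Nat.zero_le (j * m), Nat.zero_le (j * m * m), Nat.zero_le (m * m)]
    rw [h6]
    omega

theorem num_four {p k : ℕ} (hp : p.Prime) (hk : 1 ≤ k) (h : ¬ (p = 2 ∧ k = 1)) :
    (4 : ℕ).factorization p + (3 : ℕ).factorization p + (2 * k).factorization p < k * (3 * (3 - 1) / 2) := by
  rw [fac_two_mul (by omega)]
  have hk2 := two_mul_fac_le hp (show k ≠ 0 by omega)
  have h2 : (24 : ℕ).factorization p = (4 : ℕ).factorization p + (3 : ℕ).factorization p +
      (2 : ℕ).factorization p := by
    rw [show (24 : ℕ) = 4 * 3 * 2 by norm_num, Nat.factorization_mul (by norm_num) (by norm_num),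
      Nat.factorization_mul (by norm_num) (by norm_num)]
    rfl
  have h1 : (24 : ℕ).factorization p ≤ 3 := fac_le hp (by norm_num) (fun x hx h => by
    have h3 := Nat.le_of_dvd (by norm_num) h
    rw [show 3 + 1 = 4 from rfl] at h h3
    have h2 : x < 3 := by
      by_contra hc
      push Not at hc
      have : 3 ^ 4 ≤ x ^ 4 := Nat.pow_le_pow_left hc 4
      omega
    interval_cases x
    omega)
  rcases Nat.lt_or_ge k 2 with h3 | h3
  · have hk1 : k = 1 := by omega
    subst hk1
    have hp2 : p ≠ 2 := fun h' => h ⟨h', rfl⟩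
    have hp3 := hp.two_le
    have h4 : (24 : ℕ).factorization p ≤ 1 := by
      by_contra hc
      push Not at hc
      have h5 := (hp.pow_dvd_iff_le_factorization (by norm_num)).2 hc
      have h6 := Nat.le_of_dvd (by norm_num) h5
      have h7 : p < 5 := by nlinarith
      clear h2 h1 hc hk2
      interval_cases p
      · exact hp2 rfl
      · exact absurd h5 (by norm_num)
      · exact absurd hp (by norm_num)
    show _ < 1 * 3
    have h5 : (1 : ℕ).factorization p = 0 := by rw [Nat.factorization_one]; rfl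
    omega
  · show _ < k * 3
    omega

/-- **NF-PSLN.** -/
theorem psl (hB : BdOfUnip) (hL : UnipLin) (F : Type) [Field F] [Fintype F] (n : ℕ) (hn : 4 ≤ n)
    (h : ¬ (n = 4 ∧ Fintype.card F = 2)) (h62 : ¬ (n = 6 ∧ Fintype.card F = 2)) :
    NF (Matrix.ProjectiveSpecialLinearGroup (Fin n) F) := by
  obtain ⟨p, _, k, hp, hF⟩ := FiniteField.card' F
  have hk : 1 ≤ (k : ℕ) := k.2
  generalize (k : ℕ) = k at hF hk
  have hpf : p.Prime := hp
  have hnk : n * 1 ≤ n * k := Nat.mul_le_mul_left n hk
  have hq2 : ∀ a : ℕ, p = 2 → k = a → Fintype.card F = 2 ^ a := fun a h1 h2 => by rw [hF, h1, h2]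
  -- the prime `r`
  obtain ⟨r, hr, hor⟩ := Lib.Zsigmondy.exists_prime_orderOf (a := p) (n := n * k) hpf.two_le (by omega)
    (fun h => by omega) (fun ⟨h1, h2⟩ => by
      have hk2 : k < 2 := by
        by_contra hc
        have : n * 2 ≤ n * k := Nat.mul_le_mul_left n (by omega)
        omega
      have hk1 : k = 1 := by omega
      rw [hk1] at h2
      exact h62 ⟨by omega, by rw [hq2 1 h1 hk1]; norm_num⟩)
  have hor' : orderOf ((Fintype.card F : ℕ) : ZMod r) = n := by rw [hF]; exact order_base hk hor (by omega)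
  have hro := not_dvd_two_mul hr hk hor (by omega)
  -- the prime `s`
  have main : ∀ s e : ℕ, s.Prime → orderOf ((Fintype.card F : ℕ) : ZMod s) = e → n < 2 * e → e < n → ¬ e ∣ n →
      ¬ s ∣ n → ¬ s ∣ 2 * k →
      n.factorization p + e.factorization p + (2 * k).factorization p < k * (e * (e - 1) / 2) →
      NF (Matrix.ProjectiveSpecialLinearGroup (Fin n) F) := fun s e hs hos h1 h2 h3 h4 h5 h6 =>
    core hB hL hpf hk hF hn hr hs hor' hos h1 h2 h3 h4 hro h5 h6
  rcases Nat.lt_or_ge n 5 with h5 | h5
  · obtain rfl : n = 4 := by omega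
    have hnum := num_four hpf hk (fun hc => h ⟨rfl, by rw [hq2 1 hc.1 hc.2]; norm_num⟩)
    by_cases hex : p = 2 ∧ 3 * k = 6
    · have hF4 : Fintype.card F = 4 := by
        rw [hq2 2 hex.1 (by omega)]
        norm_num
      refine main 7 3 (by norm_num) ?_ (by norm_num) (by norm_num) (by norm_num) (by norm_num) ?_ hnum
      · rw [hF4]
        have : Fact (Nat.Prime 3) := ⟨by norm_num⟩
        exact orderOf_eq_prime (by decide) (by decide)
      · have : k = 2 := by omega
        subst this
        norm_num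
    · obtain ⟨s, hs, hos⟩ := Lib.Zsigmondy.exists_prime_orderOf (a := p) (n := 3 * k) hpf.two_le (by omega)
        (fun h => by omega) hex
      have hs3 := lt_prime hs hos (by omega)
      have hos' : orderOf ((Fintype.card F : ℕ) : ZMod s) = 3 := by rw [hF]; exact order_base hk hos (by omega)
      refine main s 3 hs hos' (by norm_num) (by norm_num) (by norm_num) ?_ (not_dvd_two_mul hs hk hos (by omega)) hnum
      intro h4
      have := Nat.le_of_dvd (by norm_num) h4
      have : s = 4 := by omega
      subst this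
      exact absurd hs (by norm_num)
  · have hnum := num_gen hpf hk h5
    have hnd : ¬ (n - 2) ∣ n := by
      intro h1
      have h2 : n - 2 ∣ n - (n - 2) := Nat.dvd_sub h1 dvd_rfl
      have h3 : n - (n - 2) = 2 := by omega
      rw [h3] at h2
      have := Nat.le_of_dvd (by norm_num) h2
      omega
    by_cases hex : p = 2 ∧ (n - 2) * k = 6
    · obtain ⟨h1, h2⟩ := hex
      have hn3 : n - 2 ≤ 6 := Nat.le_of_dvd (by norm_num) ⟨k, h2.symm⟩
      have hn8 : n ≤ 8 := by omega
      have hcases : (n = 8 ∧ k = 1) ∨ (n = 5 ∧ k = 2) := by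
        interval_cases n <;> omega
      rcases hcases with ⟨rfl, rfl⟩ | ⟨rfl, rfl⟩
      · have hF2 : Fintype.card F = 2 := by
          rw [hq2 1 h1 rfl]
          norm_num
        subst h1
        refine main 127 7 (by norm_num) ?_ (by norm_num) (by norm_num) (by norm_num) (by norm_num) (by norm_num) ?_
        · rw [hF2]
          have : Fact (Nat.Prime 7) := ⟨by norm_num⟩
          exact orderOf_eq_prime (by decide) (by decide)
        · have a1 := fac_le (p := 2) (m := 8) (c := 3) Nat.prime_two (by norm_num) (fun x hx h => by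
            have h3 := Nat.le_of_dvd (by norm_num) h
            rw [show 3 + 1 = 4 from rfl] at h3
            have : 2 ^ 4 ≤ x ^ 4 := Nat.pow_le_pow_left hx 4
            omega)
          have a2 := two_mul_fac_le (p := 2) (m := 7) Nat.prime_two (by norm_num)
          have a3 := two_mul_fac_le (p := 2) (m := 2) Nat.prime_two (by norm_num)
          show (8 : ℕ).factorization 2 + (7 : ℕ).factorization 2 + (2 : ℕ).factorization 2 < 1 * 21
          omega
      · have hF4 : Fintype.card F = 4 := by
          rw [hq2 2 h1 rfl]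
          norm_num
        refine main 7 3 (by norm_num) ?_ (by norm_num) (by norm_num) (by norm_num) (by norm_num) (by norm_num) hnum
        rw [hF4]
        have : Fact (Nat.Prime 3) := ⟨by norm_num⟩
        exact orderOf_eq_prime (by decide) (by decide)
    · have hn2 : (n - 2) * 1 ≤ (n - 2) * k := Nat.mul_le_mul_left _ hk
      obtain ⟨s, hs, hos⟩ := Lib.Zsigmondy.exists_prime_orderOf (a := p) (n := (n - 2) * k) hpf.two_le (by omega)
        (fun h => by omega) hex
      have hos' : orderOf ((Fintype.card F : ℕ) : ZMod s) = n - 2 := by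
        rw [hF]
        exact order_base hk hos (by omega)
      have hsn := lt_prime hs hos' (by omega)
      refine main s (n - 2) hs hos' (by omega) (by omega) hnd ?_ (not_dvd_two_mul hs hk hos (by omega)) hnum
      intro h4
      -- `s = n`, so `n - 2` divides `n - 1`
      have h6 := Nat.le_of_dvd (by omega) h4
      have h7 : s = n := by
        obtain ⟨c, hc⟩ := h4
        have : c < 2 := by
          by_contra hcc
          have : s * 2 ≤ s * c := Nat.mul_le_mul_left s (by omega)
          omega
        have hc0 : c ≠ 0 := by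
          rintro rfl
          omega
        have : c = 1 := by omega
        rw [this, mul_one] at hc
        exact hc.symm
      have h8 := dvd_pred hs hos' (by omega)
      rw [h7] at h8
      have h9 : n - 2 ∣ (n - 1) - (n - 2) := Nat.dvd_sub h8 dvd_rfl
      have h10 : (n - 1) - (n - 2) = 1 := by omega
      rw [h10] at h9
      have := Nat.le_of_dvd (by norm_num) h9
      omega

end Cfsg.Agent.H743.NFPsl
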