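import Cfsg.Agent.H233.B3.Row3
import Cfsg.Agent.H489.OutSpor
import Cfsg.Agent.H750.R3.PslTwo
import Cfsg.Agent.S2126
import Cfsg.Agent.S2127
import Cfsg.Agent.S2128

/-!
# S5761, rows at p = 2 with `|Out T| ≤ 2` or `|Out T|` odd (helper743, task 2819)
-/

set_option autoImplicit false

namespace Cfsg.Agent.H743.RowTwo

open Cfsg Cfsg.Lie Cfsg.Agent.H903.SylMeet Cfsg.Agent.H233.B3

universe u

/-- `A_n`, `n ≥ 5` -/
theorem row2_alt {n : ℕ} (hn : 5 ≤ n)
    (hm : ∀ R : Subgroup (alternatingGroup (Fin n)), IsPGroup 2 R → ∃ x : alternatingGroup (Fin n),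
      ∀ y ∈ R, x * y * x⁻¹ ∈ R → y = 1) : Row3 2 (alternatingGroup (Fin n)) := by
  by_cases h6 : n = 6
  · subst h6
    let _ : Fintype (GaloisField 3 2) := Fintype.ofFinite _
    have h9 : Fintype.card (GaloisField 3 2) = 9 := by
      rw [← Nat.card_eq_fintype_card, GaloisField.card 3 2 (by norm_num)]
      norm_num
    obtain ⟨e⟩ := S0254.result h9
    refine Row3.congr e ?_
    refine H750.R3.row2_PSL_odd (F := GaloisField 3 2) le_rfl (fun _ => by rw [h9]; norm_num) ?_
    rw [h9]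
    decide
  · have hs : IsSimpleGroup (alternatingGroup (Fin n)) := alternatingGroup.isSimpleGroup (by simpa using hn)
    have hc : ¬ IsMulCommutative (alternatingGroup (Fin n)) := by
      intro hc
      have h4 : (Nat.card (alternatingGroup (Fin n))).Prime := by
        let _ : CommGroup (alternatingGroup (Fin n)) := { (inferInstance : Group (alternatingGroup (Fin n))) with
          mul_comm := hc.is_comm.comm }
        exact IsSimpleGroup.prime_card
      have h2 : Nontrivial (Fin n) := Fin.nontrivial_iff_two_le.2 (by omega)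
      have h3 : 2 * Nat.card (alternatingGroup (Fin n)) = Nat.card (Equiv.Perm (Fin n)) := by
        rw [Nat.card_eq_fintype_card, Nat.card_eq_fintype_card]
        exact two_mul_card_alternatingGroup
      have h5 : 2 * Nat.card (alternatingGroup (Fin n)) = n.factorial := by
        rw [h3, Nat.card_eq_fintype_card, Fintype.card_perm, Fintype.card_fin]
      have h6 : 5 * 4 * 3 * 2 ∣ n.factorial := by
        have : Nat.factorial 5 ∣ n.factorial := Nat.factorial_dvd_factorial hn
        exact this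
      have h7 : 4 ∣ Nat.card (alternatingGroup (Fin n)) := by
        have : 2 * 4 ∣ 2 * Nat.card (alternatingGroup (Fin n)) := by
          rw [h5]
          exact dvd_trans (by norm_num) h6
        exact Nat.dvd_of_mul_dvd_mul_left (by norm_num) this
      have h8 : 2 ∣ Nat.card (alternatingGroup (Fin n)) := dvd_trans (by norm_num) h7
      rw [← (Nat.prime_dvd_prime_iff_eq Nat.prime_two h4).1 h8] at h7
      exact absurd h7 (by norm_num)
    exact row3_of_meetIn hc hm (H489.card_out_alt hn h6).le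

variable {T : Type*} [Group T] [Finite T] [IsSimpleGroup T]

/-- the Suzuki groups -/
theorem row2_sz (hT : ¬ IsMulCommutative T) (h : IsoSuzuki T)
    (hm : ∀ R : Subgroup T, IsPGroup 2 R → ∃ x : T, ∀ y ∈ R, x * y * x⁻¹ ∈ R → y = 1) : Row3 2 T := by
  obtain ⟨F, _, _, m, h1, hF, ⟨e⟩⟩ := h
  refine row3_of_odd_out hT hm ?_
  rw [H55.OutGen.card_out_congr e, S2126.result h1 hF]
  exact ⟨m, rfl⟩

/-- the small Ree groups -/
theorem row2_ree (hT : ¬ IsMulCommutative T) (h : IsoRee T)
    (hm : ∀ R : Subgroup T, IsPGroup 2 R → ∃ x : T, ∀ y ∈ R, x * y * x⁻¹ ∈ R → y = 1) : Row3 2 T := by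
  obtain ⟨F, _, _, m, h1, hF, ⟨e⟩⟩ := h
  refine row3_of_odd_out hT hm ?_
  rw [H55.OutGen.card_out_congr e, S2127.result h1 hF]
  exact ⟨m, rfl⟩

/-- the large Ree groups -/
theorem row2_ree2 (hT : ¬ IsMulCommutative T) (h : Iso2F4 T)
    (hm : ∀ R : Subgroup T, IsPGroup 2 R → ∃ x : T, ∀ y ∈ R, x * y * x⁻¹ ∈ R → y = 1) : Row3 2 T := by
  obtain ⟨F, _, _, m, h1, hF, ⟨e⟩⟩ := h
  refine row3_of_odd_out hT hm ?_
  rw [H55.OutGen.card_out_congr e, S2128.result h1 hF]
  exact ⟨m, rfl⟩

/-- the Tits group -/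
theorem row2_tits (hT : ¬ IsMulCommutative T) (h : IsoTits T)
    (hm : ∀ R : Subgroup T, IsPGroup 2 R → ∃ x : T, ∀ y ∈ R, x * y * x⁻¹ ∈ R → y = 1) : Row3 2 T :=
  row3_of_meetIn hT hm (H489.card_out_tits h)

/-- the sporadic groups -/
theorem row2_spor (hT : ¬ IsMulCommutative T) (h : IsSporadicGroup T)
    (hm : ∀ R : Subgroup T, IsPGroup 2 R → ∃ x : T, ∀ y ∈ R, x * y * x⁻¹ ∈ R → y = 1) : Row3 2 T :=
  row3_of_meetIn hT hm (H489.card_out_sporadic h)

end Cfsg.Agent.H743.RowTwo
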