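import Cfsg.Agent.H459.Inv.Tools
import Cfsg.Agent.H804.TitsFive

/-!
# S3830, the Tits group (helper743, task 2566)

The elements `a`, `g8` of `H804.TitsFive` satisfy `a ^ 5 = g8 ^ 2 = (a g8) ^ 13 = 1`: a perfect group.
-/

set_option autoImplicit false
set_option linter.unusedSectionVars false

namespace Cfsg.Agent.H743.InvTits

open Subgroup Cfsg Cfsg.Agent.H459.Inv Cfsg.Agent.H804.TitsFive

open Cfsg.Agent.Omega.TwoF.Tits Cfsg.Agent.Omega.TwoF.Scalar Cfsg.Agent.Omega.TwoF.Orb
  Cfsg.Agent.ChevalleyStructure.Tits.Main Cfsg.Agent.ChevalleyStructure.Tits.Mat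
  Cfsg.Agent.ChevalleyStructure.Tits.Order

universe u

theorem tr_conj {K L : Type*} [Group K] [Group L] (e : K ≃* L) (y : K) :
    H459.Rad.tr e (MulAut.conj y) = MulAut.conj (e y) := by
  refine MulEquiv.ext fun k => ?_
  rw [H459.Rad.tr_apply, MulAut.conj_apply, MulAut.conj_apply, map_mul, map_mul, map_inv, e.apply_symm_apply]

theorem ns_tr_conj {K L : Type*} [Group K] [Group L] (e : K ≃* L) {y : K} (h : NS (MulAut.conj (e y))) :
    NS (MulAut.conj y) :=
  ns_of_tr e (by rw [tr_conj]; exact h)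

theorem ns_comm {K G : Type*} [Group K] [Group G] (T : Subgroup G) (e : K ≃* _root_.commutator T) {y : K}
    (h : ∀ z : ↥(_root_.commutator T), orderOf z = orderOf y → NS (MulAut.conj z)) : NS (MulAut.conj y) :=
  ns_tr_conj e (h _ (MulEquiv.orderOf_eq e y))

theorem pow_ag : (a * g8) ^ 13 = 1 := by
  apply Subtype.ext
  have h : (((a * g8) ^ 13 : C) : H0) = (wH wa * wH [8]) ^ 13 := rfl
  rw [h, ← wH_append, ← wH_rep]
  exact rel (v := []) (by decide +kernel)

theorem g8_ne : g8 ≠ 1 := by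
  intro h
  have h1 := pow_ag
  rw [h, mul_one] at h1
  have h2 : a ^ 5 = 1 := a5
  have h3 : orderOf a ∣ Nat.gcd 13 5 := Nat.dvd_gcd (orderOf_dvd_of_pow_eq_one h1) (orderOf_dvd_of_pow_eq_one h2)
  exact a1 (orderOf_eq_one_iff.1 (Nat.dvd_one.1 (by simpa using h3)))

theorem order_a : orderOf a = 5 := by
  have : Fact (Nat.Prime 5) := ⟨by norm_num⟩
  exact orderOf_eq_prime a5 a1

theorem order_g8 : orderOf g8 = 2 := by
  have : Fact (Nat.Prime 2) := ⟨Nat.prime_two⟩
  exact orderOf_eq_prime (by rw [pow_two]; exact g8_sq) g8_ne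

theorem order_ag : orderOf (a * g8) = 13 := by
  have : Fact (Nat.Prime 13) := ⟨by norm_num⟩
  refine orderOf_eq_prime pow_ag fun h => ?_
  have h1 : a = g8⁻¹ := mul_eq_one_iff_eq_inv.1 h
  have h2 := order_a
  rw [h1, orderOf_inv, order_g8] at h2
  omega

/-- the group `⟨a, g8⟩` -/
theorem not_sol : ¬ Group.IsSolvable ↥(Subgroup.closure ({a, g8} : Set C)) := by
  refine not_solvable_of_triangle ?_ ?_ ?_ g8_ne
  · rw [order_a, order_g8]; norm_num
  · rw [order_ag, order_a]; norm_num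
  · rw [order_ag, order_g8]; norm_num

theorem ns_a : NS (MulAut.conj a) := ns_of_inner order_g8 not_sol

theorem ns_ag : NS (MulAut.conj (a * g8)) := by
  refine ns_of_inner order_g8 fun hs => not_sol ?_
  refine Cfsg.Agent.SignalizersComponents.ComponentExists.isSolvable_of_le ((Subgroup.closure_le _).2 ?_) hs
  have h1 : a * g8 ∈ Subgroup.closure ({a * g8, g8} : Set C) := Subgroup.subset_closure (Set.mem_insert _ _)
  have h2 : g8 ∈ Subgroup.closure ({a * g8, g8} : Set C) := Subgroup.subset_closure (Set.mem_insert_of_mem _ rfl)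
  rintro z (rfl | rfl)
  · have h3 := mul_mem h1 (inv_mem h2)
    rwa [mul_inv_cancel_right] at h3
  · exact h2

theorem ns_five {y : C} (hy : orderOf y = 5) : NS (MulAut.conj y) := by
  obtain ⟨s, hs⟩ := exists_conj hy
  refine ns_of_conj (g := MulAut.conj s) ?_
  rw [← map_inv, ← map_mul, ← map_mul, hs]
  exact ns_a

theorem ns_thirteen {y : C} (hy : orderOf y = 13) : NS (MulAut.conj y) := by
  have hf : Finite H0 := fin_H0
  have : Fact (Nat.Prime 13) := ⟨by norm_num⟩
  refine ns_of_sylow_cyclic (cyclic_of_sq ?_) hy order_ag ns_ag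
  rw [H0_result.2.2.2]
  norm_num

theorem aux (T : Subgroup (GL I52 (ZMod 2))) (hT : T = H0) {y : ↥(_root_.commutator T)}
    (hy : orderOf y = 5 ∨ orderOf y = 13) : NS (MulAut.conj y) := by
  subst hT
  rcases hy with hy | hy
  · exact ns_five hy
  · exact ns_thirteen hy

/-- **The row of the Tits group of S3830** (task 2566) -/
theorem irow_tits {K : Type*} [Group K] [Finite K] [IsSimpleGroup K] (h : Cfsg.Lie.IsoTits K) {p : ℕ}
    [hp : Fact p.Prime] (h5 : 5 ≤ p) : IRow p K := by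
  intro x hx
  have ho := Cfsg.Agent.CpAutTits.Row.out h
  obtain ⟨y, rfl⟩ := Cfsg.Agent.CpAutTits.Row.autInner h hp.out (by omega) x hx
  have hc := Cfsg.Agent.CpAutTits.Row.center_bot ho
  have hy : orderOf y = p := by rw [← Cfsg.Agent.CpAut.orderOf_conj hc y, hx]
  obtain ⟨T, hT, ⟨e⟩⟩ := Cfsg.Agent.Omega.TwoF.TitsAut.exists_equiv h
  have hp513 : p = 5 ∨ p = 13 := by
    have h1 : p ∣ 2 ^ 11 * 3 ^ 3 * 5 ^ 2 * 13 := by
      rw [← ho.card, ← hy]
      exact orderOf_dvd_natCard y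
    have hpp := hp.out
    rcases hpp.dvd_mul.1 h1 with h1 | h1
    · rcases hpp.dvd_mul.1 h1 with h1 | h1
      · rcases hpp.dvd_mul.1 h1 with h1 | h1
        · have := (Nat.prime_dvd_prime_iff_eq hpp Nat.prime_two).1 (hpp.dvd_of_dvd_pow h1)
          omega
        · have := (Nat.prime_dvd_prime_iff_eq hpp Nat.prime_three).1 (hpp.dvd_of_dvd_pow h1)
          omega
      · exact Or.inl ((Nat.prime_dvd_prime_iff_eq hpp Nat.prime_five).1 (hpp.dvd_of_dvd_pow h1))
    · exact Or.inr ((Nat.prime_dvd_prime_iff_eq hpp (by norm_num)).1 h1)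
  refine ns_comm T e fun z hz => aux T hT ?_
  rcases hp513 with hp | hp
  · exact Or.inl (hz.trans (hy.trans hp))
  · exact Or.inr (hz.trans (hy.trans hp))

end Cfsg.Agent.H743.InvTits
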