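import Cfsg.Agent.H743.InvTool
import Cfsg.Agent.H271.IsolatedFStar
import Cfsg.Agent.H128.TwF4Ab
import Cfsg.Agent.H496.TwFRad.Levi
import Cfsg.Agent.H496.TwFRad.Out
import Cfsg.Agent.S1068

/-!
# S3830, the groups `²F₄(q)`: inner automorphisms of order `p`, `p` dividing `q⁴ - 1` (helper743)

`p ∣ (q - 1) (q² + 1)`: the subgroup `Sz(q) × Sz(q)`; `p ∣ q + 1`: the subgroup `SL₂(q) × SL₂(q)`.
-/

set_option autoImplicit false
set_option linter.unusedSectionVars false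

namespace Cfsg.Agent.H743.InvTwF

open Subgroup Cfsg Cfsg.Lie
open Cfsg.Agent.KFacts.TwF4 Cfsg.Agent.KFacts.TwF4.Inst Cfsg.Agent.KFacts.TwF4.Irr
open Cfsg.Agent.CpAutTwF.Cent (M4 map_L4 L4_comm_M4)
open Cfsg.Agent.ChevalleyStructure.SL2Hom
open Cfsg.Agent.H459.Inv Cfsg.Agent.H743.InvTool
open Cfsg.Agent.H84.CoreTwF (card_prod center_simple simple_L4 z_three)

/-! ### numbers -/

theorem index_prod {G : Type*} [Group G] [Finite G] {A B : Subgroup G} (hc : ∀ a ∈ A, ∀ b ∈ B, a * b = b * a)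
    [IsSimpleGroup A] (hA : ¬ Group.IsSolvable A) {cof : ℕ} (hG : Nat.card G = Nat.card A * Nat.card B * cof) :
    (A ⊔ B).index = cof := by
  have h1 : ∀ x ∈ A, x ∈ B → x = 1 := fun x hx hx' => by
    have : (⟨x, hx⟩ : A) = 1 := center_simple hA fun y => Subtype.ext (hc y y.2 x hx').symm
    exact congrArg Subtype.val this
  have hcard := card_prod hc h1
  have h2 := Subgroup.card_mul_index (A ⊔ B)
  rw [hcard, hG] at h2
  exact Nat.eq_of_mul_eq_mul_left (by have := Nat.card_pos (α := A); have := Nat.card_pos (α := B); positivity) h2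

theorem lt_of_prod {G : Type*} [Group G] [Finite G] {A B : Subgroup G} {cof : ℕ}
    (hG : Nat.card G = Nat.card A * Nat.card B * cof) (hB : 2 ≤ Nat.card B) (hcof : 1 ≤ cof) :
    Nat.card A < Nat.card G := by
  have hA : 1 ≤ Nat.card A := Nat.card_pos
  rw [hG]
  calc Nat.card A < Nat.card A * 2 := by omega
    _ ≤ Nat.card A * Nat.card B := Nat.mul_le_mul_left _ hB
    _ ≤ Nat.card A * Nat.card B * cof := Nat.le_mul_of_pos_right _ hcof

section Sz

universe u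

variable {F : Type*} [Field F] {σ : F →+* F} {G : Type u} [Group G] (S : Full σ G) [Finite F] [Finite G]

include S in
theorem card_L4_lt {m : ℕ} (hm : 1 ≤ m) (hF' : Nat.card F = 2 ^ (2 * m + 1))
    (hG : Nat.card G = (2 ^ (2 * m + 1)) ^ 12 * (2 ^ (2 * m + 1) - 1) * ((2 ^ (2 * m + 1)) ^ 3 + 1) *
      ((2 ^ (2 * m + 1)) ^ 4 - 1) * ((2 ^ (2 * m + 1)) ^ 6 + 1)) : Nat.card (L4 S) < Nat.card G := by
  have hq2 : 2 ≤ 2 ^ (2 * m + 1) := by
    calc 2 = 2 ^ 1 := rfl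
      _ ≤ 2 ^ (2 * m + 1) := Nat.pow_le_pow_right (by norm_num) (by omega)
  have hFu : ∃ d : Fˣ, d ≠ 1 := by
    have h1 : 1 < Nat.card Fˣ := by
      rw [Nat.card_units, hF']
      have : 2 ^ 3 ≤ 2 ^ (2 * m + 1) := Nat.pow_le_pow_right (by norm_num) (by omega)
      omega
    have h2 : Nontrivial Fˣ := Finite.one_lt_card_iff_nontrivial.1 h1
    exact exists_ne 1
  have hL := Cfsg.Agent.H496.TwFRad.Levi.card_L4 S hFu
  rw [hF'] at hL
  generalize 2 ^ (2 * m + 1) = q at *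
  obtain ⟨r, rfl⟩ : ∃ r, q = r + 1 := ⟨q - 1, by omega⟩
  rw [Nat.add_sub_cancel] at hL
  have h1 : (r + 1) ^ 4 - 1 = r * (r + 2) * ((r + 1) ^ 2 + 1) := by
    apply Nat.sub_eq_of_eq_add
    ring
  refine lt_of_prod (A := L4 S) (B := L4 S)
    (cof := (r + 1) ^ 8 * (r + 2) ^ 2 * (r ^ 2 + r + 1) * (r ^ 4 + 4 * r ^ 3 + 5 * r ^ 2 + 2 * r + 1)) ?_ ?_ ?_
  · rw [hG, hL, h1, Nat.add_sub_cancel]
    ring
  · rw [hL]
    have : 1 ≤ (r + 1) * (r + 1) * r := Nat.mul_pos (by positivity) (by omega)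
    nlinarith
  · have : 0 < (r + 1) ^ 8 * (r + 2) ^ 2 * (r ^ 2 + r + 1) * (r ^ 4 + 4 * r ^ 3 + 5 * r ^ 2 + 2 * r + 1) := by positivity
    omega

include S in
theorem ns_sz {m : ℕ} (hm : 1 ≤ m) {q : ℕ} (hq : q = 2 ^ (2 * m + 1)) (hF : Nat.card F = q)
    (hG : Nat.card G = q ^ 12 * (q - 1) * (q ^ 3 + 1) * (q ^ 4 - 1) * (q ^ 6 + 1))
    {p : ℕ} [hp : Fact p.Prime] (hp2 : p ≠ 2) (hpq : p ∣ q - 1 ∨ p ∣ q ^ 2 + 1) (hI : IH.{u} p (Nat.card G))
    {a : G} (ha : orderOf a = p) : NS (MulAut.conj a) := by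
  have hF' : Nat.card F = 2 ^ (2 * m + 1) := hF.trans hq
  have hFu : ∃ d : Fˣ, d ≠ 1 := by
    have h1 : 1 < Nat.card Fˣ := by
      rw [Nat.card_units, hF']
      have : 2 ^ 3 ≤ 2 ^ (2 * m + 1) := Nat.pow_le_pow_right (by norm_num) (by omega)
      omega
    have h2 : Nontrivial Fˣ := Finite.one_lt_card_iff_nontrivial.1 h1
    exact exists_ne 1
  obtain ⟨h1, h2⟩ := simple_L4 S hm hF'
  have e : ↥(L4 S) ≃* ↥(M4 S) := ((L4 S).equivMapOfInjective (S.ck 2).toMonoidHom (S.ck 2).injective).trans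
    (MulEquiv.subgroupCongr (map_L4 S))
  have h3 : Nontrivial ↥(M4 S) := e.symm.toEquiv.nontrivial
  have h4 : IsSimpleGroup ↥(M4 S) := IsSimpleGroup.isSimpleGroup_of_surjective e.toMonoidHom e.surjective
  have h5 : ¬ Group.IsSolvable ↥(M4 S) := fun hs => h2
    (Group.isSolvable_of_surjective (f := e.symm.toMonoidHom) e.symm.surjective)
  have hq2 : 2 ≤ q := by
    rw [hq]
    calc 2 = 2 ^ 1 := rfl
      _ ≤ 2 ^ (2 * m + 1) := Nat.pow_le_pow_right (by norm_num) (by omega)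
  obtain ⟨r, rfl⟩ : ∃ r, q = r + 1 := ⟨q - 1, by omega⟩
  have hL : Nat.card (L4 S) = (r + 1) * (r + 1) * r * ((r + 1) * (r + 1) + 1) := by
    rw [Cfsg.Agent.H496.TwFRad.Levi.card_L4 S hFu, hF, Nat.add_sub_cancel]
  have hM : Nat.card (M4 S) = (r + 1) * (r + 1) * r * ((r + 1) * (r + 1) + 1) := by
    rw [← Nat.card_congr e.toEquiv, hL]
  have hp1 : ¬ p ∣ 2 := fun hd => hp2 ((Nat.prime_dvd_prime_iff_eq hp.out Nat.prime_two).1 hd)
  have hpr : ¬ p ∣ r + 1 := by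
    rw [hq]
    exact fun hd => hp1 (hp.out.dvd_of_dvd_pow hd)
  have hcomm : ∀ a ∈ L4 S, ∀ b ∈ M4 S, a * b = b * a := fun a ha b hb => L4_comm_M4 S ha hb
  have hGc : Nat.card G = Nat.card (L4 S) * Nat.card (M4 S) *
      ((r + 1) ^ 8 * (r + 2) ^ 2 * (r ^ 2 + r + 1) * (r ^ 4 + 4 * r ^ 3 + 5 * r ^ 2 + 2 * r + 1)) := by
    rw [hG, hL, hM]
    have h1 : (r + 1) ^ 4 - 1 = r * (r + 2) * ((r + 1) ^ 2 + 1) := by
      apply Nat.sub_eq_of_eq_add
      ring
    rw [h1, Nat.add_sub_cancel]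
    ring
  have hcofpos : 1 ≤ (r + 1) ^ 8 * (r + 2) ^ 2 * (r ^ 2 + r + 1) * (r ^ 4 + 4 * r ^ 3 + 5 * r ^ 2 + 2 * r + 1) := by
    have : 0 < (r + 1) ^ 8 * (r + 2) ^ 2 * (r ^ 2 + r + 1) * (r ^ 4 + 4 * r ^ 3 + 5 * r ^ 2 + 2 * r + 1) := by positivity
    omega
  have hLM : Nat.card (M4 S) = Nat.card (L4 S) := hM.trans hL.symm
  have hL2 : 2 ≤ Nat.card (L4 S) := Finite.one_lt_card_iff_nontrivial.2 h1.toNontrivial
  have hlt : Nat.card (L4 S) < Nat.card G := lt_of_prod hGc (by rw [hLM]; exact hL2) hcofpos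
  refine ns_of_prod hcomm h2 h5 (p := p) ?_ hI hlt (by rw [hLM]; exact hlt) ha
  rw [index_prod hcomm h2 hGc]
  -- modulo `p`
  intro hd
  have hcast := (ZMod.natCast_eq_zero_iff _ p).2 hd
  push_cast at hcast
  have h2z : (2 : ZMod p) ≠ 0 := by
    intro hz
    exact hp1 ((ZMod.natCast_eq_zero_iff 2 p).1 (by exact_mod_cast hz))
  have hqz : ((r : ZMod p) + 1) ≠ 0 := by
    intro hz
    exact hpr ((ZMod.natCast_eq_zero_iff (r + 1) p).1 (by push_cast; exact hz))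
  rcases hpq with h | h
  · rw [Nat.add_sub_cancel] at h
    have hr : (r : ZMod p) = 0 := (ZMod.natCast_eq_zero_iff r p).2 h
    rw [hr] at hcast
    have : (2 : ZMod p) ^ 2 = 0 := by linear_combination hcast
    exact h2z (pow_eq_zero_iff (by norm_num) |>.1 this)
  · have hr : ((r : ZMod p) + 1) ^ 2 + 1 = 0 := by
      have := (ZMod.natCast_eq_zero_iff _ p).2 h
      push_cast at this
      exact this
    -- `cof = 6 q ^ 8 * (...)`
    have h3 : (3 : ZMod p) ≠ 0 := by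
      intro hz
      have h3 : p ∣ 3 := (ZMod.natCast_eq_zero_iff 3 p).1 (by exact_mod_cast hz)
      have hp3 : p = 3 := (Nat.prime_dvd_prime_iff_eq hp.out Nat.prime_three).1 h3
      subst hp3
      exact z_three _ hr
    obtain ⟨y, hy⟩ : ∃ y : ZMod p, y = (r : ZMod p) + 1 := ⟨_, rfl⟩
    have hry : (r : ZMod p) = y - 1 := by rw [hy]; ring
    rw [← hy] at hr hqz
    rw [hry] at hcast
    have hy2 : y ^ 2 = -1 := by linear_combination hr
    have e1 : (y - 1 + 2) ^ 2 = 2 * y := by linear_combination hy2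
    have e2 : (y - 1) ^ 2 + (y - 1) + 1 = - y := by linear_combination hy2
    have e3 : (y - 1) ^ 4 + 4 * (y - 1) ^ 3 + 5 * (y - 1) ^ 2 + 2 * (y - 1) + 1 = 3 := by
      have : (y - 1) ^ 4 + 4 * (y - 1) ^ 3 + 5 * (y - 1) ^ 2 + 2 * (y - 1) + 1 = (y ^ 2) ^ 2 - y ^ 2 + 1 := by ring
      rw [this, hy2]; ring
    have e0 : y - 1 + 1 = y := by ring
    rw [e0, e1, e2, e3] at hcast
    have h6 : y ^ 8 * (2 * y) * (- y) * 3 ≠ 0 := by
      refine mul_ne_zero (mul_ne_zero (mul_ne_zero (pow_ne_zero _ hqz) (mul_ne_zero h2z hqz)) (neg_ne_zero.2 hqz)) h3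
    exact h6 hcast

end Sz

section SL

variable {F : Type} [Field F] [Fintype F] {m : ℕ} (hm : 1 ≤ m) (hK : Fintype.card F = 2 ^ (2 * m + 1))

set_option maxHeartbeats 800000 in
include hm hK in
theorem ns_sl {p : ℕ} [hp : Fact p.Prime] (h5 : 5 ≤ p) (hpq : p ∣ 2 ^ (2 * m + 1) + 1)
    (hI : IH.{0} p (Nat.card ↥(twistedF4 F (2 ^ m)))) {a : ↥(twistedF4 F (2 ^ m))} (ha : orderOf a = p) :
    NS (MulAut.conj a) := by
  classical
  have : CharP F 2 := Cfsg.Agent.ChevalleyStructure.F4Fixed.charP_two hK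
  have hfin : Finite ↥(twistedF4 F (2 ^ m)) := inferInstance
  have he : 2 ^ m ≠ 0 := pow_ne_zero m two_ne_zero
  have hcard : 4 ≤ Nat.card F := by
    rw [Nat.card_eq_fintype_card, hK]
    calc 4 ≤ 2 ^ 3 := by norm_num
      _ ≤ _ := Nat.pow_le_pow_right (by norm_num) (by omega)
  obtain ⟨ψ, ψ', hcomm, hne, c, hψ'⟩ := H128.TwF4Ab.exists_pair (ChevalleyStructure.F4Fixed.theta hK) he
    (ChevalleyStructure.F4Fixed.theta_apply hK)
  have hqs : IsQuasisimple (Matrix.SpecialLinearGroup (Fin 2) F) :=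
    SignalizersComponents.SLQuasisimple.isQuasisimple_two hcard
  have hsimple : IsSimpleGroup (Matrix.SpecialLinearGroup (Fin 2) F) :=
    H271.IsolatedFStar.isSimple_of_center_eq_bot hqs H128.TwF4Ab.center_sl_two
  have hns : ¬ Group.IsSolvable (Matrix.SpecialLinearGroup (Fin 2) F) := by
    intro hs
    have hnt : Nontrivial (Matrix.SpecialLinearGroup (Fin 2) F) := hsimple.toNontrivial
    exact (Group.IsSolvable.commutator_lt_top_of_nontrivial (G := Matrix.SpecialLinearGroup (Fin 2) F)).ne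
      hqs.1.commutator_eq_top
  have hinj : Function.Injective ψ := by
    rw [← MonoidHom.ker_eq_bot_iff]
    rcases hsimple.eq_bot_or_eq_top_of_normal ψ.ker inferInstance with h | h
    · exact h
    · exfalso
      apply hne
      have : up (1 : F) ∈ ψ.ker := by rw [h]; trivial
      exact this
  have hinj' : Function.Injective ψ' := by
    intro x y h
    rw [hψ', hψ'] at h
    exact hinj (mul_left_cancel (mul_right_cancel h))
  have hS : Nat.card (Matrix.SpecialLinearGroup (Fin 2) F) = Fintype.card F * (Fintype.card F ^ 2 - 1) :=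
    Cfsg.Agent.ClassicalGeometry.PSL2Basic.card_SL2 F
  let e := MonoidHom.ofInjective hinj
  let e' := MonoidHom.ofInjective hinj'
  have i1 : IsSimpleGroup ↥ψ.range := by
    have : Nontrivial ↥ψ.range := e.symm.toEquiv.nontrivial
    exact IsSimpleGroup.isSimpleGroup_of_surjective e.toMonoidHom e.surjective
  have i2 : IsSimpleGroup ↥ψ'.range := by
    have : Nontrivial ↥ψ'.range := e'.symm.toEquiv.nontrivial
    exact IsSimpleGroup.isSimpleGroup_of_surjective e'.toMonoidHom e'.surjective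
  have n1 : ¬ Group.IsSolvable ↥ψ.range := fun hs => hns
    (Group.isSolvable_of_surjective (f := e.symm.toMonoidHom) e.symm.surjective)
  have n2 : ¬ Group.IsSolvable ↥ψ'.range := fun hs => hns
    (Group.isSolvable_of_surjective (f := e'.symm.toMonoidHom) e'.symm.surjective)
  have c1 : Nat.card ↥ψ.range = Fintype.card F * (Fintype.card F ^ 2 - 1) := by
    rw [← Nat.card_congr e.toEquiv, hS]
  have c2 : Nat.card ↥ψ'.range = Fintype.card F * (Fintype.card F ^ 2 - 1) := by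
    rw [← Nat.card_congr e'.toEquiv, hS]
  have hc : ∀ a ∈ ψ.range, ∀ b ∈ ψ'.range, a * b = b * a := by
    rintro _ ⟨x, rfl⟩ _ ⟨y, rfl⟩
    exact (hcomm x y).eq
  have hG := Cfsg.Agent.S1068.result hK
  rw [← hK] at hG hpq
  obtain ⟨r, hr⟩ : ∃ r, Fintype.card F = r + 1 := ⟨Fintype.card F - 1, by
    have : 0 < Fintype.card F := Fintype.card_pos
    omega⟩
  rw [hr] at hG c1 c2 hpq
  have hGc : Nat.card ↥(twistedF4 F (2 ^ m)) = Nat.card ↥ψ.range * Nat.card ↥ψ'.range *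
      ((r + 1) ^ 10 * (r ^ 2 + r + 1) * ((r + 1) ^ 2 + 1) * ((r + 1) ^ 6 + 1)) := by
    rw [hG, c1, c2]
    have h1 : (r + 1) ^ 4 - 1 = r * (r + 2) * ((r + 1) ^ 2 + 1) := by
      apply Nat.sub_eq_of_eq_add
      ring
    have h2 : (r + 1) ^ 2 - 1 = r * (r + 2) := by
      apply Nat.sub_eq_of_eq_add
      ring
    rw [h1, h2, Nat.add_sub_cancel]
    ring
  have hcofpos : 1 ≤ (r + 1) ^ 10 * (r ^ 2 + r + 1) * ((r + 1) ^ 2 + 1) * ((r + 1) ^ 6 + 1) := by
    have : 0 < (r + 1) ^ 10 * (r ^ 2 + r + 1) * ((r + 1) ^ 2 + 1) * ((r + 1) ^ 6 + 1) := by positivity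
    omega
  have h12 : Nat.card ↥ψ'.range = Nat.card ↥ψ.range := c2.trans c1.symm
  have hL2 : 2 ≤ Nat.card ↥ψ.range := Finite.one_lt_card_iff_nontrivial.2 i1.toNontrivial
  have hlt : Nat.card ↥ψ.range < Nat.card ↥(twistedF4 F (2 ^ m)) := lt_of_prod hGc (by rw [h12]; exact hL2) hcofpos
  refine ns_of_prod hc n1 n2 (p := p) ?_ hI hlt (by rw [h12]; exact hlt) ha
  rw [index_prod hc n1 hGc]
  -- modulo `p`
  intro hd
  have hcast := (ZMod.natCast_eq_zero_iff _ p).2 hd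
  have hq := (ZMod.natCast_eq_zero_iff _ p).2 hpq
  push_cast at hcast hq
  have hr2 : (r : ZMod p) = -2 := by linear_combination hq
  rw [hr2] at hcast
  have h12z : ((12 : ℕ) : ZMod p) = 0 := by
    push_cast
    linear_combination hcast
  rw [ZMod.natCast_eq_zero_iff] at h12z
  have h3 : p ∣ 2 * 2 * 3 := h12z
  rcases hp.out.dvd_mul.1 h3 with h4 | h4
  · rcases hp.out.dvd_mul.1 h4 with h4 | h4 <;> exact absurd (Nat.le_of_dvd (by norm_num) h4) (by omega)
  · exact absurd (Nat.le_of_dvd (by norm_num) h4) (by omega)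

end SL

end Cfsg.Agent.H743.InvTwF
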