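/-
helper743: outer automorphisms of odd prime order of `²F₄(q)` (used for S2484 / S5760).

The proof of `H496.TwFRad.Out.inner_or_fix` (helper496) with a stronger conclusion.
-/
import Mathlib
import Cfsg.Agent.H496.TwFRad.Out

set_option autoImplicit false
set_option linter.unusedSectionVars false

namespace Cfsg.Agent.H743.TwF4OutConj

open Subgroup Cfsg Cfsg.Lie
open Cfsg.Agent.ChevalleyStructure.TwF4.Rel Cfsg.Agent.ChevalleyStructure.TwF4.TwistedFix
open Cfsg.Agent.Octagon.Pkg Cfsg.Agent.Octagon.KRel Cfsg.Agent.Octagon.KSys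
open Cfsg.Agent.TitsThree.RankTwoZ
open Cfsg.Agent.KFacts.TwF4 Cfsg.Agent.KFacts.TwF4.Inst
open Cfsg.Agent.H296.FFour
open Cfsg.Agent.GpExc.Field (glMap emb coe_emb emb_injective coe_glMap)
open Cfsg.Agent.BpExc.FamField Cfsg.Agent.BpExc.FamExt Cfsg.Agent.BpExc.FamUntw Cfsg.Agent.BpExc.FamInst
open Cfsg.Agent.Nodes.RGDChev Cfsg.Agent.KFacts.RgdChevCoord Cfsg.Agent.CpAut.RgdUntw
open Cfsg.Agent.H496.TwFRad Cfsg.Agent.H496.TwFRad.Out

variable {F : Type} [Field F] [Fintype F] {m : ℕ} (hm : 1 ≤ m)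
  (hK : Fintype.card F = 2 ^ (2 * m + 1))

include hm hK in
/-- **An automorphism of odd prime order of `²F₄(q)` is inner or a power of it is conjugate to a field automorphism.**
(the proof of `inner_or_fix`, helper496) -/
theorem inner_or_conj [CharP F 2] [PerfectRing F 2] {φ : F →+* F} (hφ : Rln φ (2 ^ m)) {p : ℕ} (hp : p.Prime) (hp2 : p ≠ 2)
    {x : MulAut ↥(twistedF4 F (2 ^ m))} (hx : x ^ p = 1) :
    (∃ g, x = MulAut.conj g) ∨ ∃ (e i' : ℕ) (δ ψ' : MulAut ↥(twistedF4 F (2 ^ m))), x ^ e = δ * ψ' * δ⁻¹ ∧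
      Fa (full hK hφ) (fr F i' : F →+* F) ψ' ∧ ¬ (2 * m + 1) ∣ i' := by
  have hfin : Finite ↥(twistedF4 F (2 ^ m)) := inferInstance
  have hF := exists_unit hm hK
  set S := full hK hφ with hS
  have hR : S.R.p = 2 := rfl
  obtain ⟨k0, τ, ho, he⟩ := AutNorm.aut_form S hF hR x
  set ψ : MulAut ↥(twistedF4 F (2 ^ m)) := (MulAut.conj k0)⁻¹ * x with hψ
  have hxψ : x = MulAut.conj k0 * ψ := by rw [hψ]; group
  have hk : ∀ y, (MulAut.conj k0)⁻¹ (k0 * y * k0⁻¹) = y := by
    intro y
    rw [← map_inv, MulAut.conj_apply]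
    group
  have H : Fa S τ ψ := by
    refine ⟨fun a t => ?_, fun a p u => ?_⟩
    · rw [hψ, MulAut.mul_apply, ho, hk]
    · rw [hψ, MulAut.mul_apply, he, hk]
  -- the exponent
  obtain ⟨i, hi⟩ := Cfsg.Agent.BpExc.FamField.exists_pow_eq 2
    (RingEquiv.ofBijective τ ⟨τ.injective, Finite.injective_iff_surjective.1 τ.injective⟩)
  have hi' : ∀ a, τ a = a ^ 2 ^ i := hi
  have hτ : τ = (fr F i : F →+* F) := by
    ext a
    rw [hi']
    exact (fr_apply i a).symm
  subst hτ
  have hn : Nat.card F = 2 ^ (2 * m + 1) := by rw [Nat.card_eq_fintype_card, hK]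
  by_cases hni : (2 * m + 1) ∣ i
  · left
    refine ⟨k0, ?_⟩
    have h1 := (Cfsg.Agent.BpExc.FamField.forall_pow_iff 2 hn i).2 hni
    have h2 : ψ = 1 := H.eq_one fun a => (hi' a).trans (h1 a)
    rw [hxψ, h2, mul_one]
  · right
    -- `n ∣ i p`
    have hfr : ∀ (n : ℕ) (a : F), ((fr F i : F →+* F) ^ n) a = a ^ 2 ^ (i * n) := by
      intro n
      induction n with
      | zero => intro a; simp
      | succ n ih =>
        intro a
        rw [pow_succ', RingHom.mul_def, RingHom.comp_apply, ih]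
        rw [hi', ← pow_mul, ← pow_add, mul_add, mul_one]
    have hnip : (2 * m + 1) ∣ i * p := by
      rw [← Cfsg.Agent.BpExc.FamField.forall_pow_iff 2 hn]
      obtain ⟨P, -, hP⟩ := Lift.pow_form (MonoidHom.id ↥(twistedF4 F (2 ^ m))) (ψ := ψ) (φ := ψ) (fun _ => rfl) k0 p
      rw [← hxψ, hx] at hP
      have h1 : ψ ^ p = MulAut.conj P⁻¹ := by
        rw [map_inv]
        exact (inv_eq_of_mul_eq_one_right hP.symm).symm
      have h2 := H.pow p
      rw [h1] at h2
      intro a
      rw [← hfr]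
      exact h2.eq_id a
    have hpn : p ∣ 2 * m + 1 := by
      by_contra hcon
      exact hni ((Nat.Coprime.dvd_mul_right ((Nat.Prime.coprime_iff_not_dvd hp).2 hcon).symm).1 hnip)
    obtain ⟨n0, hn0⟩ := hpn
    obtain ⟨c, hc⟩ : n0 ∣ i := by
      rw [hn0, mul_comm i p] at hnip
      exact Nat.dvd_of_mul_dvd_mul_left hp.pos hnip
    have hpc : ¬ p ∣ c := by
      rintro ⟨c', rfl⟩
      apply hni
      rw [hn0, hc]
      exact ⟨c', by ring⟩
    have hcop : (2 * c).Coprime p := by
      rw [Nat.coprime_comm, hp.coprime_iff_not_dvd, hp.dvd_mul]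
      rintro (h | h)
      · exact hp2 ((Nat.prime_dvd_prime_iff_eq hp Nat.prime_two).1 h)
      · exact hpc h
    obtain ⟨e, -, hee⟩ := Nat.exists_mul_mod_eq_one_of_coprime hcop hp.one_lt
    have he1 : 2 * c * e = p * (2 * c * e / p) + 1 := by
      have := Nat.div_add_mod (2 * c * e) p
      omega
    obtain ⟨j0, hj0⟩ : ∃ j0, n0 = 2 * j0 + 1 := by
      have h1 : n0 % 2 = 1 := by
        rcases Nat.mod_two_eq_zero_or_one n0 with h | h
        · have h2 : (2 * m + 1) % 2 = 1 := by omega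
          rw [hn0, Nat.mul_mod, h] at h2
          simp at h2
        · exact h
      exact ⟨n0 / 2, by omega⟩
    -- the algebraic closure
    let k := AlgebraicClosure F
    have hkc : CharP k 2 := Cfsg.Agent.H296.Core.charP_closure F 2
    have hkp : PerfectRing k 2 := inferInstance
    let f : F →+* k := algebraMap F k
    have hZY : ∀ z : ↥(chevF4.group k), (∀ a, z * a = a * z) → z = 1 := by
      have hZ : center ↥(chevF4.group (AlgebraicClosure F)) = ⊥ := by
        obtain ⟨a, b⟩ := Cfsg.Agent.S1054.result (F := AlgebraicClosure F) chevF4 (by simp)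
        refine Cfsg.Agent.KFacts.RgdLieCharP.center_eq_bot ?_
        by_contra hcon
        push Not at hcon
        exact b ⟨⟨hcon⟩⟩
      intro z hz
      have : z ∈ center ↥(chevF4.group (AlgebraicClosure F)) := mem_center_iff.2 fun a => (hz a).symm
      rw [hZ] at this
      exact mem_bot.1 this
    have hZK : ∀ z : ↥(twistedF4 F (2 ^ m)), (∀ a, z * a = a * z) → z = 1 := fun z hz =>
      OutTwo.center_eq_bot S hF fun g => (hz g).symm
    set Ψ : MulAut ↥(chevF4.group k) := (al k) ^ n0 with hΨ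
    have hΨp : Ψ ^ p = al k * phi chevF4 k 2 m := by
      rw [hΨ, ← pow_mul, mul_comm n0 p, ← hn0, al_odd]
    have hιψ : ∀ a, phi chevF4 k 2 i (io hK k f a) = io hK k f (ψ a) := fun a => phi_io hK f hφ H a
    have hιψn : ∀ (n : ℕ) (a), (phi chevF4 k 2 i ^ n) (io hK k f a) = io hK k f ((ψ ^ n) a) := by
      intro n
      induction n with
      | zero => intro a; rfl
      | succ n ih => intro a; rw [pow_succ', MulAut.mul_apply, ih, hιψ, pow_succ' ψ n]; rfl
    have hsn : ∀ (n : ℕ) (a), (((al k) ^ (2 * m + 1)) ^ n) (io hK k f a) = io hK k f a := by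
      intro n
      induction n with
      | zero => intro a; rfl
      | succ n ih => intro a; rw [pow_succ', MulAut.mul_apply, ih, al_odd, sig_io]
    have hΨι : ∀ a, Ψ (io hK k f a) = io hK k f ((ψ ^ e) a) := by
      intro a
      rw [← hιψn, phi_pow, ← al_even]
      have h1 : 2 * (i * e) = n0 + (2 * m + 1) * (2 * c * e / p) := by
        calc 2 * (i * e) = n0 * (2 * c * e) := by rw [hc]; ring
          _ = n0 * (p * (2 * c * e / p) + 1) := by rw [← he1]
          _ = n0 + (p * n0) * (2 * c * e / p) := by ring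
          _ = _ := by rw [← hn0]
      rw [h1, pow_add, pow_mul, MulAut.mul_apply, hsn]
    obtain ⟨P, -, hP⟩ := Lift.pow_form (MonoidHom.id ↥(twistedF4 F (2 ^ m))) (ψ := ψ) (φ := ψ) (fun _ => rfl) k0 e
    rw [← hxψ] at hP
    obtain ⟨δ, hδ⟩ := Lift.exists_conj (io_inj hK k f) hZK hZY hΨι (p := p)
      (fun a => by rw [hΨp]; exact sig_io hK f a)
      (fun c => by
        rw [hΨ, hj0, al_odd]
        exact lang4 j0 c)
      (fun w hw a => io_norm hK f (by rw [← hΨp]; exact hw) a)
      (k := P) (by rw [← hP, ← pow_mul, mul_comm e p, pow_mul, hx, one_pow])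
    refine ⟨e, i * e, δ, ψ ^ e, ?_, ?_, ?_⟩
    · rw [hP]
      exact hδ
    · have h1 : (fr F (i * e) : F →+* F) = (fr F i : F →+* F) ^ e := by
        ext a
        rw [hfr]
        exact fr_apply (i * e) a
      rw [h1]
      exact H.pow e
    · intro h
      have h1 : p * n0 ∣ n0 * (c * e) := by
        rw [← hn0, ← mul_assoc, ← hc]
        exact h
      rw [mul_comm p n0] at h1
      have hn0pos : 0 < n0 := by omega
      have h2 := Nat.dvd_of_mul_dvd_mul_left hn0pos h1
      have h3 : 2 * c * e % p = 0 := by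
        rw [mul_assoc]
        exact Nat.mod_eq_zero_of_dvd (h2.mul_left 2)
      omega

end Cfsg.Agent.H743.TwF4OutConj
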