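/-
helper743: the row of S4094 + S3842 at the prime 2 for the Tits group: `NXC T`.
-/
import Mathlib
import Cfsg.Agent.H516.TwoFrame
import Cfsg.Agent.TitsK.Inst
import Cfsg.Agent.TitsK.Model
import Cfsg.Agent.TitsK.SheetT
import Cfsg.Agent.FourTwo.Perf

set_option autoImplicit false

namespace Cfsg.Agent.H743.TwoTits

open Cfsg Subgroup Cfsg.Agent.H516.Two Cfsg.Agent.TitsK

theorem nxc_tdata {G : Type*} [Group G] [Finite G] (D : TData G) : NXC ↥D.T := by
  have h2 : Fact (Nat.Prime 2) := ⟨Nat.prime_two⟩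
  -- the central involution
  set Z : ↥D.T := ⟨D.z, D.V_le_T D.z_mem_V⟩ with hZ
  have hZ1 : Z ≠ 1 := fun h => D.z_ne (congrArg Subtype.val h)
  have hmS : ∀ t : ↥D.T, t ∈ D.syl ↔ (t : G) ∈ D.S := fun t => D.mem_syl
  have hZS : Z ∈ D.syl := (hmS Z).2 D.z_mem_S
  have hc : ∀ t ∈ (D.syl : Subgroup ↥D.T), t * Z = Z * t := by
    intro t ht
    apply Subtype.ext
    have h1 := D.z_central _ ((hmS t).1 ht).1
    rw [mul_inv_eq_iff_eq_mul] at h1
    exact h1
  have hZc : ∀ y ∈ (D.syl : Subgroup ↥D.T), (∀ t ∈ (D.syl : Subgroup ↥D.T), t * y = y * t) → y = 1 ∨ y = Z := by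
    intro y hy h
    rcases D.cent_S (y : G) ((hmS y).1 hy).1 (fun c hcS => by
      have h1 := h ⟨c, hcS.2⟩ ((hmS _).2 hcS)
      exact (congrArg Subtype.val h1).symm) with h1 | h1
    · exact Or.inl (Subtype.ext h1)
    · exact Or.inr (Subtype.ext h1)
  -- the four-group
  set W : Subgroup ↥D.T := D.V.subgroupOf D.T with hW
  have hZW : Z ∈ W := D.z_mem_V
  have hVc : ∀ v ∈ D.V, v * D.z = D.z * v := by
    intro v hv
    have h1 := D.z_central _ (D.V_le_U hv)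
    rw [mul_inv_eq_iff_eq_mul] at h1
    exact h1
  have hfix : ∀ α : MulAut ↥D.T, (D.syl : Subgroup ↥D.T).map α.toMonoidHom = D.syl → α Z = Z := fun α hα =>
    fix_of_center hZ1 hZS hc hZc hα
  have iZ : Inv (D.syl : Subgroup ↥D.T) (zpowers Z) := inv_zpowers hfix
  have iW : Inv (D.syl : Subgroup ↥D.T) W := by
    refine inv_of_pred (fun y => ∀ t ∈ (D.syl : Subgroup ↥D.T), y * t * (y⁻¹ * t⁻¹) = 1 ∨ y * t * (y⁻¹ * t⁻¹) = Z) ?_ ?_
    · intro y
      constructor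
      · intro hy
        have hy' : (y : G) ∈ D.V := hy
        refine ⟨(hmS y).2 (D.V_le_S hy'), fun t ht => ?_⟩
        rcases D.V_comm _ hy' _ ((hmS t).1 ht).1 with h1 | h1
        · exact Or.inl (Subtype.ext h1)
        · exact Or.inr (Subtype.ext h1)
      · rintro ⟨hy, h⟩
        refine D.zee_two _ ((hmS y).1 hy) fun c hcS => ?_
        rcases h ⟨c, hcS.2⟩ ((hmS _).2 hcS) with h1 | h1
        · exact Or.inl (congrArg Subtype.val h1)
        · exact Or.inr (congrArg Subtype.val h1)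
    · intro α hα y hy h t ht
      have h1 : α⁻¹ t ∈ (D.syl : Subgroup ↥D.T) := (mem_of_map (symm_map hα)).2 ht
      have h3 : α (α⁻¹ t) = t := MulAut.apply_inv_self _ _ _
      have h4 : α (y * α⁻¹ t * (y⁻¹ * (α⁻¹ t)⁻¹)) = α y * t * ((α y)⁻¹ * t⁻¹) := by
        rw [map_mul, map_mul, map_mul, map_inv, map_inv, h3]
      rcases h _ h1 with h5 | h5
      · left
        rw [← h4, h5, map_one]
      · right
        rw [← h4, h5, hfix α hα]
  obtain ⟨t0, ht0, hne0⟩ := D.z_not_central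
  have hnt : ∀ K : Subgroup ↥D.T, (∀ k ∈ K, k * Z = Z * k) → K ≠ ⊤ := by
    rintro K hK rfl
    apply hne0
    have h1 := hK ⟨t0, ht0⟩ (mem_top _)
    rw [mul_inv_eq_iff_eq_mul]
    exact congrArg Subtype.val h1
  refine nxc_of_two D.syl (H₁ := zpowers Z) (H₂ := W) (fun h => hZ1 (zpowers_eq_bot.1 h)) ?_ ?_ ?_ iZ iW ?_
  · apply hnt
    rintro _ ⟨i, rfl⟩
    exact ((Commute.refl Z).zpow_left i).eq
  · intro h
    rw [h, mem_bot] at hZW
    exact hZ1 hZW
  · apply hnt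
    intro k hk
    exact Subtype.ext (hVc _ hk)
  · -- generation
    set Y : Subgroup ↥D.T := normalizer ((zpowers Z : Subgroup ↥D.T) : Set ↥D.T) ⊔ normalizer (W : Set ↥D.T) with hY
    have hcY : ∀ (g : G) (hg : g ∈ D.T), g * D.z * g⁻¹ = D.z → (⟨g, hg⟩ : ↥D.T) ∈ Y := by
      intro g hg h
      apply (le_sup_left : _ ≤ Y)
      apply le_normalizer_zpowers
      apply Subtype.ext
      rw [mul_inv_eq_iff_eq_mul] at h
      exact h
    have hKT := D.gen (Y.map D.T.subtype) ⟨⟨D.ya, D.ya_mem⟩, hcY _ _ (D.z_central _ (by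
        rw [← D.w0_yam]; exact D.yam_opp)), rfl⟩ ?_ ⟨⟨D.zb, D.zb_mem⟩, hcY _ _ (D.z_central _ (by
        rw [← D.w0_zbm]; exact D.zbm_opp)), rfl⟩ ⟨⟨D.zbm, D.zbm_mem⟩, hcY _ _ D.zbm_z, rfl⟩
    · rw [eq_top_iff]
      intro t _
      obtain ⟨t', ht', he⟩ := hKT t.2
      have : t' = t := Subtype.ext he
      rwa [← this]
    · refine ⟨⟨D.yam, D.yam_mem⟩, (le_sup_right : _ ≤ Y) ?_, rfl⟩
      apply Cfsg.Agent.UniqLoc.Second.mem_normalizer_of_conj
      intro u hu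
      exact D.yam_V _ hu

theorem exists_tits_TT {K : Type*} [Group K] (h : Cfsg.Lie.IsoTits K) : Nonempty (K ≃* ↥Cfsg.Agent.TitsK.TT) := by
  obtain ⟨e⟩ := h
  obtain ⟨e'⟩ := Cfsg.Agent.TitsK.exists_equiv
  exact ⟨e.trans e'⟩

theorem nxc_TT : NXC ↥Cfsg.Agent.TitsK.TT := by
  have hfin : Finite Cfsg.Agent.FourTwo.Base.LL := Cfsg.Agent.FourTwo.Perf.instFiniteLL
  exact nxc_tdata Cfsg.Agent.TitsK.tdata

theorem nxc_aux {S T : Type*} [Group S] [Finite S] [Group T] (e : S ≃* T) (h : NXC T) : NXC S := by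
  have : Finite T := Finite.of_equiv S e.toEquiv
  exact NXC.congr e.symm h

/-- **The Tits group.** -/
theorem nxc {S : Type*} [Group S] [Finite S] (h : Cfsg.Lie.IsoTits S) : Cfsg.Agent.H516.Two.NXC S := by
  obtain ⟨e⟩ := exists_tits_TT h
  have h1 := nxc_aux (T := ↥Cfsg.Agent.TitsK.TT) e
  exact h1 nxc_TT

end Cfsg.Agent.H743.TwoTits
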