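import Mathlib
import Cfsg.Agent.H530.Cop

/-!
# Class sizes of alternating groups are not coprime (for helper530, S4158)
-/

set_option autoImplicit false

namespace Cfsg.Agent.H743.NoCopAlt

open Equiv.Perm Cfsg.Agent.H530.Cop

section
variable {α : Type*} [Fintype α] [DecidableEq α]

/-- number of arrows of `y` inside `T` -/
def arr (y : Equiv.Perm α) (T : Finset α) : ℤ := ∑ i ∈ T, ∑ j ∈ T, if y i = j then 1 else 0

theorem arr_map (y c : Equiv.Perm α) (hc : c * y = y * c) (T : Finset α) :
    arr y (T.map c.toEmbedding) = arr y T := by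
  unfold arr
  rw [Finset.sum_map]
  refine Finset.sum_congr rfl fun i _ => ?_
  rw [Finset.sum_map]
  refine Finset.sum_congr rfl fun j _ => ?_
  have h1 : y (c i) = c (y i) := by
    have := congrArg (fun g : Equiv.Perm α => g i) hc
    exact this.symm
  simp only [Equiv.coe_toEmbedding, h1, EmbeddingLike.apply_eq_iff_eq]

theorem arr_insert (y : Equiv.Perm α) {T : Finset α} {i : α} (hi : i ∉ T) :
    arr y (insert i T) = arr y T + (if y i = i then 1 else 0) + (∑ j ∈ T, if y i = j then 1 else 0) +
      ∑ j ∈ T, if y j = i then 1 else 0 := by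
  unfold arr
  rw [Finset.sum_insert hi, Finset.sum_insert hi, Finset.sum_congr rfl fun j _ => Finset.sum_insert hi,
    Finset.sum_add_distrib]
  ring

/-- the number of arrows is not constant -/
theorem exists_ne {y : Equiv.Perm α} (hy : y ≠ 1) (h5 : 5 ≤ Fintype.card α) {m : ℕ} (hm : 2 ≤ m)
    (hm2 : m + 2 ≤ Fintype.card α) (h : ∀ T T' : Finset α, T.card = m → T'.card = m → arr y T = arr y T') :
    False := by
  obtain ⟨a, ha⟩ : ∃ a, y a ≠ a := by
    by_contra hcon
    push Not at hcon
    exact hy (Equiv.ext hcon)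
  -- a point outside
  have out : ∀ S : Finset α, S.card < Fintype.card α → ∃ v, v ∉ S := by
    intro S hS
    by_contra hcon
    push Not at hcon
    rw [Finset.eq_univ_iff_forall.mpr hcon, Finset.card_univ] at hS
    exact lt_irrefl _ hS
  obtain ⟨v, hv⟩ := out {a, y a, y (y a)} ((Finset.card_le_three).trans_lt (by omega))
  simp only [Finset.mem_insert, Finset.mem_singleton, not_or] at hv
  obtain ⟨hva, hvb, hvc⟩ := hv
  obtain ⟨s, hs⟩ := out {a, y a, v, y.symm a} ((Finset.card_le_four).trans_lt (by omega))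
  simp only [Finset.mem_insert, Finset.mem_singleton, not_or] at hs
  obtain ⟨hsa, hsb, hsv, hsy⟩ := hs
  have hys : y s ≠ a := fun h => hsy (by rw [← h, Equiv.symm_apply_apply])
  have hvb' : y v ≠ y a := fun h => hva (y.injective h)
  -- the rest
  obtain ⟨R, hR, hRc⟩ : ∃ R ⊆ ({a, y a, v, s} : Finset α)ᶜ, R.card = m - 2 := by
    apply Finset.exists_subset_card_eq
    rw [Finset.card_compl]
    have := Finset.card_le_four (a := a) (b := y a) (c := v) (d := s)
    omega
  have hR' : ∀ r ∈ R, r ≠ a ∧ r ≠ y a ∧ r ≠ v ∧ r ≠ s := by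
    intro r hr
    have := hR hr
    simp only [Finset.mem_compl, Finset.mem_insert, Finset.mem_singleton, not_or] at this
    exact this
  have hRa : a ∉ R := fun h => (hR' a h).1 rfl
  have hRb : y a ∉ R := fun h => (hR' _ h).2.1 rfl
  have hRv : v ∉ R := fun h => (hR' _ h).2.2.1 rfl
  have hRs : s ∉ R := fun h => (hR' _ h).2.2.2 rfl
  have cards : ∀ i j : α, i ≠ j → i ∉ R → j ∉ R → (insert i (insert j R)).card = m := by
    intro i j hij hi hj
    rw [Finset.card_insert_of_notMem (by simp [hij, hi]), Finset.card_insert_of_notMem hj]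
    omega
  have expand : ∀ i j : α, i ≠ j → i ∉ R → j ∉ R → arr y (insert i (insert j R)) =
      arr y R + ((if y i = i then 1 else 0) + (∑ k ∈ R, if y i = k then 1 else 0) + ∑ k ∈ R, if y k = i then 1 else 0) +
      ((if y j = j then 1 else 0) + (∑ k ∈ R, if y j = k then 1 else 0) + ∑ k ∈ R, if y k = j then 1 else 0) +
      ((if y i = j then 1 else 0) + (if y j = i then 1 else 0)) := by
    intro i j hij hi hj
    rw [arr_insert y (by simp [hij, hi]), arr_insert y hj, Finset.sum_insert hj, Finset.sum_insert hj]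
    ring
  have e1 := h _ _ (cards a (y a) (fun h => ha h.symm) hRa hRb) (cards v (y a) hvb hRv hRb)
  have e2 := h _ _ (cards a s (fun h => hsa h.symm) hRa hRs) (cards v s (fun h => hsv h.symm) hRv hRs)
  rw [expand a (y a) (fun h => ha h.symm) hRa hRb, expand v (y a) hvb hRv hRb] at e1
  rw [expand a s (fun h => hsa h.symm) hRa hRs, expand v s (fun h => hsv h.symm) hRv hRs] at e2
  simp only [if_neg hvb', if_neg hys, if_neg (fun h : y a = s => hsb h.symm), if_neg (fun h : y (y a) = v => hvc h.symm),
    if_true] at e1 e2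
  have p1 : (0 : ℤ) ≤ if y (y a) = a then 1 else 0 := by split_ifs <;> norm_num
  have p2 : (0 : ℤ) ≤ if y v = s then 1 else 0 := by split_ifs <;> norm_num
  have p3 : (0 : ℤ) ≤ if y s = v then 1 else 0 := by split_ifs <;> norm_num
  linarith

/-- transitivity on subsets -/
theorem exists_map {m : ℕ} (hm2 : m + 2 ≤ Fintype.card α) {T₀ T : Finset α} (h0 : T₀.card = m) (h : T.card = m) :
    ∃ g : alternatingGroup α, T₀.map (g : Equiv.Perm α).toEmbedding = T := by
  have e : {x // x ∈ T₀} ≃ {x // x ∈ T} := Finset.equivOfCardEq (by rw [h0, h])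
  set g : Equiv.Perm α := e.extendSubtype with hg
  have h1 : T₀.map g.toEmbedding = T := by
    apply Finset.eq_of_subset_of_card_le
    · intro x hx
      obtain ⟨y, hy, rfl⟩ := Finset.mem_map.mp hx
      exact e.extendSubtype_mem y hy
    · rw [Finset.card_map, h0, h]
  rcases Int.units_eq_one_or (Equiv.Perm.sign g) with hs | hs
  · exact ⟨⟨g, Equiv.Perm.mem_alternatingGroup.mpr hs⟩, h1⟩
  · obtain ⟨u, hu, v, hv, huv⟩ := Finset.one_lt_card.mp (show 1 < (Tᶜ : Finset α).card by
      rw [Finset.card_compl]; omega)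
    rw [Finset.mem_compl] at hu hv
    refine ⟨⟨Equiv.swap u v * g, Equiv.Perm.mem_alternatingGroup.mpr ?_⟩, ?_⟩
    · rw [Equiv.Perm.sign_mul, Equiv.Perm.sign_swap huv, hs]; rfl
    · apply Finset.eq_of_subset_of_card_le
      · intro x hx
        obtain ⟨y, hy, rfl⟩ := Finset.mem_map.mp hx
        have h2 : g y ∈ T := e.extendSubtype_mem y hy
        have h3 : (Equiv.swap u v * g) y = g y := by
          rw [Equiv.Perm.mul_apply, Equiv.swap_apply_of_ne_of_ne]
          · rintro rfl; exact hu h2
          · rintro rfl; exact hv h2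
        change (Equiv.swap u v * g) y ∈ T
        rw [h3]; exact h2
      · rw [Finset.card_map, h0, h]

/-- a permutation commuting with a cycle is a power of it on its support -/
theorem exists_pow {x z : Equiv.Perm α} (hz : z.IsCycle) (hxz : x * z = z * x) :
    ∃ i : ℕ, ∀ a ∈ z.support, x a = (z ^ i) a := by
  obtain ⟨a, ha, ha'⟩ := hz
  have hc : ∀ b, x (z b) = z (x b) := fun b => congrArg (fun g : Equiv.Perm α => g b) hxz
  have hxa : z (x a) ≠ x a := by
    rw [← hc]
    exact fun h => ha (x.injective h)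
  obtain ⟨i, hi⟩ := IsCycle.exists_pow_eq ⟨a, ha, ha'⟩ ha hxa
  refine ⟨i, fun b hb => ?_⟩
  rw [mem_support] at hb
  obtain ⟨j, rfl⟩ := IsCycle.exists_pow_eq ⟨a, ha, ha'⟩ ha hb
  have h1 : ∀ j : ℕ, x ((z ^ j) a) = (z ^ j) (x a) := by
    intro j
    have : Commute x (z ^ j) := Commute.pow_right hxz j
    exact congrArg (fun g : Equiv.Perm α => g a) this
  rw [h1, ← hi, ← Equiv.Perm.mul_apply, ← Equiv.Perm.mul_apply, ← pow_add, ← pow_add, add_comm]

/-- a permutation of prime order commuting with a long cycle -/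
theorem card_support {p : ℕ} (hp : p.Prime) (hp2 : Fintype.card α < 2 * p) (hpn : p + 2 ≤ Fintype.card α)
    {x z : Equiv.Perm α} (hz : orderOf z = p) (hx : (orderOf x).Prime) (hxz : x * z = z * x) :
    2 ≤ x.support.card ∧ x.support.card + 2 ≤ Fintype.card α := by
  have hzc : z.IsCycle := isCycle_of_prime_order' (hz ▸ hp) (by rw [hz]; exact hp2)
  have hx1 : x ≠ 1 := by
    rintro rfl
    rw [orderOf_one] at hx
    exact Nat.not_prime_one hx
  refine ⟨two_le_card_support_of_ne_one hx1, ?_⟩
  obtain ⟨i, hi⟩ := exists_pow hzc hxz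
  have hzs : z.support.card = p := by rw [← hzc.orderOf, hz]
  by_cases h : ∀ a ∈ z.support, x a = a
  · have h1 : x.support ⊆ (z.support)ᶜ := by
      intro a ha
      rw [Finset.mem_compl]
      exact fun h2 => (mem_support.mp ha) (h a h2)
    have h2 := Finset.card_le_card h1
    rw [Finset.card_compl, hzs] at h2
    have := hp.two_le
    omega
  · push Not at h
    obtain ⟨a, ha, hxa⟩ := h
    have h1 : orderOf x = p := by
      by_contra hne
      have h2 : ∀ k : ℕ, (x ^ k) a = (z ^ (i * k)) a := by
        intro k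
        induction k with
        | zero => simp
        | succ k ih =>
          rw [pow_succ', Equiv.Perm.mul_apply, ih, hi, ← Equiv.Perm.mul_apply, ← pow_add]
          · congr 2; ring
          · rw [mem_support] at ha ⊢
            intro h3
            apply ha
            have h4 : z * z ^ (i * k) = z ^ (i * k) * z := (Commute.self_pow z _).eq
            have h5 : (z * z ^ (i * k)) a = (z ^ (i * k) * z) a := by rw [h4]
            rw [Equiv.Perm.mul_apply, h3, Equiv.Perm.mul_apply] at h5
            exact ((z ^ (i * k)).injective h5).symm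
      have h3 := h2 (orderOf x)
      rw [pow_orderOf_eq_one, Equiv.Perm.one_apply] at h3
      have h4 : z ^ (i * orderOf x) = 1 := hzc.pow_eq_one_iff.mpr ⟨a, mem_support.mp ha, h3.symm⟩
      have h5 : p ∣ i * orderOf x := hz ▸ orderOf_dvd_of_pow_eq_one h4
      rcases (hp.dvd_mul).mp h5 with h6 | h6
      · apply hxa
        rw [hi a ha]
        obtain ⟨k, rfl⟩ := h6
        rw [pow_mul, ← hz, pow_orderOf_eq_one, one_pow, Equiv.Perm.one_apply]
      · exact hne ((Nat.prime_dvd_prime_iff_eq hp hx).mp h6).symm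
    have hxc : x.IsCycle := isCycle_of_prime_order' hx (by rw [h1]; exact hp2)
    rw [← hxc.orderOf, h1]
    exact hpn

end

/-- **Task 210.** -/
theorem noCop_alt (n : ℕ) (hn : 5 ≤ n) : NoCop (alternatingGroup (Fin n)) := by
  have hcard : Fintype.card (Fin n) = n := Fintype.card_fin n
  have : Nontrivial (Fin n) := Fin.nontrivial_iff_two_le.mpr (by omega)
  have hs : IsSimpleGroup (alternatingGroup (Fin n)) :=
    alternatingGroup.isSimpleGroup (by rw [Nat.card_fin]; exact hn)
  have hna : ¬ IsMulCommutative (alternatingGroup (Fin n)) := by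
    intro hc
    have h1 : Subgroup.center (alternatingGroup (Fin n)) = ⊤ :=
      eq_top_iff.mpr fun a _ => Subgroup.mem_center_iff.mpr fun b => hc.1.1 b a
    rw [alternatingGroup.center_eq_bot (by rw [Nat.card_fin]; omega)] at h1
    exact bot_ne_top h1
  obtain ⟨p, hp, hp1, hp2⟩ := Nat.exists_prime_lt_and_le_two_mul (n / 2) (by omega)
  have hpo : p % 2 = 1 := by
    rcases hp.eq_two_or_odd with h | h
    · omega
    · exact h
  have : Fact p.Prime := ⟨hp⟩
  have hpG : p ∣ Nat.card (alternatingGroup (Fin n)) := by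
    have h1 : p ∣ 2 * Nat.card (alternatingGroup (Fin n)) := by
      rw [two_mul_nat_card_alternatingGroup, Nat.card_perm, Nat.card_fin]
      exact (hp.dvd_factorial).mpr (by omega)
    rcases (hp.dvd_mul).mp h1 with h2 | h2
    · have := (Nat.prime_dvd_prime_iff_eq hp Nat.prime_two).mp h2
      omega
    · exact h2
  obtain ⟨z, hz⟩ := exists_prime_orderOf_dvd_card' p hpG
  have hz' : orderOf (z : Equiv.Perm (Fin n)) = p := by rw [Subgroup.orderOf_coe, hz]
  by_cases hpn : p + 2 ≤ n
  · refine noCop_of_char hna hp (Subgroup.zpowers z) (IsPGroup.of_card (n := 1) (by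
      rw [pow_one, Nat.card_zpowers, hz])) ?_
    intro x y hx hy hxy hcop hpx hU
    have hxz : (x : Equiv.Perm (Fin n)) * z = z * x :=
      congrArg Subtype.val (hU z (Subgroup.mem_zpowers z)).symm
    have hy1 : (y : Equiv.Perm (Fin n)) ≠ 1 := by
      intro h
      rw [← Subgroup.orderOf_coe, h, orderOf_one] at hy
      exact Nat.not_prime_one hy
    obtain ⟨h2, h3⟩ := card_support hp (by rw [hcard]; omega) (by rw [hcard]; exact hpn) hz'
      (x := (x : Equiv.Perm (Fin n))) (by rwa [Subgroup.orderOf_coe]) hxz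
    refine exists_ne hy1 (by rw [hcard]; exact hn) h2 h3 ?_
    -- all subsets of this size are conjugate under `C(y)`
    have key : ∀ T : Finset (Fin n), T.card = (x : Equiv.Perm (Fin n)).support.card →
        arr (y : Equiv.Perm (Fin n)) T = arr (y : Equiv.Perm (Fin n)) (x : Equiv.Perm (Fin n)).support := by
      intro T hT
      obtain ⟨g, hg⟩ := exists_map h3 rfl hT
      obtain ⟨c, hc1, hc2⟩ := exists_conj hcop g
      have h4 : (g : Equiv.Perm (Fin n)) * x * (g : Equiv.Perm (Fin n))⁻¹ = c * x * (c : Equiv.Perm (Fin n))⁻¹ :=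
        congrArg Subtype.val hc2
      have h5 := congrArg Equiv.Perm.support h4
      rw [support_conj, support_conj] at h5
      rw [← hg, h5]
      exact arr_map _ _ (congrArg Subtype.val hc1) _
    intro T T' hT hT'
    rw [key T hT, key T' hT']
  · -- `n = p` or `n = p + 1`
    refine noCop_of_self hna (z := z) (by rw [hz]; exact hp) ?_
    have hzc : (z : Equiv.Perm (Fin n)).IsCycle := isCycle_of_prime_order' (hz'.symm ▸ hp) (by
      rw [hz', hcard]; omega)
    have hzs : (z : Equiv.Perm (Fin n)).support.card = p := by rw [← hzc.orderOf, hz']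
    have h1 : Subgroup.centralizer ({z} : Set (alternatingGroup (Fin n))) = Subgroup.zpowers z := by
      apply le_antisymm
      · intro w hw
        have hwz : (w : Equiv.Perm (Fin n)) * z = z * w := congrArg Subtype.val (mem_cent.mp hw)
        obtain ⟨i, hi⟩ := exists_pow hzc hwz
        refine ⟨i, ?_⟩
        change z ^ (i : ℤ) = w
        rw [zpow_natCast]
        apply Subtype.ext
        apply Equiv.ext
        intro a
        change ((z : Equiv.Perm (Fin n)) ^ i) a = (w : Equiv.Perm (Fin n)) a
        by_cases ha : a ∈ (z : Equiv.Perm (Fin n)).support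
        · exact (hi a ha).symm
        · have ha' : (z : Equiv.Perm (Fin n)) a = a := notMem_support.mp ha
          have h2 : (z : Equiv.Perm (Fin n)) ((w : Equiv.Perm (Fin n)) a) = (w : Equiv.Perm (Fin n)) a := by
            have := congrArg (fun g : Equiv.Perm (Fin n) => g a) hwz
            simp only [Equiv.Perm.mul_apply, ha'] at this
            exact this.symm
          have h3 : (w : Equiv.Perm (Fin n)) a ∉ (z : Equiv.Perm (Fin n)).support := notMem_support.mpr h2
          have h4 : ((z : Equiv.Perm (Fin n)).support)ᶜ.card ≤ 1 := by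
            rw [Finset.card_compl, hzs, hcard]; omega
          rw [Equiv.Perm.pow_apply_eq_self_of_apply_eq_self ha']
          exact Finset.card_le_one.mp h4 _ (Finset.mem_compl.mpr ha) _ (Finset.mem_compl.mpr h3)
      · rw [Subgroup.zpowers_le, mem_cent]
    rw [h1, Nat.card_zpowers]

end Cfsg.Agent.H743.NoCopAlt
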