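import Mathlib
import Cfsg.Agent.H530.Cop
import Cfsg.Agent.H260.Psl
import Cfsg.Agent.TwoFusion.SLTwoFacts
import Cfsg.Agent.ClassicalGeometry.PSL2Klein
import Cfsg.Agent.ClassicalGeometry.PSL2Solvable

/-!
# Class sizes of `PSL(2,q)` are not coprime (for helper530, S4158)
-/

set_option autoImplicit false

namespace Cfsg.Agent.H743.NoCopPsl

open Matrix Cfsg.Agent.ClassicalGeometry Cfsg.Agent.H530.Cop Cfsg.Agent.H260.Psl
open Cfsg.Agent.LieClassical.SLTwoUnipotent

variable {F : Type*} [Field F] [Fintype F]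

/-- The centralizer of a root element. -/
theorem cent_u {b : F} (hb : b ≠ 0) {x : ProjectiveSpecialLinearGroup (Fin 2) F}
    (h : x * pr F (u b) = pr F (u b) * x) : ∃ a : F, pr F (u a) = x := by
  obtain ⟨g, rfl⟩ := pr_surj x
  have h1 : PSL2Klein.mk (g * u b) = PSL2Klein.mk (u b * g) := h
  have hdet : (g : Matrix (Fin 2) (Fin 2) F) 0 0 * (g : Matrix (Fin 2) (Fin 2) F) 1 1 -
      (g : Matrix (Fin 2) (Fin 2) F) 0 1 * (g : Matrix (Fin 2) (Fin 2) F) 1 0 = 1 := by
    rw [← Matrix.det_fin_two]; exact g.2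
  -- it is enough to show that `c = 0`, `a = d`
  have key : (g : Matrix (Fin 2) (Fin 2) F) 1 0 = 0 →
      (g : Matrix (Fin 2) (Fin 2) F) 0 0 = (g : Matrix (Fin 2) (Fin 2) F) 1 1 → ∃ a : F, pr F (u a) = pr F g := by
    intro hc had
    rw [hc, mul_zero, sub_zero, had] at hdet
    have h2 : ((g : Matrix (Fin 2) (Fin 2) F) 1 1 - 1) * ((g : Matrix (Fin 2) (Fin 2) F) 1 1 + 1) = 0 := by
      linear_combination hdet
    rcases mul_eq_zero.mp h2 with h3 | h3
    · refine ⟨(g : Matrix (Fin 2) (Fin 2) F) 0 1, ?_⟩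
      have : u ((g : Matrix (Fin 2) (Fin 2) F) 0 1) = g := by
        apply ext_coe
        rw [coe_u]
        ext i j
        fin_cases i <;> fin_cases j <;> simp [hc, had, sub_eq_zero.mp h3]
      rw [this]
    · refine ⟨-(g : Matrix (Fin 2) (Fin 2) F) 0 1, ?_⟩
      have : u (-(g : Matrix (Fin 2) (Fin 2) F) 0 1) = -g := by
        apply ext_coe
        rw [coe_u]
        ext i j
        fin_cases i <;> fin_cases j <;> simp [hc, had, eq_neg_of_add_eq_zero_left h3]
      rw [this]
      exact PSL2Klein.mk_neg g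
  rcases PSL2Klein.mk_eq_mk.mp h1 with h2 | h2
  · have h3 := congrArg (fun A : SpecialLinearGroup (Fin 2) F => (A : Matrix (Fin 2) (Fin 2) F)) h2
    simp only [Cfsg.Agent.LieClassical.SLTwoUnipotent.coe_mul, coe_u] at h3
    have e0 := congrFun (congrFun h3 0) 0
    have e1 := congrFun (congrFun h3 0) 1
    simp [Matrix.mul_apply, Fin.sum_univ_two] at e0 e1
    refine key ?_ ?_
    · rcases e0 with h4 | h4
      · exact absurd h4 hb
      · exact h4
    · apply mul_right_cancel₀ hb
      linear_combination e1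
  · have h3 := congrArg (fun A : SpecialLinearGroup (Fin 2) F => (A : Matrix (Fin 2) (Fin 2) F)) h2
    simp only [Cfsg.Agent.LieClassical.SLTwoUnipotent.coe_mul, coe_u, SpecialLinearGroup.coe_neg] at h3
    have e0 := congrFun (congrFun h3 0) 0
    have e1 := congrFun (congrFun h3 0) 1
    have e2 := congrFun (congrFun h3 1) 0
    have e3 := congrFun (congrFun h3 1) 1
    simp [Matrix.mul_apply, Fin.sum_univ_two, Matrix.vecMul, dotProduct] at e0 e1 e2 e3
    by_cases h2 : (2 : F) = 0
    · have hc : (g : Matrix (Fin 2) (Fin 2) F) 1 0 = 0 := by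
        have h4 : b * (g : Matrix (Fin 2) (Fin 2) F) 1 0 = 0 := by
          linear_combination e0 - (g : Matrix (Fin 2) (Fin 2) F) 0 0 * h2
        exact (mul_eq_zero.mp h4).resolve_left hb
      refine key hc ?_
      apply mul_left_cancel₀ hb
      linear_combination e1 - ((g : Matrix (Fin 2) (Fin 2) F) 0 1 + b * (g : Matrix (Fin 2) (Fin 2) F) 1 1) * h2
    · exfalso
      have hc : (g : Matrix (Fin 2) (Fin 2) F) 1 0 = 0 := by
        have h4 : 2 * (g : Matrix (Fin 2) (Fin 2) F) 1 0 = 0 := by linear_combination e2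
        exact (mul_eq_zero.mp h4).resolve_left h2
      have ha : (g : Matrix (Fin 2) (Fin 2) F) 0 0 = 0 := by
        have h4 : 2 * (g : Matrix (Fin 2) (Fin 2) F) 0 0 = 0 := by linear_combination e0 - b * hc
        exact (mul_eq_zero.mp h4).resolve_left h2
      rw [ha, hc, zero_mul, mul_zero, sub_zero] at hdet
      exact zero_ne_one hdet

/-- **Task 211.** -/
theorem noCop_psl2 (F : Type) [Field F] [Fintype F] (h : 4 ≤ Fintype.card F) :
    NoCop (Matrix.ProjectiveSpecialLinearGroup (Fin 2) F) := by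
  obtain ⟨p, hchar⟩ := CharP.exists F
  have hp : Fact p.Prime := ⟨CharP.char_is_prime F p⟩
  have hs : IsSimpleGroup (Matrix.ProjectiveSpecialLinearGroup (Fin 2) F) :=
    TwoFusion.SLTwoFacts.isSimpleGroup_psl (F := F) (by omega)
  have hna : ¬ IsMulCommutative (Matrix.ProjectiveSpecialLinearGroup (Fin 2) F) := by
    intro hc
    apply PSL2Solvable.not_isSolvable_psl F h
    exact Group.isSolvable_of_comm (fun a b => hc.1.1 a b)
  refine noCop_of_char hna hp.out (P₀ F p : Subgroup _) (P₀ F p).2 ?_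
  intro x y hx hy hxy hcop hpx hU
  have h1 : x * pr F (u (1 : F)) = pr F (u 1) * x := (hU _ ((mem_P₀ p _).mpr ⟨1, rfl⟩)).symm
  obtain ⟨a, rfl⟩ := cent_u one_ne_zero h1
  have ha : a ≠ 0 := by
    rintro rfl
    rw [u_zero, map_one, orderOf_one] at hx
    exact Nat.not_prime_one hx
  -- the centralizer is `P₀`
  have hC : Subgroup.centralizer ({pr F (u a)} : Set (Matrix.ProjectiveSpecialLinearGroup (Fin 2) F)) =
      (P₀ F p : Subgroup _) := by
    apply le_antisymm
    · intro z hz
      rw [Subgroup.mem_centralizer_singleton_iff] at hz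
      exact (mem_P₀ p _).mpr (cent_u ha hz)
    · intro z hz
      rw [Subgroup.mem_centralizer_singleton_iff]
      exact hU z hz
  have hcard := ci_mul_card (pr F (u a))
  obtain ⟨n, hn⟩ := IsPGroup.iff_card.mp (P₀ F p).2
  rw [hC, hn] at hcard
  have hy1 : y ≠ 1 := by
    rintro rfl
    rw [orderOf_one] at hy
    exact Nat.not_prime_one hy
  have h2 : ci y ∣ p ^ n := by
    have h3 := ci_dvd_card y
    rw [← hcard] at h3
    exact hcop.symm.dvd_of_dvd_mul_left h3
  obtain ⟨k, -, hk⟩ := (Nat.dvd_prime_pow hp.out).mp h2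
  exact ne_prime_pow hna hy1 hp.out hk

end Cfsg.Agent.H743.NoCopPsl
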