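import Mathlib
import Cfsg.Agent.H260.Psl
import Cfsg.Agent.Lib.PSL2Torus
import Cfsg.Agent.Lib.PSL2Four
import Cfsg.Agent.Lib.Zsigmondy
import Cfsg.Agent.Lib.FieldAutCard
import Cfsg.Agent.LieExceptional.CITPsl
import Cfsg.Agent.TwoFusion.SLTwoFacts
import Cfsg.Agent.ClassicalGeometry.PSL2KleinConj
import Cfsg.Agent.ClassicalGeometry.PSL2Solvable
import Cfsg.Agent.ClassicalGeometry.AutPSL.Main
import Cfsg.Agent.H948.PSLMax

/-!
# `PSL(2,q)`: some subgroups which are not nilpotent
-/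

set_option autoImplicit false

namespace Cfsg.Agent.H743.PslTwoA

open Matrix Cfsg.Agent.ClassicalGeometry Cfsg.Agent.ClassicalGeometry.KleinCount
open scoped commutatorElement

/-- A criterion for a subgroup not to be nilpotent. -/
theorem not_nilp_of_comm {G : Type*} [Group G] {H : Subgroup G} (S : Set G) (hS : ∀ x ∈ S, x ∈ H)
    {x₀ : G} (h0 : x₀ ∈ S) (h1 : x₀ ≠ 1) (h : ∀ x ∈ S, ∃ y ∈ S, ∃ c ∈ H, ⁅y, c⁆ = x) : ¬ Group.IsNilpotent H := by
  intro hn
  obtain ⟨n, hn⟩ := (Subgroup.isNilpotent_iff_lowerCentralSeries (S := H)).mp hn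
  have key : ∀ n : ℕ, ∀ x ∈ S, x ∈ H.lowerCentralSeries n := by
    intro n
    induction n with
    | zero => exact hS
    | succ n ih =>
      intro x hx
      obtain ⟨y, hy, c, hc, rfl⟩ := h x hx
      exact Subgroup.commutator_mem_commutator (ih y hy) hc
  have h2 := key n x₀ h0
  rw [hn] at h2
  exact h1 (Subgroup.mem_bot.mp h2)

section
variable {F : Type*} [Field F] [Fintype F]

theorem exists_sq_ne_one (h4 : 4 ≤ Fintype.card F) : ∃ t : F, t ≠ 0 ∧ t ^ 2 ≠ 1 := by
  classical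
  by_contra hcon
  push Not at hcon
  have h1 : (Finset.univ : Finset F) ⊆ {0, 1, -1} := by
    intro t _
    by_cases ht : t = 0
    · simp [ht]
    · have h := hcon t ht
      have h' : (t - 1) * (t + 1) = 0 := by linear_combination h
      rcases mul_eq_zero.mp h' with h | h
      · simp [sub_eq_zero.mp h]
      · simp [eq_neg_of_add_eq_zero_left h]
  have h2 := Finset.card_le_card h1
  have h3 : ({0, 1, -1} : Finset F).card ≤ 3 := Finset.card_le_three
  rw [Finset.card_univ] at h2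
  omega

theorem not_nilp_P₀ (h4 : 4 ≤ Fintype.card F) (p : ℕ) [Fact p.Prime] [CharP F p] :
    ¬ Group.IsNilpotent (Subgroup.normalizer ((H260.Psl.P₀ F p : Subgroup (ProjectiveSpecialLinearGroup (Fin 2) F)) :
      Set (ProjectiveSpecialLinearGroup (Fin 2) F))) := by
  obtain ⟨t, ht, ht2⟩ := exists_sq_ne_one h4
  have hne : t ^ 2 - 1 ≠ 0 := sub_ne_zero.mpr ht2
  refine not_nilp_of_comm (Set.range fun x : F => H260.Psl.pr F (LieClassical.SLTwoUnipotent.u x)) ?_
    (x₀ := H260.Psl.pr F (LieClassical.SLTwoUnipotent.u (1 : F))) ⟨1, rfl⟩ ?_ ?_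
  · rintro _ ⟨x, rfl⟩
    exact Subgroup.le_normalizer ((H260.Psl.mem_P₀ p _).mpr ⟨x, rfl⟩)
  · intro h
    have h0 : H260.Psl.pr F (LieClassical.SLTwoUnipotent.u (1 : F)) =
        H260.Psl.pr F (LieClassical.SLTwoUnipotent.u (0 : F)) := by
      rw [h, LieClassical.SLTwoUnipotent.u_zero, map_one]
    exact one_ne_zero (H260.Psl.u_pr_inj h0)
  · rintro _ ⟨x, rfl⟩
    refine ⟨_, ⟨-(x / (t ^ 2 - 1)), rfl⟩, _, H260.Psl.dg_mem_normalizer p t ht, ?_⟩
    rw [commutatorElement_def, ← map_inv, ← map_inv, ← map_mul, ← map_mul, ← map_mul]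
    congr 1
    rw [mul_assoc, mul_assoc, ← mul_assoc (H260.Psl.dg t ht), ← LieClassical.SLTwoUnipotent.u_neg,
      H260.Psl.dg_conj, ← LieClassical.SLTwoUnipotent.u_add]
    congr 1
    field_simp
    ring

end

section
variable {F : Type*} [Field F] [Fintype F] {G : Type*} [Group G] [Finite G]

/-- transport of the normalizer of a Sylow subgroup -/
theorem nilp_normalizer_of {G' : Type*} [Group G'] (e : G ≃* G') {H : Subgroup G} {K : Subgroup G'}
    (hHK : H.map e.toMonoidHom = K) (h : Group.IsNilpotent (Subgroup.normalizer (H : Set G))) :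
    Group.IsNilpotent (Subgroup.normalizer (K : Set G')) := by
  subst hHK
  have h1 := Subgroup.map_equiv_normalizer_eq H e
  rw [← h1]
  exact (Group.isNilpotent_congr ((Subgroup.normalizer (H : Set G)).equivMapOfInjective e.toMonoidHom e.injective)).mp h

theorem not_nilp_normalizer (h4 : 4 ≤ Fintype.card F) {p : ℕ} [Fact p.Prime] [CharP F p]
    (e : G ≃* ProjectiveSpecialLinearGroup (Fin 2) F) (P : Sylow p G) :
    ¬ Group.IsNilpotent (Subgroup.normalizer ((P : Subgroup G) : Set G)) := by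
  intro h
  have h1 := nilp_normalizer_of e (K := (P.mapSurjective (f := e.toMonoidHom) e.surjective :
    Subgroup (ProjectiveSpecialLinearGroup (Fin 2) F))) rfl h
  obtain ⟨g, hg⟩ := MulAction.exists_smul_eq (ProjectiveSpecialLinearGroup (Fin 2) F)
    (P.mapSurjective (f := e.toMonoidHom) e.surjective) (H260.Psl.P₀ F p)
  have h2 := nilp_normalizer_of (MulAut.conj g) (K := (H260.Psl.P₀ F p :
    Subgroup (ProjectiveSpecialLinearGroup (Fin 2) F))) (by rw [← hg]; rfl) h1
  exact not_nilp_P₀ h4 p h2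

theorem card_sylow {p : ℕ} [Fact p.Prime] [CharP F p]
    (e : G ≃* ProjectiveSpecialLinearGroup (Fin 2) F) (P : Sylow p G) : Nat.card P = Fintype.card F := by
  rw [← (H260.Psl.data_psl F p).card (P.mapSurjective (f := e.toMonoidHom) e.surjective)]
  exact (Subgroup.card_map_of_injective (K := (P : Subgroup G)) e.injective).symm

/-- A Klein four-group with an element permuting its involutions. -/
theorem exists_klein (h2 : (2 : F) ≠ 0) (e : G ≃* ProjectiveSpecialLinearGroup (Fin 2) F) :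
    ∃ a b c : G, CommInv a b ∧ c * a * c⁻¹ = b ∧ c * b * c⁻¹ = a * b := by
  obtain ⟨V, hV⟩ := PSL2KleinConj.exists_isKleinFour (F := F) h2
  obtain ⟨A, B, h, -⟩ := PSL2KleinConj.exists_pair_of_isKleinFour hV
  obtain ⟨c, h3, h4⟩ := Lib.PSL2Four.exists_fuse h2 h
  set a := PSL2Klein.mk A
  set b := PSL2Klein.mk B
  refine ⟨e.symm a, e.symm b, e.symm c, ⟨?_, ?_, ?_, ?_, ?_, ?_⟩, ?_, ?_⟩
  · exact fun h' => h.hx (EmbeddingLike.map_eq_one_iff.mp h')
  · exact fun h' => h.hy (EmbeddingLike.map_eq_one_iff.mp h')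
  · exact fun h' => h.hxy (e.symm.injective h')
  · rw [← map_mul, h.xx, map_one]
  · rw [← map_mul, h.yy, map_one]
  · rw [← map_mul, h.comm, map_mul]
  · rw [← map_inv, ← map_mul, ← map_mul, h3]
  · rw [← map_inv, ← map_mul, ← map_mul, ← map_mul, h4]

end

section
variable {G : Type*} [Group G] {a b c : G}

theorem inv_eq_of_sq {x : G} (h : x * x = 1) : x⁻¹ = x := inv_eq_of_mul_eq_one_left h

theorem conj_ab (h : CommInv a b) (h1 : c * a * c⁻¹ = b) (h2 : c * b * c⁻¹ = a * b) : c * (a * b) * c⁻¹ = a := by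
  have : c * (a * b) * c⁻¹ = (c * a * c⁻¹) * (c * b * c⁻¹) := by group
  rw [this, h1, h2, ← mul_assoc, ← h.comm, mul_assoc, h.yy, mul_one]

theorem not_nilp_of_klein (h : CommInv a b) (h1 : c * a * c⁻¹ = b) (h2 : c * b * c⁻¹ = a * b) {H : Subgroup G}
    (ha : a ∈ H) (hb : b ∈ H) (hc : c ∈ H) : ¬ Group.IsNilpotent H := by
  have h3 := conj_ab h h1 h2
  have hab : (a * b) * (a * b) = 1 := by
    rw [mul_assoc, ← mul_assoc b a b, ← h.comm, mul_assoc a b b, h.yy, mul_one, h.xx]
  have key : ∀ y : G, ⁅y, c⁆ = y * (c * y * c⁻¹)⁻¹ := by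
    intro y
    rw [commutatorElement_def]; group
  refine not_nilp_of_comm ({a, b, a * b} : Set G) ?_ (x₀ := a) (by simp) h.hx ?_
  · rintro x (rfl | rfl | rfl)
    · exact ha
    · exact hb
    · exact mul_mem ha hb
  · rintro x (rfl | rfl | rfl)
    · refine ⟨b, by simp, c, hc, ?_⟩
      rw [key, h2, inv_eq_of_sq hab, h.comm, ← mul_assoc, h.yy, one_mul]
    · refine ⟨a * x, by simp, c, hc, ?_⟩
      rw [key, h3, inv_eq_of_sq h.xx, h.comm, mul_assoc, h.xx, mul_one]
    · refine ⟨a, by simp, c, hc, ?_⟩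
      rw [key, h1, inv_eq_of_sq h.yy]

theorem three_dvd_orderOf (h : CommInv a b) (h1 : c * a * c⁻¹ = b) (h2 : c * b * c⁻¹ = a * b) : 3 ∣ orderOf c := by
  have h3 := conj_ab h h1 h2
  by_contra hcon
  have hcop : Nat.Coprime 3 (orderOf c) := (Nat.Prime.coprime_iff_not_dvd Nat.prime_three).mpr hcon
  obtain ⟨m, hm⟩ := exists_pow_eq_self_of_coprime hcop
  have h4 : c ^ 3 ∈ Subgroup.centralizer ({a} : Set G) := by
    rw [Subgroup.mem_centralizer_singleton_iff]
    have : c ^ 3 * a * (c ^ 3)⁻¹ = a := by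
      have : c ^ 3 * a * (c ^ 3)⁻¹ = c * (c * (c * a * c⁻¹) * c⁻¹) * c⁻¹ := by
        rw [pow_succ, pow_two]; group
      rw [this, h1, h2, h3]
    exact mul_inv_eq_iff_eq_mul.mp this
  have h5 : c ∈ Subgroup.centralizer ({a} : Set G) := by
    rw [← hm]; exact pow_mem h4 m
  rw [Subgroup.mem_centralizer_singleton_iff] at h5
  apply h.hxy
  rw [← h1, h5]; group

theorem mem_normalizer_four (h : CommInv a b) (h1 : c * a * c⁻¹ = b) (h2 : c * b * c⁻¹ = a * b) :
    c ∈ Subgroup.normalizer (h.four : Set G) := by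
  have h3 := conj_ab h h1 h2
  have i1 : c⁻¹ * b * c = a := by rw [← h1]; group
  have i2 : c⁻¹ * (a * b) * c = b := by rw [← h2]; group
  have i3 : c⁻¹ * a * c = a * b := by
    have : c⁻¹ * (c * (a * b) * c⁻¹) * c = a * b := by group
    rwa [h3] at this
  rw [Subgroup.mem_normalizer_iff]
  intro x
  rw [CommInv.mem_four, CommInv.mem_four]
  constructor
  · rintro (rfl | rfl | rfl | rfl)
    · left; group
    · right; right; left; exact h1
    · right; right; right; exact h2
    · right; left; exact h3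
  · intro hx
    have e : x = c⁻¹ * (c * x * c⁻¹) * c := by group
    rcases hx with hx | hx | hx | hx
    · left; rw [e, hx]; group
    · right; right; right; rw [e, hx, i3]
    · right; left; rw [e, hx, i1]
    · right; right; left; rw [e, hx, i2]

theorem card_four (h : CommInv a b) : Nat.card h.four = 4 := h.isKleinFour_four.card_four

theorem le_normalizer_four (h : CommInv a b) : a ∈ Subgroup.normalizer (h.four : Set G) ∧
    b ∈ Subgroup.normalizer (h.four : Set G) :=
  ⟨Subgroup.le_normalizer (H := h.four) ((h.mem_four).mpr (by simp)),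
    Subgroup.le_normalizer (H := h.four) ((h.mem_four).mpr (by simp))⟩

theorem twelve_dvd [Finite G] (h : CommInv a b) (h1 : c * a * c⁻¹ = b) (h2 : c * b * c⁻¹ = a * b) :
    12 ∣ Nat.card (Subgroup.normalizer (h.four : Set G)) := by
  have e1 : 4 ∣ Nat.card (Subgroup.normalizer (h.four : Set G)) := by
    rw [← card_four h]
    exact Subgroup.card_dvd_of_le Subgroup.le_normalizer
  have e2 : 3 ∣ Nat.card (Subgroup.normalizer (h.four : Set G)) :=
    (three_dvd_orderOf h h1 h2).trans (Subgroup.orderOf_dvd_natCard _ (mem_normalizer_four h h1 h2))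
  exact (by norm_num : Nat.Coprime 4 3).mul_dvd_of_dvd_of_dvd e1 e2

theorem odd_index_normalizer_four [Finite G] (h : CommInv a b) (h16 : ¬ 16 ∣ Nat.card G) :
    Odd (Subgroup.normalizer (h.four : Set G)).index := by
  have h2 : Fact (Nat.Prime 2) := ⟨Nat.prime_two⟩
  have hV : IsPGroup 2 h.four := IsPGroup.of_card (n := 2) (card_four h)
  obtain ⟨S, hS⟩ := hV.exists_le_sylow
  have h4 : Nat.card (S : Subgroup G) = 4 ∨ Nat.card (S : Subgroup G) = 8 := by
    obtain ⟨n, hn⟩ := IsPGroup.iff_card.mp S.2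
    have h5 : 4 ∣ Nat.card (S : Subgroup G) := by
      rw [← card_four h]; exact Subgroup.card_dvd_of_le hS
    have h6 : ¬ 16 ∣ Nat.card (S : Subgroup G) := fun h => h16 (h.trans (Subgroup.card_subgroup_dvd_card _))
    rw [hn] at h5 h6 ⊢
    have h7 : 2 ≤ n := (Nat.pow_dvd_pow_iff_le_right (by norm_num : 1 < 2)).mp (by simpa using h5)
    have h8 : ¬ 4 ≤ n := fun h => h6 (by
      have h9 : 2 ^ 4 ∣ 2 ^ n := pow_dvd_pow 2 h
      norm_num at h9
      exact h9)
    have : n = 2 ∨ n = 3 := by omega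
    rcases this with rfl | rfl <;> simp
  have hle : (S : Subgroup G) ≤ Subgroup.normalizer (h.four : Set G) := by
    rcases h4 with h4 | h4
    · have := Subgroup.eq_of_le_of_card_ge hS (by rw [h4, card_four h])
      rw [← this]; exact Subgroup.le_normalizer
    · have h5 : (h.four.subgroupOf (S : Subgroup G)).index = 2 := by
        have h6 := Subgroup.card_mul_index (h.four.subgroupOf (S : Subgroup G))
        rw [Nat.card_congr (Subgroup.subgroupOfEquivOfLe hS).toEquiv, card_four h, h4] at h6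
        omega
      have h6 := Subgroup.normal_of_index_eq_two h5
      exact (Subgroup.normal_subgroupOf_iff_le_normalizer hS).mp h6
  have h5 := Subgroup.index_dvd_of_le hle
  rw [← Nat.not_even_iff_odd, even_iff_two_dvd]
  exact fun h => S.not_dvd_index (h.trans h5)

end

section
variable {F : Type*} [Field F] [Fintype F] {G : Type*} [Group G] [Finite G]

theorem card_mul_two (hodd : Odd (Fintype.card F)) (e : G ≃* ProjectiveSpecialLinearGroup (Fin 2) F) :
    Nat.card G * 2 = Fintype.card F * (Fintype.card F ^ 2 - 1) := by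
  rw [Nat.card_congr e.toEquiv]
  exact PSL2Basic.card_PSL2_odd F hodd

/-- The centralizer of an involution. -/
theorem not_nilp_centralizer (h2 : (2 : F) ≠ 0) (e : G ≃* ProjectiveSpecialLinearGroup (Fin 2) F) {t y : G}
    (ht1 : t ≠ 1) (ht : t * t = 1) (hy : y * t = t * y) (hyo : Odd (orderOf y)) (hy1 : y ≠ 1) :
    ¬ Group.IsNilpotent (Subgroup.centralizer ({t} : Set G)) := by
  obtain ⟨T, m, hT, -⟩ := Lib.PSL2Torus.exists_torus h2 e ht1 ht
  have hyT : y ∈ T := by
    by_contra hcon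
    have h1 := (hT.out y hy hcon).2.1
    have h3 : orderOf y ∣ 2 := orderOf_dvd_of_pow_eq_one (by rw [pow_two, h1])
    rcases (Nat.dvd_prime Nat.prime_two).mp h3 with h4 | h4
    · exact hy1 (orderOf_eq_one_iff.mp h4)
    · rw [h4] at hyo
      exact absurd hyo (by decide)
  obtain ⟨x, hxt, hxT⟩ := hT.ex
  have hinv := (hT.out x hxt hxT).2.2
  refine not_nilp_of_comm (Subgroup.zpowers y : Set G) ?_ (x₀ := y) (Subgroup.mem_zpowers y) hy1 ?_
  · intro z hz
    have hzT : z ∈ T := (Subgroup.zpowers_le.mpr hyT) hz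
    exact Subgroup.mem_centralizer_singleton_iff.mpr (hT.comm z hzT)
  · intro z hz
    obtain ⟨k, rfl⟩ := Subgroup.mem_zpowers_iff.mp hz
    obtain ⟨n, hn⟩ := hyo
    refine ⟨(y ^ (n + 1)) ^ k, Subgroup.zpow_mem _ (Subgroup.pow_mem _ (Subgroup.mem_zpowers y) _) _, x,
      Subgroup.mem_centralizer_singleton_iff.mpr hxt, ?_⟩
    have hw : (y ^ (n + 1)) ^ k ∈ T := zpow_mem (pow_mem hyT _) _
    have h3 := hinv _ hw
    have h4 : ⁅(y ^ (n + 1)) ^ k, x⁆ = (y ^ (n + 1)) ^ k * (x * (y ^ (n + 1)) ^ k * x⁻¹)⁻¹ := by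
      rw [commutatorElement_def]; group
    have h5 : y ^ (n + 1) * y ^ (n + 1) = y := by
      rw [← pow_add, show n + 1 + (n + 1) = 2 * n + 1 + 1 by omega, pow_succ, ← hn, pow_orderOf_eq_one, one_mul]
    rw [h4, h3, inv_inv, ← (Commute.refl (y ^ (n + 1))).mul_zpow, h5]

theorem odd_index_centralizer (h2 : (2 : F) ≠ 0) (e : G ≃* ProjectiveSpecialLinearGroup (Fin 2) F) {t : G}
    (ht1 : t ≠ 1) (ht : t * t = 1) : Odd (Subgroup.centralizer ({t} : Set G)).index := by
  obtain ⟨T, m, hT, hm⟩ := Lib.PSL2Torus.exists_torus h2 e ht1 ht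
  have h1 := Subgroup.card_mul_index (Subgroup.centralizer ({t} : Set G))
  rw [hT.card_centralizer] at h1
  have hodd : Odd (Fintype.card F) := (PSL2Basic.two_ne_zero_iff_odd F).mp h2
  have h3 := card_mul_two hodd e
  rw [← h1] at h3
  rw [Nat.card_eq_fintype_card] at hm
  set q := Fintype.card F with hq
  set i := (Subgroup.centralizer ({t} : Set G)).index with hi
  have hq1 : 1 < q := Fintype.one_lt_card
  have h4 : q ^ 2 - 1 = (q + 1) * (q - 1) := by
    have := Nat.sq_sub_sq q 1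
    simpa using this
  rw [h4] at h3
  rcases hm with ⟨hq4, hm⟩ | ⟨hq4, hm⟩
  · rw [hm] at h3
    have h5 : i * 2 = q * (q + 1) := by
      have h6 : (q - 1) * (i * 2) = (q - 1) * (q * (q + 1)) := by
        calc (q - 1) * (i * 2) = (q - 1) * i * 2 := by ring
          _ = _ := by rw [h3]; ring
      exact Nat.eq_of_mul_eq_mul_left (by omega) h6
    obtain ⟨k, hk⟩ : ∃ k, q = 4 * k + 1 := ⟨q / 4, by omega⟩
    rw [hk] at h5
    have h6 : i = (4 * k + 1) * (2 * k + 1) := by nlinarith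
    rw [h6]
    exact Odd.mul ⟨2 * k, by ring⟩ ⟨k, rfl⟩
  · rw [hm] at h3
    have h5 : i * 2 = q * (q - 1) := by
      have h6 : (q + 1) * (i * 2) = (q + 1) * (q * (q - 1)) := by
        calc (q + 1) * (i * 2) = (q + 1) * i * 2 := by ring
          _ = _ := by rw [h3]; ring
      exact Nat.eq_of_mul_eq_mul_left (by omega) h6
    obtain ⟨k, hk⟩ : ∃ k, q = 4 * k + 3 := ⟨q / 4, by omega⟩
    rw [hk] at h5
    have h6 : i = (4 * k + 3) * (2 * k + 1) := by
      have : 4 * k + 3 - 1 = 2 * (2 * k + 1) := by omega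
      rw [this] at h5
      nlinarith
    rw [h6]
    exact Odd.mul ⟨2 * k + 1, by ring⟩ ⟨k, rfl⟩

/-- Fields of order at most `p ^ 2`: the automorphism group has no new odd prime divisors. -/
theorem card_aut_dvd {p f : ℕ} [Fact p.Prime] [CharP F p] (hf : 1 ≤ f) (hf2 : f ≤ 2)
    (hF : Fintype.card F = p ^ f) (h2 : (2 : F) ≠ 0) (e : G ≃* ProjectiveSpecialLinearGroup (Fin 2) F) :
    Nat.card (MulAut G) ∣ 4 * Nat.card G := by
  have h1 : Nat.card (MulAut G) = Nat.card (MulAut (ProjectiveSpecialLinearGroup (Fin 2) F)) :=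
    Nat.card_congr (MulAut.congr e).toEquiv
  have hodd : Odd (Fintype.card F) := (PSL2Basic.two_ne_zero_iff_odd F).mp h2
  rw [h1, AutPSL.Main.card_two p, Lib.FieldAutCard.card_ringAut hf hF, PSL2Basic.card_PGL2, ← card_mul_two hodd e]
  have h3 : f ∣ 2 := by interval_cases f <;> norm_num
  calc Nat.card G * 2 * f ∣ Nat.card G * 2 * 2 := Nat.mul_dvd_mul_left _ h3
    _ = 4 * Nat.card G := by ring


end

end Cfsg.Agent.H743.PslTwoA
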