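import Mathlib
import Cfsg.Agent.H580.RankOne
import Cfsg.Agent.H580.LieFam
import Cfsg.Agent.H743.PslTwoA
import Cfsg.Agent.S0255
import Cfsg.Agent.S0799

/-!
# At most two classes of non-nilpotent maximal invariant subgroups: the groups `PSL(2,q)`
-/

set_option autoImplicit false
open scoped Pointwise

namespace Cfsg.Agent.H743.PslTwoB

open Cfsg Matrix Cfsg.Agent.ClassicalGeometry Cfsg.Agent.ClassicalGeometry.KleinCount
open Cfsg.Agent.H580 Cfsg.Agent.H580.MaxInv Cfsg.Agent.H580.Two Cfsg.Agent.H580.BN Cfsg.Agent.FixBN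
open PslTwoA
open scoped commutatorElement

universe u v

/-! ### arithmetic -/

theorem pow_eq_zero_of {p f : ℕ} (hp : p.Prime) (hf : 1 ≤ f) (hex : ¬ (f = 1 ∧ ∃ k, p + 1 = 2 ^ k)) {N : ℕ}
    (hN : ∀ r, r.Prime → r ≠ 2 → r ∣ p ^ (2 * f) - 1 → r ∣ N) :
    ∀ j ≤ f, (∀ r, r.Prime → r ≠ 2 → r ≠ p → r ∣ N → p ^ j ≡ 1 [MOD r]) → j = 0 := by
  intro j hj h
  by_cases h8 : p = 2 ∧ 2 * f = 6
  · obtain ⟨rfl, h6⟩ := h8
    have hf3 : f = 3 := by omega
    subst hf3
    have e3 := h 3 Nat.prime_three (by norm_num) (by norm_num) (hN 3 Nat.prime_three (by norm_num) (by norm_num))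
    have e7 := h 7 (by norm_num) (by norm_num) (by norm_num) (hN 7 (by norm_num) (by norm_num) (by norm_num))
    interval_cases j
    · rfl
    · exact absurd e3 (by decide)
    · exact absurd e7 (by decide)
    · exact absurd e3 (by decide)
  · obtain ⟨r, hr, hr1, -, hrp⟩ := Lib.Zsigmondy.exists_primitive (a := p) (n := 2 * f) hp.two_le (by omega)
      (fun h => fun hk => hex ⟨by omega, hk⟩) h8
    have hr2 : r ≠ 2 := by
      rintro rfl
      have hpo : Odd p := by
        rw [← Nat.not_even_iff_odd, even_iff_two_dvd]; exact hrp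
      have h1 : 2 ∣ p ^ 1 - 1 := by
        rw [pow_one]
        obtain ⟨k, hk⟩ := hpo
        exact ⟨k, by omega⟩
      have h2 := (hr1 1).mp h1
      have := Nat.le_of_dvd Nat.one_pos h2
      omega
    have h1 := h r hr hr2 (fun h => hrp (h ▸ dvd_rfl)) (hN r hr hr2 ((hr1 _).mpr dvd_rfl))
    have h2 : r ∣ p ^ j - 1 := (Nat.modEq_iff_dvd' (Nat.one_le_pow _ _ hp.pos)).mp h1.symm
    have h3 := (hr1 j).mp h2
    by_contra hj0
    have := Nat.le_of_dvd (Nat.pos_of_ne_zero hj0) h3
    omega

/-! ### the (B,N)-pair -/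

theorem exists_bn {F : Type*} [Field F] [Finite F] {p : ℕ} [hp : Fact p.Prime] [CharP F p] {G : Type*} [Group G]
    [IsSimpleGroup G] (e : G ≃* ProjectiveSpecialLinearGroup (Fin 2) F) :
    ∃ (P : Cfsg.BNPair G) (U : Subgroup G) (s : G), Split P p U ∧ P.S = {s} := by
  obtain ⟨P, U, e', h, -⟩ := ((Omega.ML.Ex.Typ.typ_PSL (F := F) (p := p) 1).of_equiv e.symm).hasSplitT hp.out
    Nat.one_pos
  refine ⟨P, U, e' 0, h, ?_⟩
  ext x
  rw [Set.mem_singleton_iff]
  constructor
  · intro hx
    have h1 : e' (e'.symm ⟨x, hx⟩) = ⟨x, hx⟩ := e'.apply_symm_apply _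
    rw [Subsingleton.elim (e'.symm ⟨x, hx⟩) 0] at h1
    rw [h1]
  · rintro rfl
    exact (e' 0).2

/-- The general criterion. -/
theorem false_of {A : Type v} {G : Type u} [Group A] [Finite A] [Group G] [Finite G] [MulDistribMulAction A G]
    [IsSimpleGroup G]
    (hcop : (Nat.card A).Coprime (Nat.card G)) (hsol : Group.IsSolvable A) (hna : ¬ Group.IsSolvable G)
    (hcl : TwoCl A G) {F : Type*} [Field F] [Fintype F] (h4 : 4 ≤ Fintype.card F)
    (e : G ≃* ProjectiveSpecialLinearGroup (Fin 2) F) {p f : ℕ} [hp : Fact p.Prime] [CharP F p]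
    (hf : 1 ≤ f) (hF : Fintype.card F = p ^ f) (hex : ¬ (f = 1 ∧ ∃ k, p + 1 = 2 ^ k))
    (hX : p ≠ 2 → ∃ X : Subgroup G, X ≠ ⊤ ∧ StableClass A X ∧ ¬ Group.IsNilpotent X ∧ Odd X.index) : False := by
  obtain ⟨P, U, s, h, hS⟩ := exists_bn (p := p) e
  obtain ⟨Q, hQ⟩ := exists_sylow_of_split h
  have hU : Nat.card U = p ^ f := by
    rw [← hF, ← card_sylow (p := p) e Q, ← hQ]
  have hB : ¬ Group.IsNilpotent P.B := by
    rw [← h.normalizer_eq, ← hQ]
    exact not_nilp_normalizer h4 e Q
  refine RankOne.false_rank_one hcop hsol hna hcl h hS hU hB hX (pow_eq_zero_of hp.out hf hex ?_)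
  intro r hr hr2 hrd
  have h1 : Nat.card G * Nat.gcd 2 (Fintype.card F - 1) = Fintype.card F * (Fintype.card F ^ 2 - 1) := by
    rw [Nat.card_congr e.toEquiv]
    exact PSL2Basic.card_PSL2_gcd F
  have h2 : r ∣ Nat.card G * Nat.gcd 2 (Fintype.card F - 1) := by
    rw [h1, hF, ← pow_mul, mul_comm f 2]
    exact Dvd.dvd.mul_left hrd _
  rcases (hr.dvd_mul).mp h2 with h3 | h3
  · exact h3
  · exact absurd ((Nat.prime_dvd_prime_iff_eq hr Nat.prime_two).mp (h3.trans (Nat.gcd_dvd_left _ _))) hr2

/-! ### subgroups of odd index -/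

section
variable {A : Type v} {G : Type u} [Group A] [Finite A] [Group G] [Finite G] [MulDistribMulAction A G]

theorem stableClass_centralizer {t : G} (h : ∀ u : G, u ≠ 1 → u * u = 1 → ∃ g, g * t * g⁻¹ = u)
    (ht1 : t ≠ 1) (ht : t * t = 1) : StableClass A (Subgroup.centralizer ({t} : Set G)) := by
  intro a
  have h1 : a • t ≠ 1 := by
    intro h1
    apply ht1
    have : a • t = a • (1 : G) := by rw [h1, smul_one]
    exact MulAction.injective a this
  obtain ⟨g, hg⟩ := h (a • t) h1 (by rw [← smul_mul', ht, smul_one])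
  refine ⟨g, fun x hx => ?_⟩
  rw [Subgroup.mem_pointwise_smul_iff_inv_smul_mem, ← map_inv, MulAut.smul_def, MulAut.conj_apply,
    Subgroup.mem_centralizer_singleton_iff, inv_inv]
  rw [Subgroup.mem_centralizer_singleton_iff] at hx
  have h2 : (a • x) * (a • t) = (a • t) * (a • x) := by rw [← smul_mul', ← smul_mul', hx]
  rw [← hg] at h2
  calc g⁻¹ * (a • x) * g * t = g⁻¹ * ((a • x) * (g * t * g⁻¹)) * g := by group
    _ = g⁻¹ * ((g * t * g⁻¹) * (a • x)) * g := by rw [h2]
    _ = t * (g⁻¹ * (a • x) * g) := by group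

theorem smul_eq_of_card (hcop : (Nat.card A).Coprime (Nat.card G)) (hodd : Odd (Nat.card A))
    (h : Nat.card (MulAut G) ∣ 4 * Nat.card G) (a : A) (x : G) : a • x = x := by
  have h1 : orderOf (MulDistribMulAction.toMulAut A G a) ∣ Nat.card A :=
    (orderOf_map_dvd _ a).trans (orderOf_dvd_natCard a)
  have h2 : orderOf (MulDistribMulAction.toMulAut A G a) ∣ 4 * Nat.card G :=
    (orderOf_dvd_natCard _).trans h
  have h3 : (Nat.card A).Coprime (4 * Nat.card G) :=
    Nat.Coprime.mul_right (Nat.Coprime.pow_right 2 (Nat.coprime_two_right.mpr hodd)) hcop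
  have h4 := Nat.dvd_gcd h1 h2
  rw [h3, Nat.dvd_one, orderOf_eq_one_iff] at h4
  have h5 := congrArg (fun φ : MulAut G => φ x) h4
  exact h5

theorem normalizer_ne_top [IsSimpleGroup G] {a b : G} (h : CommInv a b) (hna : ¬ Group.IsSolvable G) :
    Subgroup.normalizer (h.four : Set G) ≠ ⊤ := by
  intro h1
  rcases (Subgroup.normalizer_eq_top_iff.mp h1).eq_bot_or_eq_top with h2 | h2
  · have h3 := card_four h
    rw [h2, Subgroup.card_bot] at h3
    omega
  · apply hna
    have h3 := card_four h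
    rw [h2, Subgroup.card_top] at h3
    have : Fact (Nat.Prime 2) := ⟨Nat.prime_two⟩
    have h5 : IsPGroup 2 G := IsPGroup.of_card (n := 2) h3
    have := h5.isNilpotent
    exact inferInstance

theorem centralizer_ne_top [IsSimpleGroup G] {t : G} (ht1 : t ≠ 1) (hna : ¬ Group.IsSolvable G) :
    Subgroup.centralizer ({t} : Set G) ≠ ⊤ := by
  intro h1
  have h2 : t ∈ Subgroup.center G := by
    rw [Subgroup.mem_center_iff]
    intro g
    have : g ∈ Subgroup.centralizer ({t} : Set G) := h1 ▸ Subgroup.mem_top g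
    exact Subgroup.mem_centralizer_singleton_iff.mp this
  rcases (inferInstance : (Subgroup.center G).Normal).eq_bot_or_eq_top with h3 | h3
  · rw [h3, Subgroup.mem_bot] at h2
    exact ht1 h2
  · apply hna
    have : IsMulCommutative G := ⟨⟨fun a b => ((Subgroup.mem_center_iff.mp (h3 ▸ Subgroup.mem_top a)) b).symm⟩⟩
    let _ : CommGroup G := { ‹Group G› with mul_comm := this.1.1 }
    infer_instance

end

/-! ### Fermat and Mersenne primes -/

section
variable {G : Type u} [Group G] [Finite G]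

theorem false_of_M {F : Type} [Field F] [Fintype F] {p : ℕ} [hp : Fact p.Prime] [CharP F p] (hp2 : p ≠ 2)
    (hF : Fintype.card F = p) {m : ℕ} (hm : Odd m) (hm9 : 9 ≤ m) (h15 : m = 15 → Nat.card G = 14880)
    (hmG : m ∣ Nat.card G) (e : G ≃* ProjectiveSpecialLinearGroup (Fin 2) F) {a b c : G} (h : CommInv a b)
    (h1 : c * a * c⁻¹ = b) (h2 : c * b * c⁻¹ = a * b) {M : Subgroup G} (hM : M ≠ ⊤)
    (ha : a ∈ M) (hb : b ∈ M) (hc : c ∈ M) (hidx : ∀ r, r.Prime → r ∣ m → M.index ≡ 1 [MOD r]) : False := by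
  have hcop : Nat.Coprime m M.index := by
    rw [Nat.coprime_iff_gcd_eq_one]
    by_contra hcon
    obtain ⟨r, hr, hrd⟩ := Nat.exists_prime_and_dvd hcon
    have h3 := hidx r hr (hrd.trans (Nat.gcd_dvd_left _ _))
    have h4 : r ∣ 1 := (h3.dvd_iff dvd_rfl).mp (hrd.trans (Nat.gcd_dvd_right _ _))
    exact hr.one_lt.ne' (Nat.dvd_one.mp h4)
  have hmM : m ∣ Nat.card M := by
    refine hcop.dvd_of_dvd_mul_right ?_
    rw [Subgroup.card_mul_index]
    exact hmG
  set H := M.map e.toMonoidHom with hH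
  have eM : M ≃* H := M.equivMapOfInjective e.toMonoidHom e.injective
  -- the elements
  have h3 := conj_ab h h1 h2
  have hca : ⁅c, a⁆ = b * a := by
    rw [commutatorElement_def, h1, inv_eq_of_sq h.xx]
  have hba : (b * a) * (b * a) = 1 := by
    rw [mul_assoc, ← mul_assoc a b a, h.comm, mul_assoc b a a, h.xx, mul_one, h.yy]
  have hba1 : b * a ≠ 1 := by
    rw [← h.comm]; exact h.xy_ne_one
  have hconj : c * ⁅c, a⁆ * c⁻¹ ≠ ⁅c, a⁆ := by
    rw [hca, ← h.comm, h3]
    intro h4
    exact h.hy (mul_eq_left.mp h4.symm)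
  have hinv : ⁅c, a⁆⁻¹ = ⁅c, a⁆ := by rw [hca, inv_eq_of_sq hba]
  set c' : M := ⟨c, hc⟩ with hc'
  set a' : M := ⟨a, ha⟩ with ha'
  have hcomm : ((⁅c', a'⁆ : M) : G) = ⁅c, a⁆ := rfl
  have h12 : Nat.card M = 12 → False := by
    intro h5
    rw [h5] at hmM
    have h6 := Nat.le_of_dvd (by norm_num) hmM
    interval_cases m <;> revert hm hmM <;> decide
  have h24 : Nat.card M = 24 → False := by
    intro h5
    rw [h5] at hmM
    have h6 := Nat.le_of_dvd (by norm_num) hmM
    interval_cases m <;> revert hm hmM <;> decide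
  have h60 : Nat.card M = 60 → False := by
    intro h5
    rw [h5] at hmM
    have h6 := Nat.le_of_dvd (by norm_num) hmM
    have h7 : m = 15 := by
      interval_cases m <;> first | rfl | (exfalso; revert hm hmM; decide)
    have h8 := Subgroup.card_mul_index M
    rw [h5, h15 h7] at h8
    have h9 : M.index = 248 := by omega
    have h10 := hidx 3 Nat.prime_three (by rw [h7]; norm_num)
    rw [h9] at h10
    exact absurd h10 (by decide)
  rcases S0799.result hF p H with ⟨k, -, ⟨hcyc, -⟩ | ⟨⟨ed⟩⟩⟩ | ⟨P, K, hK, ⟨ek⟩⟩ | ⟨⟨e4⟩⟩ | ⟨⟨e4⟩⟩ | ⟨⟨e5⟩⟩ |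
    ⟨K, _, _, n, hn, hK⟩
  · -- cyclic
    have h5 : ∀ x y : H, x * y = y * x := fun x y => (IsCyclic.commGroup (α := H)).mul_comm x y
    apply hba1
    rw [← hca, ← hcomm]
    have h6 : eM ⁅c', a'⁆ = 1 := by
      rw [map_commutatorElement, commutatorElement_eq_one_iff_mul_comm]
      exact h5 _ _
    have h7 : ⁅c', a'⁆ = 1 := eM.injective (by rw [h6, map_one])
    rw [h7]; rfl
  · -- dihedral
    rcases H948.PSLMax.comm_of_dihedral ((ed.toMonoidHom).comp eM.toMonoidHom) (ed.injective.comp eM.injective) c' a' c'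
      with h5 | h5
    · exact hconj (congrArg Subtype.val h5)
    · apply hconj
      rw [← hinv]
      nth_rewrite 1 [hinv]
      exact congrArg Subtype.val h5
  · -- parabolic
    have h5 := H948.PSLMax.comm_pow_char p P _ _ (hK (ek (eM c')).2) (hK (ek (eM a')).2)
    have h6 : ⁅c', a'⁆ ^ p = 1 := by
      apply eM.injective
      apply ek.injective
      rw [map_one, map_one]
      apply Subtype.ext
      rw [map_pow, map_pow, map_commutatorElement, map_commutatorElement]
      exact h5
    have h7 : (b * a) ^ p = 1 := by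
      rw [← hca, ← hcomm]
      exact congrArg Subtype.val h6
    have h8 : (b * a) ^ 2 = 1 := by rw [pow_two, hba]
    have h9 : orderOf (b * a) = 1 :=
      Nat.eq_one_of_dvd_coprimes ((Nat.coprime_primes hp.out Nat.prime_two).mpr hp2)
        (orderOf_dvd_of_pow_eq_one h7) (orderOf_dvd_of_pow_eq_one h8)
    exact hba1 (orderOf_eq_one_iff.mp h9)
  · apply h12
    rw [Nat.card_congr (eM.trans e4).toEquiv, nat_card_alternatingGroup, Nat.card_fin]
    rfl
  · apply h24
    rw [Nat.card_congr (eM.trans e4).toEquiv, Nat.card_perm, Nat.card_fin]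
    rfl
  · apply h60
    rw [Nat.card_congr (eM.trans e5).toEquiv, nat_card_alternatingGroup, Nat.card_fin]
    rfl
  · have hKF : Fintype.card K = Fintype.card F := by
      rw [hF]
      exact ((Nat.Prime.pow_eq_iff hp.out).mp hn).1
    have h5 := H948.PSLMax.eq_top_of_card_eq H hKF hK
    apply hM
    apply Subgroup.map_injective (f := e.toMonoidHom) e.injective
    rw [Subgroup.map_top_of_surjective _ e.surjective]
    exact h5

/-- `PSL(2,p)`, `p` a Fermat or Mersenne prime, `p ≥ 17`. -/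
theorem false_neighbour [IsSimpleGroup G] (hna : ¬ Group.IsSolvable G) (hcl : TwoMax G)
    {F : Type} [Field F] [Fintype F] {p : ℕ} [hp : Fact p.Prime] [CharP F p] (hp2 : p ≠ 2)
    (hF : Fintype.card F = p) {m : ℕ} (hm : Odd m) (hm9 : 9 ≤ m) (hmp : m < p)
    (h15 : m = 15 → Nat.card G = 14880) (hmG : m ∣ Nat.card G) (h12 : ¬ 12 * (1 + p) ∣ Nat.card G)
    (e : G ≃* ProjectiveSpecialLinearGroup (Fin 2) F) : False := by
  obtain ⟨a, b, c, h, h1, h2⟩ := exists_klein (G := G) (F := F) (by
    intro h0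
    have : ringChar F = 2 := CharP.ringChar_of_prime_eq_zero Nat.prime_two (by exact_mod_cast h0)
    rw [ringChar.eq F p] at this
    exact hp2 this) e
  obtain ⟨P, U, s, hs, hS⟩ := exists_bn (p := p) e
  obtain ⟨Q, hQ⟩ := exists_sylow_of_split hs
  have hidxB : P.B.index = 1 + p := by
    rw [RankOne.index_B hs hS, ← hQ]
    exact congrArg (fun x => 1 + x) ((card_sylow (p := p) e Q).trans hF)
  have hB : ¬ Group.IsNilpotent P.B := by
    rw [← hs.normalizer_eq, ← hQ]
    exact not_nilp_normalizer (by omega) e Q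
  have hcoat : IsCoatom P.B := by
    have h1 := isCoatom_parabolic P (s := s) (by rw [hS]; rfl)
    rwa [hS, Set.sdiff_self, Cfsg.Agent.Schreier.BNSch.parabolic_empty] at h1
  obtain ⟨M₁, M₂, hM₁, hM₂, -, -, hcov, hmod, -⟩ := hcl.numeric hna
  have main : ∀ M₁ M₂ : Subgroup G, IsCoatom M₂ → (∀ M : Subgroup G, IsCoatom M → ¬ Group.IsNilpotent M →
        ∃ c : G, (M = MulAut.conj c • M₁ ∨ M = MulAut.conj c • M₂)) →
      (∀ r : ℕ, r.Prime → r ≠ 2 → r ∣ Nat.card G → M₁.index ≡ 1 [MOD r] ∨ M₂.index ≡ 1 [MOD r]) →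
      (∃ c : G, P.B = MulAut.conj c • M₁) → False := by
    intro M₁ M₂ hM₂ hcov hmod ⟨d, hd⟩
    have hn1 : M₁.index = 1 + p := by rw [← hidxB, hd, index_conj]
    have hn2 : ∀ r, r.Prime → r ∣ m → M₂.index ≡ 1 [MOD r] := by
      intro r hr hrm
      have hr2 : r ≠ 2 := by
        rintro rfl
        exact absurd hm (Nat.not_odd_iff_even.mpr (even_iff_two_dvd.mpr hrm))
      rcases hmod r hr hr2 (hrm.trans hmG) with h3 | h3
      · exfalso
        rw [hn1] at h3
        have h4 : r ∣ p := by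
          have h5 : 1 + p ≡ 1 + 0 [MOD r] := h3
          exact (Nat.modEq_zero_iff_dvd).mp (Nat.ModEq.add_left_cancel' 1 h5)
        have h5 := (Nat.prime_dvd_prime_iff_eq hr hp.out).mp h4
        have h6 := Nat.le_of_dvd (by omega) hrm
        omega
      · exact h3
    have hNt := normalizer_ne_top h hna
    obtain ⟨M, hM, hle⟩ := (eq_top_or_exists_le_coatom (Subgroup.normalizer (h.four : Set G))).resolve_left hNt
    have hcM := hle (mem_normalizer_four h h1 h2)
    have haM := hle (le_normalizer_four h).1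
    have hbM := hle (le_normalizer_four h).2
    have hMn := not_nilp_of_klein h h1 h2 haM hbM hcM
    obtain ⟨g, hg | hg⟩ := hcov M hM hMn
    · have hMi : M.index = 1 + p := by rw [hg, index_conj, hn1]
      apply h12
      rw [← hMi, ← Subgroup.card_mul_index M]
      exact Nat.mul_dvd_mul_right ((twelve_dvd h h1 h2).trans (Subgroup.card_dvd_of_le hle)) _
    · have hMi : M.index = M₂.index := by rw [hg, index_conj]
      exact false_of_M hp2 hF hm hm9 h15 hmG e h h1 h2 hM.1 haM hbM hcM
        (fun r hr hrm => hMi ▸ hn2 r hr hrm)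
  obtain ⟨d, hd | hd⟩ := hcov P.B hcoat hB
  · exact main M₁ M₂ hM₂ hcov hmod ⟨d, hd⟩
  · exact main M₂ M₁ hM₁ (fun M hM hn => (hcov M hM hn).imp fun _ => Or.symm)
      (fun r hr hr2 hrG => (hmod r hr hr2 hrG).symm) ⟨d, hd⟩

end

/-- **The groups `PSL(2,q)`.** -/
theorem false_psl_two {A : Type v} {G : Type u} [Group A] [Finite A] [Group G] [Finite G] [MulDistribMulAction A G]
    (hcop : (Nat.card A).Coprime (Nat.card G)) (hsol : Group.IsSolvable A) (hodd : Odd (Nat.card A))
    (hcl : Cfsg.Agent.H580.Two.TwoCl A G) {F : Type} [Field F] [Fintype F] (hF : 4 ≤ Fintype.card F)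
    (e : G ≃* Matrix.ProjectiveSpecialLinearGroup (Fin 2) F) : False := by
  obtain ⟨p, hchar⟩ := CharP.exists F
  have hp : Fact p.Prime := ⟨CharP.char_is_prime F p⟩
  obtain ⟨f, hf1, hf⟩ : ∃ f : ℕ, 1 ≤ f ∧ Fintype.card F = p ^ f := by
    obtain ⟨n, -, hn⟩ := FiniteField.card F p
    exact ⟨n, n.2, hn⟩
  have hsimple : IsSimpleGroup G := by
    have := TwoFusion.SLTwoFacts.isSimpleGroup_psl (F := F) (by omega)
    exact e.isSimpleGroup
  have hna : ¬ Group.IsSolvable G := by
    intro h
    exact PSL2Solvable.not_isSolvable_psl F hF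
      (Group.isSolvable_of_isSolvable_injective (f := e.symm.toMonoidHom) e.symm.injective)
  by_cases hp2 : p = 2
  · subst hp2
    refine false_of hcop hsol hna hcl hF e hf1 hf ?_ (fun h => absurd rfl h)
    rintro ⟨rfl, -⟩
    rw [hf] at hF
    omega
  have h2 : (2 : F) ≠ 0 := by
    intro h0
    have : ringChar F = 2 := CharP.ringChar_of_prime_eq_zero Nat.prime_two (by exact_mod_cast h0)
    rw [ringChar.eq F p] at this
    exact hp2 this
  have hqodd : Odd (Fintype.card F) := (PSL2Basic.two_ne_zero_iff_odd F).mp h2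
  by_cases hCIT : ∃ t y : G, t ≠ 1 ∧ t * t = 1 ∧ y * t = t * y ∧ Odd (orderOf y) ∧ y ≠ 1
  · obtain ⟨t, y, ht1, ht, hy, hyo, hy1⟩ := hCIT
    refine false_of hcop hsol hna hcl hF e hf1 hf ?_ (fun _ => ⟨Subgroup.centralizer {t}, ?_, ?_, ?_, ?_⟩)
    · rintro ⟨rfl, k, hk⟩
      rw [pow_one] at hf
      obtain ⟨T, m, hT, hm⟩ := Lib.PSL2Torus.exists_torus h2 e ht1 ht
      have h3 := hT.card_centralizer
      rw [Nat.card_eq_fintype_card] at hm
      have h4 : Nat.card (Subgroup.centralizer ({t} : Set G)) ∣ 2 ^ k := by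
        rcases hm with ⟨hq4, hm⟩ | ⟨hq4, hm⟩
        · exfalso
          -- `p = 1 mod 4`, `p + 1` a power of two
          have h6 : 2 ≤ k := by
            by_contra hk2
            have : k = 0 ∨ k = 1 := by omega
            rcases this with rfl | rfl <;> omega
          obtain ⟨l, rfl⟩ : ∃ l, k = l + 2 := ⟨k - 2, by omega⟩
          rw [pow_add] at hk
          omega
        · rw [h3, hm, hf, hk]
      have h5 : orderOf y ∣ 2 ^ k :=
        (Subgroup.orderOf_dvd_natCard _ (Subgroup.mem_centralizer_singleton_iff.mpr hy)).trans h4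
      obtain ⟨j, -, hj⟩ := (Nat.dvd_prime_pow Nat.prime_two).mp h5
      rw [hj] at hyo
      have hj0 : j = 0 := by
        by_contra hj0
        exact absurd hyo (Nat.not_odd_iff_even.mpr ((even_two).pow_of_ne_zero hj0))
      rw [hj0, pow_zero, orderOf_eq_one_iff] at hj
      exact hy1 hj
    · exact centralizer_ne_top ht1 hna
    · exact stableClass_centralizer (fun u hu1 hu => Lib.PSL2Torus.conj_inv h2 e ht1 ht hu1 hu) ht1 ht
    · exact not_nilp_centralizer h2 e ht1 ht hy hyo hy1
    · exact odd_index_centralizer h2 e ht1 ht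
  -- the exceptional cases
  push Not at hCIT
  have hC : ∀ t : ProjectiveSpecialLinearGroup (Fin 2) F, orderOf t = 2 → IsPGroup 2 (Subgroup.centralizer {t}) := by
    intro t ht x
    obtain ⟨k, n, hn, hk⟩ := Nat.exists_eq_two_pow_mul_odd (n := orderOf x) (orderOf_pos x).ne'
    refine ⟨k, ?_⟩
    have h1 : t ≠ 1 := by
      rintro rfl
      rw [orderOf_one] at ht
      omega
    have h3 : t * t = 1 := by
      have := pow_orderOf_eq_one t
      rwa [ht, pow_two] at this
    have h4 : (x : ProjectiveSpecialLinearGroup (Fin 2) F) * t = t * x :=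
      Subgroup.mem_centralizer_singleton_iff.mp x.2
    have h5 := hCIT (e.symm t) (e.symm (x ^ 2 ^ k : ProjectiveSpecialLinearGroup (Fin 2) F))
      (fun h => h1 (EmbeddingLike.map_eq_one_iff.mp h)) (by rw [← map_mul, h3, map_one])
      (by
        rw [← map_mul, ← map_mul]
        congr 1
        exact (Commute.pow_left h4 (2 ^ k)).eq) ?_
    · apply Subtype.ext
      exact EmbeddingLike.map_eq_one_iff.mp h5
    · have h6 : orderOf (e.symm (x ^ 2 ^ k : ProjectiveSpecialLinearGroup (Fin 2) F)) ∣ n := by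
        apply orderOf_dvd_of_pow_eq_one
        rw [← map_pow, ← pow_mul, ← hk, ← Subgroup.coe_pow, pow_orderOf_eq_one]
        exact map_one _
      exact hn.of_dvd_nat h6
  have small : f ≤ 2 → ¬ 16 ∣ Nat.card G → ¬ (f = 1 ∧ ∃ k, p + 1 = 2 ^ k) → False := by
    intro hf2 h16 hex
    obtain ⟨a, b, c, h, h3, h4⟩ := exists_klein h2 e
    have htriv := smul_eq_of_card (A := A) hcop hodd (card_aut_dvd (p := p) hf1 hf2 hf h2 e)
    exact false_of hcop hsol hna hcl hF e hf1 hf hex (fun _ => ⟨Subgroup.normalizer (h.four : Set G),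
      normalizer_ne_top h hna, Inv.stableClass (fun a x hx => by rwa [htriv]),
      not_nilp_of_klein h h3 h4 (le_normalizer_four h).1 (le_normalizer_four h).2 (mem_normalizer_four h h3 h4),
      odd_index_normalizer_four h h16⟩)
  have hcard := card_mul_two hqodd e
  rcases LieExceptional.CITPsl.card_of_cit hC hqodd (by
    rcases hqodd with ⟨k, hk⟩; omega) with h9 | ⟨hpr, k, hk⟩
  · -- `q = 9`
    have hp3 : p = 3 := by
      have h3 : p ∣ 3 ^ 2 := by
        have : p ∣ p ^ f := dvd_pow_self _ (by omega)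
        rw [← hf, h9] at this
        exact this
      exact (Nat.prime_dvd_prime_iff_eq hp.out Nat.prime_three).mp (hp.out.dvd_of_dvd_pow h3)
    subst hp3
    have hf2 : f = 2 := by
      have : 3 ^ f = 3 ^ 2 := by rw [← hf, h9]; rfl
      exact Nat.pow_right_injective (le_refl 2 |>.trans (by norm_num)) this
    rw [h9] at hcard
    refine small hf2.le ?_ (by rintro ⟨h, -⟩; omega)
    have : Nat.card G = 360 := by omega
    rw [this]; norm_num
  · have hf1' : f = 1 := by
      rw [hf] at hpr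
      exact (Nat.Prime.eq_one_of_pow hpr)
    subst hf1'
    rw [pow_one] at hf
    rw [hf] at hcard hk hF
    by_cases h5 : p = 5
    · subst h5
      refine small (by norm_num) ?_ ?_
      · have : Nat.card G = 60 := by omega
        rw [this]; norm_num
      · rintro ⟨-, l, hl⟩
        have : l < 3 := by
          by_contra hl3
          have := Nat.pow_le_pow_right (n := 2) (by norm_num) (show 3 ≤ l by omega)
          omega
        interval_cases l <;> omega
    by_cases h7 : p = 7
    · subst h7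
      obtain ⟨e'⟩ := S0255.result (F := F) (K := ZMod 2) (by rw [hf]) (ZMod.card 2)
      have : Fact (Nat.Prime 2) := ⟨Nat.prime_two⟩
      exact LieFam.false_of_rgd2 hcop hsol hodd hna hcl (p := 2) Nat.prime_two
        ⟨2, _, le_refl 2, (Omega.ML.Ex.Typ.typ_PSL (F := ZMod 2) (p := 2) 2).of_equiv (e.trans e').symm⟩
    -- the large cases
    have htriv := smul_eq_of_card (A := A) hcop hodd (card_aut_dvd (p := p) (f := 1) le_rfl (by norm_num)
      (by rw [hf, pow_one]) h2 e)
    have hcl' := hcl.twoMax htriv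
    have hsq : p ^ 2 - 1 = (p + 1) * (p - 1) := by
      have := Nat.sq_sub_sq p 1
      simpa using this
    rw [hsq] at hcard
    rcases hk with hk | hk
    · -- Fermat
      have hk4 : 4 ≤ k := by
        by_contra hk4
        have : k < 4 := by omega
        interval_cases k
        · omega
        · omega
        · omega
        · exact absurd (hk ▸ hp.out) (by norm_num)
      obtain ⟨l, rfl⟩ : ∃ l, k = l + 4 := ⟨k - 4, by omega⟩
      set x := 2 ^ l with hx
      have hx1 : 1 ≤ x := Nat.one_le_two_pow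
      have hpx : p = 16 * x + 1 := by rw [hk, pow_add, ← hx]; ring
      have hG : Nat.card G = p * (16 * x) * (8 * x + 1) := by
        have h3 : p - 1 = 16 * x := by omega
        have h4 : p + 1 = 2 * (8 * x + 1) := by omega
        rw [h3, h4] at hcard
        have h5 : Nat.card G * 2 = (p * (16 * x) * (8 * x + 1)) * 2 := by rw [hcard]; ring
        exact Nat.eq_of_mul_eq_mul_right (by norm_num) h5
      refine false_neighbour hna hcl' hp2 hf (m := 8 * x + 1) ⟨4 * x, by ring⟩ (by omega) (by omega)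
        (fun h => by omega) (by rw [hG]; exact Dvd.intro_left _ rfl) ?_ e
      intro h12
      rw [hG] at h12
      have h3 : 12 * (1 + p) = 24 * (8 * x + 1) := by omega
      rw [h3] at h12
      have h4 : 24 ∣ p * (16 * x) := Nat.dvd_of_mul_dvd_mul_right (by omega) h12
      have h5 : 3 ∣ p * (16 * x) := dvd_trans (by norm_num) h4
      have h6 : 16 * x = 2 ^ (l + 4) := by rw [pow_add, ← hx]; ring
      rw [h6] at h5
      rcases (Nat.prime_three.dvd_mul).mp h5 with h7 | h7
      · have := (Nat.prime_dvd_prime_iff_eq Nat.prime_three hp.out).mp h7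
        omega
      · have := (Nat.prime_dvd_prime_iff_eq Nat.prime_three Nat.prime_two).mp (Nat.prime_three.dvd_of_dvd_pow h7)
        omega
    · -- Mersenne
      have hk5 : 5 ≤ k := by
        by_contra hk4
        have : k < 5 := by omega
        interval_cases k
        · omega
        · omega
        · omega
        · omega
        · have h15 : p = 15 := by omega
          exact absurd (h15 ▸ hp.out) (by norm_num)
      obtain ⟨l, rfl⟩ : ∃ l, k = l + 5 := ⟨k - 5, by omega⟩
      set x := 2 ^ l with hx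
      have hx1 : 1 ≤ x := Nat.one_le_two_pow
      have hpx : p + 1 = 32 * x := by rw [hk, pow_add, ← hx]; ring
      have hG : Nat.card G = p * (16 * x - 1) * (32 * x) := by
        have h3 : p - 1 = 2 * (16 * x - 1) := by omega
        rw [h3, hpx] at hcard
        have h5 : Nat.card G * 2 = (p * (16 * x - 1) * (32 * x)) * 2 := by rw [hcard]; ring
        exact Nat.eq_of_mul_eq_mul_right (by norm_num) h5
      refine false_neighbour hna hcl' hp2 hf (m := 16 * x - 1) ⟨8 * x - 1, by omega⟩ (by omega) (by omega)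
        (fun h => ?_) (by rw [hG]; exact ⟨p * (32 * x), by ring⟩) ?_ e
      · have h3 : x = 1 := by omega
        rw [hG, h3, show p = 31 by omega]
      · intro h12
        rw [hG, add_comm 1 p, hpx] at h12
        have h4 : 12 ∣ p * (16 * x - 1) := Nat.dvd_of_mul_dvd_mul_right (by omega) h12
        have h5 : 2 ∣ p * (16 * x - 1) := dvd_trans (by norm_num) h4
        rcases (Nat.prime_two.dvd_mul).mp h5 with h7 | h7 <;> omega

end Cfsg.Agent.H743.PslTwoB
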