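/-
helper743: counting lemmas for `Meet p T` (used for S2484 / S5760).
-/
import Mathlib
import Cfsg.Agent.H903.SylMeet

set_option autoImplicit false

namespace Cfsg.Agent.H743.MeetCount

open Cfsg.Agent.H903.SylMeet

variable {p : ℕ} [Fact p.Prime] {T : Type*} [Group T]

/-- the stabiliser of the subgroup generated by an automorphism of order `p` -/
theorem card_stab_le_fix [Finite T] (hinj : Function.Injective (MulAut.conj : T →* MulAut T)) (y : MulAut T)
    (hy : orderOf y = p) :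
    Nat.card {x : T // ∀ y', MulAut.conj x * y' * (MulAut.conj x)⁻¹ ∈ Subgroup.zpowers y ↔
      y' ∈ Subgroup.zpowers y} ≤ (p - 1) * Nat.card {x : T // y x = x} := by
  classical
  have hfin : Fintype T := Fintype.ofFinite T
  have hfin' : Fintype (MulAut T) := Fintype.ofFinite _
  have hy1 : y ≠ 1 := by
    rintro rfl
    rw [orderOf_one] at hy
    exact (Fact.out : p.Prime).one_lt.ne hy
  let s : Finset T := Finset.univ.filter fun x => ∀ y', MulAut.conj x * y' * (MulAut.conj x)⁻¹ ∈ Subgroup.zpowers y ↔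
      y' ∈ Subgroup.zpowers y
  let t : Finset (MulAut T) := (Finset.univ.filter fun w => w ∈ Subgroup.zpowers y).erase 1
  have ht : t.card = p - 1 := by
    rw [Finset.card_erase_of_mem (by simp), ← Fintype.card_subtype, ← Nat.card_eq_fintype_card]
    have : Nat.card {w : MulAut T // w ∈ Subgroup.zpowers y} = p := by rw [← hy]; exact Nat.card_zpowers y
    rw [this]
  have hs : Nat.card {x : T // ∀ y', MulAut.conj x * y' * (MulAut.conj x)⁻¹ ∈ Subgroup.zpowers y ↔
      y' ∈ Subgroup.zpowers y} = s.card := by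
    rw [Nat.card_eq_fintype_card, Fintype.card_subtype]
  rw [hs, mul_comm, ← ht]
  refine Finset.card_le_mul_card_image_of_maps_to (f := fun x => MulAut.conj x * y * (MulAut.conj x)⁻¹) ?_ _ ?_
  · intro x hx
    simp only [s, Finset.mem_filter, Finset.mem_univ, true_and] at hx
    simp only [t, Finset.mem_erase, Finset.mem_filter, Finset.mem_univ, true_and]
    refine ⟨?_, (hx y).2 (Subgroup.mem_zpowers y)⟩
    intro h
    exact hy1 (conj_eq_one_iff.1 h)
  · intro w _
    rcases (s.filter fun x => MulAut.conj x * y * (MulAut.conj x)⁻¹ = w).eq_empty_or_nonempty with h0 | ⟨x₀, hx₀⟩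
    · rw [h0]; simp
    rw [Nat.card_eq_fintype_card, Fintype.card_subtype]
    refine Finset.card_le_card_of_injOn (fun x => x₀⁻¹ * x) (fun x hx => ?_) (fun a _ b _ hab => by simpa using hab)
    simp only [Finset.coe_filter, Set.mem_ofPred_eq, Finset.mem_filter, Finset.mem_univ, true_and] at hx hx₀ ⊢
    have h1 : MulAut.conj x * y * (MulAut.conj x)⁻¹ = MulAut.conj x₀ * y * (MulAut.conj x₀)⁻¹ := hx.2.trans hx₀.2.symm
    have h2 : MulAut.conj (x₀⁻¹ * x) * y = y * MulAut.conj (x₀⁻¹ * x) := by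
      rw [map_mul, map_inv]
      calc (MulAut.conj x₀)⁻¹ * MulAut.conj x * y
          = (MulAut.conj x₀)⁻¹ * (MulAut.conj x * y * (MulAut.conj x)⁻¹) * MulAut.conj x := by group
        _ = _ := by rw [h1]; group
    apply hinj
    rw [← conj_apply_aut, ← h2]
    group

theorem fix_conj_eq (z : T) : Nat.card {x : T // MulAut.conj z x = x} = Nat.card (Subgroup.centralizer ({z} : Set T)) := by
  refine Nat.card_congr (Equiv.subtypeEquivRight fun x => ?_)
  rw [MulAut.conj_apply, Subgroup.mem_centralizer_singleton_iff, mul_inv_eq_iff_eq_mul]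
  exact eq_comm

/-- **Counting with two families.** -/
theorem good_of_count₂ [Finite T] {P : Subgroup (MulAut T)} (hP : IsPGroup p P) (I : Subgroup (MulAut T)) [hI : I.Normal]
    (𝒴 : Finset (Subgroup (MulAut T))) (h𝒴 : ∀ Y, Y ∈ 𝒴 ↔ Y ≤ P ∧ Nat.card Y = p ∧ Y ≤ I)
    (𝒵 : Finset (Subgroup (MulAut T))) (h𝒵 : ∀ Y, Y ∈ 𝒵 ↔ Y ≤ P ∧ Nat.card Y = p ∧ ¬ Y ≤ I)
    (b c : ℕ)
    (hb : ∀ Y ∈ 𝒴, Nat.card {x : T // ∀ y, MulAut.conj x * y * (MulAut.conj x)⁻¹ ∈ Y ↔ y ∈ Y} ≤ b)
    (hc : ∀ Y ∈ 𝒵, Nat.card {x : T // ∀ y, MulAut.conj x * y * (MulAut.conj x)⁻¹ ∈ Y ↔ y ∈ Y} ≤ c)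
    (hsum : 𝒴.card ^ 2 * b + 𝒵.card ^ 2 * c < Nat.card T) :
    ∃ x : T, ∀ y ∈ P, MulAut.conj x * y * (MulAut.conj x)⁻¹ ∈ P → y = 1 := by
  classical
  by_contra hcon
  have hfin : Fintype T := Fintype.ofFinite T
  let A : Subgroup (MulAut T) → Subgroup (MulAut T) → Finset T := fun Y Y' =>
    Finset.univ.filter fun x => ∀ y, MulAut.conj x * y * (MulAut.conj x)⁻¹ ∈ Y' ↔ y ∈ Y
  have hA : ∀ (Y : Subgroup (MulAut T)) (n : ℕ),
      Nat.card {x : T // ∀ y, MulAut.conj x * y * (MulAut.conj x)⁻¹ ∈ Y ↔ y ∈ Y} ≤ n →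
      ∀ Y', (A Y Y').card ≤ n := by
    intro Y n hY Y'
    rcases (A Y Y').eq_empty_or_nonempty with h0 | ⟨x₀, hx₀⟩
    · rw [h0]; simp
    refine le_trans ?_ hY
    rw [Nat.card_eq_fintype_card, Fintype.card_subtype]
    refine Finset.card_le_card_of_injOn (fun x => x₀⁻¹ * x) (fun x hx => ?_)
      (fun a _ b _ hab => by simpa using hab)
    simp only [A, Finset.coe_filter, Finset.mem_univ, true_and, Set.mem_ofPred_eq,
      Finset.mem_filter] at hx hx₀ ⊢
    intro y
    rw [← hx y, ← hx₀]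
    simp [mul_assoc]
  have hcover : (Finset.univ : Finset T) ⊆ (𝒴.biUnion fun Y => 𝒴.biUnion fun Y' => A Y Y') ∪
      (𝒵.biUnion fun Y => 𝒵.biUnion fun Y' => A Y Y') := by
    intro x _
    obtain ⟨y, hy, hxy, hyp⟩ := exists_orderOf_of_not_good hP hcon x
    have hy' : orderOf (MulAut.conj x * y * (MulAut.conj x)⁻¹) = p := by
      rw [← hyp]
      exact (MulAut.conj (MulAut.conj x)).orderOf_eq y
    have hmem : x ∈ A (Subgroup.zpowers y) (Subgroup.zpowers (MulAut.conj x * y * (MulAut.conj x)⁻¹)) := by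
      simp only [A, Finset.mem_filter, Finset.mem_univ, true_and]
      intro z
      simp only [Subgroup.mem_zpowers_iff]
      constructor
      · rintro ⟨k, hk⟩
        refine ⟨k, ?_⟩
        rw [conj_zpow] at hk
        simpa using hk
      · rintro ⟨k, rfl⟩
        exact ⟨k, by rw [conj_zpow]⟩
    rw [Finset.mem_union]
    by_cases hyI : y ∈ I
    · left
      simp only [Finset.mem_biUnion]
      refine ⟨Subgroup.zpowers y, (h𝒴 _).2 ⟨by simpa using hy, by rw [Nat.card_zpowers, hyp], by simpa using hyI⟩,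
        Subgroup.zpowers (MulAut.conj x * y * (MulAut.conj x)⁻¹),
        (h𝒴 _).2 ⟨by simpa using hxy, by rw [Nat.card_zpowers, hy'], ?_⟩, hmem⟩
      rw [Subgroup.zpowers_le]
      exact hI.conj_mem _ hyI _
    · right
      simp only [Finset.mem_biUnion]
      refine ⟨Subgroup.zpowers y, (h𝒵 _).2 ⟨by simpa using hy, by rw [Nat.card_zpowers, hyp], by simpa using hyI⟩,
        Subgroup.zpowers (MulAut.conj x * y * (MulAut.conj x)⁻¹),
        (h𝒵 _).2 ⟨by simpa using hxy, by rw [Nat.card_zpowers, hy'], ?_⟩, hmem⟩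
      rw [Subgroup.zpowers_le]
      intro h
      apply hyI
      have := hI.conj_mem _ h (MulAut.conj x)⁻¹
      simpa [mul_assoc] using this
  have hB : ∀ (𝒲 : Finset (Subgroup (MulAut T))) (n : ℕ), (∀ Y ∈ 𝒲, ∀ Y', (A Y Y').card ≤ n) →
      (𝒲.biUnion fun Y => 𝒲.biUnion fun Y' => A Y Y').card ≤ 𝒲.card ^ 2 * n := by
    intro 𝒲 n hn
    calc (𝒲.biUnion fun Y => 𝒲.biUnion fun Y' => A Y Y').card
        ≤ ∑ Y ∈ 𝒲, (𝒲.biUnion fun Y' => A Y Y').card := Finset.card_biUnion_le
      _ ≤ ∑ Y ∈ 𝒲, (𝒲.card * n) := by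
        refine Finset.sum_le_sum fun Y hY => Finset.card_biUnion_le.trans ?_
        rw [← smul_eq_mul, ← Finset.sum_const]
        exact Finset.sum_le_sum fun Y' _ => hn Y hY Y'
      _ = _ := by rw [Finset.sum_const, smul_eq_mul]; ring
  have h1 := (Finset.card_le_card hcover).trans (Finset.card_union_le _ _)
  have h2 := hB 𝒴 b fun Y hY Y' => hA Y b (hb Y hY) Y'
  have h3 := hB 𝒵 c fun Y hY Y' => hA Y c (hc Y hY) Y'
  rw [Finset.card_univ, ← Nat.card_eq_fintype_card] at h1
  omega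

/-- subgroups of order `p` outside a normal subgroup -/
theorem card_out_mul_le [Finite T] {P : Subgroup (MulAut T)} (I : Subgroup (MulAut T))
    (𝒵 : Finset (Subgroup (MulAut T))) (h𝒵 : ∀ Y ∈ 𝒵, Y ≤ P ∧ Nat.card Y = p ∧ ¬ Y ≤ I) :
    𝒵.card * (p - 1) + Nat.card (P ⊓ I : Subgroup (MulAut T)) ≤ Nat.card P := by
  classical
  have hfin : Fintype (MulAut T) := Fintype.ofFinite _
  have hpp := (Fact.out : p.Prime)
  let E : Subgroup (MulAut T) → Finset (MulAut T) := fun Y => Finset.univ.filter fun y => y ∈ Y ∧ y ≠ 1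
  have key : ∀ Z ∈ 𝒵, ∀ y ∈ Z, y ≠ 1 → Subgroup.zpowers y = Z := by
    intro Z hZ y hyZ hy1
    apply Subgroup.eq_of_le_of_card_ge (by simpa using hyZ)
    rw [(h𝒵 Z hZ).2.1, Nat.card_zpowers]
    have h3 : orderOf y ∣ p := by
      rw [← (h𝒵 Z hZ).2.1]
      exact Subgroup.orderOf_dvd_natCard Z hyZ
    rcases (hpp.eq_one_or_self_of_dvd _ h3) with h4 | h4
    · exact absurd (orderOf_eq_one_iff.1 h4) hy1
    · exact h4.ge
  have hE : ∀ Y ∈ 𝒵, (E Y).card = p - 1 := by
    intro Y hY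
    have h1 : insert 1 (E Y) = Finset.univ.filter fun y => y ∈ Y := by
      ext y
      simp only [E, Finset.mem_insert, Finset.mem_filter, Finset.mem_univ, true_and]
      constructor
      · rintro (rfl | h)
        · exact Y.one_mem
        · exact h.1
      · intro h
        by_cases h' : y = 1
        · exact Or.inl h'
        · exact Or.inr ⟨h, h'⟩
    have h2 : (insert 1 (E Y)).card = p := by
      rw [h1, ← (h𝒵 Y hY).2.1, Nat.card_eq_fintype_card, Fintype.card_subtype]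
    rw [Finset.card_insert_of_notMem (by simp [E])] at h2
    omega
  have hdisj : ∀ Y ∈ 𝒵, ∀ Y' ∈ 𝒵, Y ≠ Y' → Disjoint (E Y) (E Y') := by
    intro Y hY Y' hY' hne
    rw [Finset.disjoint_left]
    intro y hy hy'
    simp only [E, Finset.mem_filter, Finset.mem_univ, true_and] at hy hy'
    apply hne
    rw [← key Y hY y hy.1 hy.2, ← key Y' hY' y hy'.1 hy.2]
  have hsub : Disjoint (𝒵.biUnion E) (Finset.univ.filter fun y : MulAut T => y ∈ (P ⊓ I : Subgroup (MulAut T))) := by
    rw [Finset.disjoint_left]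
    intro y hy hy'
    simp only [Finset.mem_biUnion, E, Finset.mem_filter, Finset.mem_univ, true_and] at hy hy'
    obtain ⟨Y, hY, h1, h2⟩ := hy
    apply (h𝒵 Y hY).2.2
    rw [← key Y hY y h1 h2, Subgroup.zpowers_le]
    exact hy'.2
  have hle : (𝒵.biUnion E) ∪ (Finset.univ.filter fun y : MulAut T => y ∈ (P ⊓ I : Subgroup (MulAut T))) ⊆
      Finset.univ.filter fun y : MulAut T => y ∈ P := by
    intro y hy
    simp only [Finset.mem_union, Finset.mem_biUnion, E, Finset.mem_filter, Finset.mem_univ, true_and] at hy ⊢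
    rcases hy with ⟨Y, hY, h1, h2⟩ | hy
    · exact (h𝒵 Y hY).1 h1
    · exact hy.1
  have h1 := Finset.card_le_card hle
  rw [Finset.card_union_of_disjoint hsub, Finset.card_biUnion hdisj, Finset.sum_congr rfl hE, Finset.sum_const,
    smul_eq_mul, ← Fintype.card_subtype, ← Nat.card_eq_fintype_card, ← Fintype.card_subtype,
    ← Nat.card_eq_fintype_card] at h1
  exact h1

/-- all elements of a Sylow `p`-subgroup of `Aut T` are inner if `p` does not divide `|Out T|` -/
theorem mem_range_of_not_dvd [Finite T] (hi : ¬ p ∣ (MulAut.conj : T →* MulAut T).range.index)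
    {P : Subgroup (MulAut T)} (hP : IsPGroup p P) {a : MulAut T} (ha : a ∈ P) :
    a ∈ (MulAut.conj : T →* MulAut T).range := by
  have hpp := (Fact.out : p.Prime)
  have hn : (MulAut.conj : T →* MulAut T).range.Normal := ⟨by
    rintro _ ⟨t, rfl⟩ g
    exact ⟨g t, (conj_apply_aut g t).symm⟩⟩
  obtain ⟨k, hk⟩ := hP ⟨a, ha⟩
  have hk' : a ^ p ^ k = 1 := by simpa using congrArg Subtype.val hk
  have h2 : orderOf ((a : MulAut T) : MulAut T ⧸ (MulAut.conj : T →* MulAut T).range) ∣ p ^ k := by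
    apply orderOf_dvd_of_pow_eq_one
    rw [← QuotientGroup.mk_pow, hk']; rfl
  have h3 : orderOf ((a : MulAut T) : MulAut T ⧸ (MulAut.conj : T →* MulAut T).range) ∣
      (MulAut.conj : T →* MulAut T).range.index := orderOf_dvd_natCard _
  have h4 : Nat.Coprime (p ^ k) (MulAut.conj : T →* MulAut T).range.index :=
    Nat.Coprime.pow_left _ ((hpp.coprime_iff_not_dvd).2 hi)
  exact (QuotientGroup.eq_one_iff a).1 (orderOf_eq_one_iff.1 (Nat.eq_one_of_dvd_coprimes h4 h2 h3))

/-- **Centralisers of elements of order `p`**, `p ∤ |Out T|`. -/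
theorem meet_of_cent [Finite T] [IsSimpleGroup T] (hT : ¬ IsMulCommutative T)
    (hi : ¬ p ∣ (MulAut.conj : T →* MulAut T).range.index) {c k : ℕ}
    (hc : ∀ z : T, orderOf z = p → Nat.card (Subgroup.centralizer ({z} : Set T)) ≤ c)
    (hk : ¬ p ^ (k + 1) ∣ Nat.card T) (h : (p ^ k - 1) ^ 2 * c < (p - 1) * Nat.card T) : Meet p T := by
  classical
  have hpp := (Fact.out : p.Prime)
  have hinj := conj_injective (T := T) hT
  obtain ⟨P⟩ : Nonempty (Sylow p (MulAut T)) := inferInstance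
  apply meet_of_sylow P
  have hfin : Fintype (Subgroup (MulAut T)) := Fintype.ofFinite _
  obtain ⟨j, hj⟩ := P.isPGroup'.exists_card_eq
  have hjk : j ≤ k := by
    by_contra hcon
    have h1 : p ^ j ∣ Nat.card (MulAut T) := by
      rw [← hj]; exact Subgroup.card_subgroup_dvd_card _
    rw [← (MulAut.conj : T →* MulAut T).range.index_mul_card,
      ← Nat.card_congr (MonoidHom.ofInjective hinj).toEquiv] at h1
    have h2 : p ^ j ∣ Nat.card T :=
      (Nat.Coprime.pow_left j ((hpp.coprime_iff_not_dvd).2 hi)).dvd_of_dvd_mul_left h1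
    exact hk ((pow_dvd_pow p (by omega)).trans h2)
  let 𝒴 : Finset (Subgroup (MulAut T)) :=
    Finset.univ.filter fun Y => Y ≤ (P : Subgroup (MulAut T)) ∧ Nat.card Y = p
  have h1 : 𝒴.card * (p - 1) ≤ Nat.card P - 1 :=
    card_order_p_mul_le (P := (P : Subgroup (MulAut T))) 𝒴 (fun Y hY => by simpa [𝒴] using hY)
  have h2 : 𝒴.card * (p - 1) ≤ p ^ k - 1 := by
    have h3 : Nat.card P = p ^ j := hj
    have h4 : p ^ j ≤ p ^ k := Nat.pow_le_pow_right hpp.pos hjk
    omega
  refine good_of_count P.isPGroup' 𝒴 (fun Y hY hc => Finset.mem_filter.2 ⟨Finset.mem_univ _, hY, hc⟩)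
    (fun _ => (p - 1) * c) (fun Y hY => ?_) ?_
  · have hY' : Y ≤ (P : Subgroup (MulAut T)) ∧ Nat.card Y = p := by simpa [𝒴] using hY
    obtain ⟨y, hy⟩ := exists_prime_orderOf_dvd_card' (G := Y) p (by rw [hY'.2])
    have hyo : orderOf (y : MulAut T) = p := by rw [Subgroup.orderOf_coe, hy]
    have hz : Subgroup.zpowers (y : MulAut T) = Y := by
      apply Subgroup.eq_of_le_of_card_ge (by simp)
      rw [Nat.card_zpowers, hyo, hY'.2]
    obtain ⟨z, hzy⟩ := mem_range_of_not_dvd hi P.isPGroup' (hY'.1 y.2)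
    have h3 := card_stab_le_fix hinj (y : MulAut T) hyo
    rw [hz, ← hzy, fix_conj_eq] at h3
    refine h3.trans (Nat.mul_le_mul_left _ (hc z ?_))
    rw [← hyo, ← hzy]
    exact (orderOf_injective _ hinj z).symm
  · rw [Finset.sum_const, smul_eq_mul]
    have hp1 : 0 < p - 1 := by have := hpp.two_le; omega
    have h3 : (p - 1) * (𝒴.card * (𝒴.card * ((p - 1) * c))) < (p - 1) * Nat.card T := by
      calc (p - 1) * (𝒴.card * (𝒴.card * ((p - 1) * c))) = (𝒴.card * (p - 1)) ^ 2 * c := by ring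
        _ ≤ (p ^ k - 1) ^ 2 * c := by gcongr
        _ < _ := h
    exact lt_of_mul_lt_mul_left h3 (Nat.zero_le _)

end Cfsg.Agent.H743.MeetCount
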