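/-
helper743: `Meet 3 T` for the Tits group (used for S2484 / S5760).
-/
import Mathlib
import Cfsg.Agent.H743.MeetCount
import Cfsg.Agent.H743.MeetTits
import Cfsg.Agent.H185.MeetChar
import Cfsg.Agent.H745.RvTits

set_option autoImplicit false

namespace Cfsg.Agent.H743.MeetTitsThree

open Cfsg Cfsg.Agent.H903.SylMeet

theorem meet3_aux {G T T' : Type*} [Group G] [Finite G] [IsSimpleGroup G] [Group T] [Group T'] (e : G ≃* T) (e' : G ≃* T')
    (D : Cfsg.Agent.H87.TitsAbs.Dat T) (O : Cfsg.Agent.CpAutTits.Row.Out T)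
    (hcard : Nat.card G = 2 ^ 11 * 3 ^ 3 * 5 ^ 2 * 13)
    (hidx : Nat.card (Out T') ≤ 2) : Meet 3 G := by
  have h3p : Fact (Nat.Prime 3) := ⟨Nat.prime_three⟩
  have : Finite T := Finite.of_equiv G e.toEquiv
  have : Finite T' := Finite.of_equiv G e'.toEquiv
  have : IsSimpleGroup T := e.isSimpleGroup_congr.1 inferInstance
  have : IsSimpleGroup T' := e'.isSimpleGroup_congr.1 inferInstance
  have hcT : Nat.card T = 2 ^ 11 * 3 ^ 3 * 5 ^ 2 * 13 := by
    rw [← hcard]; exact (Nat.card_congr e.toEquiv).symm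
  have hG : ¬ IsMulCommutative G := by
    intro hc
    let _ : CommGroup G := { (inferInstance : Group G) with mul_comm := hc.is_comm.comm }
    have h1 := IsSimpleGroup.prime_card (α := G)
    rw [hcard] at h1
    norm_num at h1
  have hT' : ¬ IsMulCommutative T' := by
    intro hc
    apply hG
    exact ⟨⟨fun a b => e'.injective (by rw [map_mul, map_mul]; exact hc.is_comm.comm _ _)⟩⟩
  have hoG : Nat.card (Out G) ≤ 2 := by
    have h1 := Cfsg.Agent.H934.OutB.card_out_mul G hG
    have h2 := Cfsg.Agent.H934.OutB.card_out_mul T' hT'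
    have h3 : Nat.card (MulAut G) = Nat.card (MulAut T') := Nat.card_congr (MulAut.congr e').toEquiv
    have h4 : Nat.card G = Nat.card T' := Nat.card_congr e'.toEquiv
    rw [h3, ← h2, h4] at h1
    have h5 : 0 < Nat.card T' := Nat.card_pos
    have h6 := Nat.eq_of_mul_eq_mul_right h5 h1
    omega
  refine MeetCount.meet_of_cent (p := 3) (c := 108) (k := 3) hG ?_ ?_ ?_ ?_
  · intro h1
    have h2 : Nat.card (Out G) = (MulAut.conj : G →* MulAut G).range.index := rfl
    rw [← h2] at h1
    have h3 : 0 < Nat.card (Out G) := by rw [h2]; exact Nat.pos_of_ne_zero Subgroup.index_ne_zero_of_finite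
    have := Nat.le_of_dvd h3 h1
    omega
  · intro z hz
    have hz3 : (e z) ^ 3 = 1 := by rw [← map_pow, ← hz, pow_orderOf_eq_one, map_one]
    have hz1 : e z ≠ 1 := by
      intro h
      have h1 : z = 1 := e.injective (by rw [h, map_one])
      rw [h1, orderOf_one] at hz
      omega
    have h1 := Cfsg.Agent.H745.RvTits.card_cent_of D O hz3 hz1
    rw [← h1]
    refine (Nat.card_congr (Equiv.subtypeEquiv e.toEquiv fun x => ?_)).le
    rw [Subgroup.mem_centralizer_singleton_iff]
    show _ ↔ e x ∈ Subgroup.centralizer ({e z} : Set T)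
    rw [Subgroup.mem_centralizer_singleton_iff, ← map_mul, ← map_mul]
    exact e.injective.eq_iff.symm
  · rw [hcard]; norm_num
  · rw [hcard]; norm_num

/-- **The Tits group.** -/
theorem meet3_Tits {G : Type*} [Group G] [Finite G] [IsSimpleGroup G] (h : Cfsg.Lie.IsoTits G) : Meet 3 G := by
  have hcard := OddRank.SzTits.tits_card h
  obtain ⟨e'⟩ := MeetTits.exists_tits_TT h
  obtain ⟨e⟩ := h
  obtain ⟨D⟩ := Cfsg.Agent.H87.TitsData.dat_tits
  have h2 := meet3_aux (T := Cfsg.Lie.TitsGroup) (T' := ↥Cfsg.Agent.TitsK.TT) e e' D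
    (Cfsg.Agent.CpAutTits.Row.out ⟨MulEquiv.refl _⟩) hcard
  exact h2 MeetTits.card_out_TT

end Cfsg.Agent.H743.MeetTitsThree
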