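/-
helper743: `Meet p T` for the Suzuki groups and the small Ree groups (used for S5762).
-/
import Mathlib
import Cfsg.Agent.H743.MeetRank
import Cfsg.Agent.H70.SzOut
import Cfsg.Agent.H71.FldAut
import Cfsg.Agent.H934.IdxRee
import Cfsg.Agent.OddRank.SzTits
import Cfsg.Agent.S1156
import Cfsg.Agent.S1069
import Cfsg.Agent.S1163
import Cfsg.Agent.H382.FieldAction
import Cfsg.Agent.LieRecognition.FieldSemilinear

set_option autoImplicit false

namespace Cfsg.Agent.H743.MeetTw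

open Cfsg Cfsg.Agent.H903.SylMeet

/-- `Meet` with a cyclic group of "field automorphisms". -/
theorem meet_fld {p : ℕ} [Fact p.Prime] (hp2 : p ≠ 2) {T : Type*} [Group T] [Finite T]
    [IsSimpleGroup T] (hT : ¬ IsMulCommutative T)
    {C : Type*} [Group C] [Finite C] [IsCyclic C] (f : C →* MulAut T)
    (hf : ∀ α : MulAut T, ∃ (g : T) (τ : C), α = MulAut.conj g * f τ)
    (hcyc : ∀ R : Subgroup T, IsPGroup p R → IsCyclic R)
    (hpm : p ∣ Nat.card C → p ∣ Nat.card T → ∀ H : Subgroup T, H ≠ ⊤ → (p + 1) ^ 2 < H.index) :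
    Meet p T := by
  have hn : (MulAut.conj : T →* MulAut T).range.Normal := ⟨by
    rintro _ ⟨t, rfl⟩ g
    exact ⟨g t, (conj_apply_aut g t).symm⟩⟩
  let ψ : C →* MulAut T ⧸ (MulAut.conj : T →* MulAut T).range :=
    (QuotientGroup.mk' (MulAut.conj : T →* MulAut T).range).comp f
  have hψ : Function.Surjective ψ := by
    intro x
    obtain ⟨α, rfl⟩ := QuotientGroup.mk_surjective x
    obtain ⟨g, τ, rfl⟩ := hf α
    refine ⟨τ, ?_⟩
    change ((f τ : MulAut T) : MulAut T ⧸ (MulAut.conj : T →* MulAut T).range) = _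
    rw [QuotientGroup.mk_mul]
    have : ((MulAut.conj g : MulAut T) : MulAut T ⧸ (MulAut.conj : T →* MulAut T).range) = 1 := by
      rw [QuotientGroup.eq_one_iff]; exact ⟨g, rfl⟩
    rw [this, one_mul]
  have hc : IsCyclic (MulAut T ⧸ (MulAut.conj : T →* MulAut T).range) := isCyclic_of_surjective ψ hψ
  by_cases hp : p ∣ Nat.card C ∧ p ∣ Nat.card T
  · refine MeetRank.meet_rank_one hp2 hT (QuotientGroup.mk' (MulAut.conj : T →* MulAut T).range) ?_
      hcyc (m := (p + 1) ^ 2 + 1) (fun H hH => hpm hp.1 hp.2 H hH) fun _ _ => Nat.lt_succ_self _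
    intro a _ ha
    exact (QuotientGroup.eq_one_iff a).1 ha
  · refine MeetRank.meet_rank_one hp2 hT (QuotientGroup.mk' (MulAut.conj : T →* MulAut T).range) ?_
      hcyc (m := 0) (fun H _ => Nat.zero_le _) fun h1 h2 => absurd ⟨?_, h2⟩ hp
    · intro a _ ha
      exact (QuotientGroup.eq_one_iff a).1 ha
    · exact h1.trans (Subgroup.card_dvd_of_surjective ψ hψ)

theorem not_comm_of_not_dvd {T : Type*} [Group T] [Finite T] [IsSimpleGroup T] {a b : ℕ} (ha : 1 < a)
    (hb : 1 < b) (h : Nat.card T = a * b) : ¬ IsMulCommutative T := by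
  intro hc
  let _ : CommGroup T := { (inferInstance : Group T) with mul_comm := hc.is_comm.comm }
  have := IsSimpleGroup.prime_card (α := T)
  rw [h] at this
  exact Nat.not_prime_mul ha.ne' hb.ne' this

theorem sq_lt_two_pow {p : ℕ} (hp : 7 ≤ p) : (p + 1) ^ 2 < 2 ^ p := by
  induction p, hp using Nat.le_induction with
  | base => norm_num
  | succ n hn ih =>
    rw [pow_succ 2]
    nlinarith

theorem two_sq_lt_three_pow {p : ℕ} (hp : 5 ≤ p) : 2 * (p + 1) ^ 2 < 3 ^ p := by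
  induction p, hp using Nat.le_induction with
  | base => norm_num
  | succ n hn ih =>
    rw [pow_succ 3]
    nlinarith

section sz

open Cfsg.Agent.LieRecognition.SzMatrix Cfsg.Agent.ThreePrime Cfsg.Agent.ThreePrime.SzRel
open Cfsg.Agent.H70.SzOut

/-- Every proper subgroup of `Sz(q)` has index at least `q`. -/
theorem sz_index {F : Type*} [Field F] [Fintype F] {m : ℕ} (hF : Fintype.card F = 2 ^ (2 * m + 1))
    (hs : IsSimpleGroup ↥(Cfsg.Lie.Sz F (2 ^ (m + 1)))) (H : Subgroup ↥(Cfsg.Lie.Sz F (2 ^ (m + 1))))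
    (hH : H ≠ ⊤) : Fintype.card F ≤ H.index := by
  classical
  have G := good hF
  refine H934.IdxRoot.card_le_index (fun t => G.u 0 t) ?_ ?_ ?_ H hH
  · intro s t
    rw [G.u_mul]
    congr 1 <;> simp
  · intro h
    rw [← G.u_zero] at h
    exact one_ne_zero (G.u_inj h).2
  · intro c hc
    obtain ⟨k, hk⟩ := (Finite.injective_iff_surjective.1 (RingHom.injective _)) c
    have hk0 : k ≠ 0 := by
      rintro rfl
      rw [map_zero] at hk
      exact hc hk.symm
    refine ⟨G.d (Units.mk0 k hk0), ?_⟩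
    rw [mul_inv_eq_iff_eq_mul, G.d_mul_u]
    congr 2
    · simp
    · rw [one_mul]
      exact hk

theorem sz_aut {F : Type*} [Field F] [Fintype F] {m : ℕ} (hm : 1 ≤ m)
    (hF : Fintype.card F = 2 ^ (2 * m + 1)) (α : MulAut ↥(Cfsg.Lie.Sz F (2 ^ (m + 1)))) :
    ∃ (g : ↥(Cfsg.Lie.Sz F (2 ^ (m + 1)))) (σ : F ≃+* F), α = MulAut.conj g * fieldAut (good hF) σ := by
  have h8 : 8 ≤ Nat.card F := by
    rw [Nat.card_eq_fintype_card, hF]
    exact SzRel.Rel.eight_le hm
  obtain ⟨S, hS⟩ := exists_sylow hm hF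
  obtain ⟨g, hg⟩ := exists_fix (ofGood (good hF)) S hS α
  obtain ⟨σ, k, hσ⟩ := eq_of_fix h8 (good hF) hg
  refine ⟨g⁻¹ * (good hF).d k, σ, ?_⟩
  rw [map_mul, mul_assoc, ← hσ, map_inv, inv_mul_cancel_left]

theorem sz {F : Type} [Field F] [Fintype F] {m : ℕ} (hm : 1 ≤ m)
    (hF : Fintype.card F = 2 ^ (2 * m + 1)) [IsSimpleGroup ↥(Cfsg.Lie.Sz F (2 ^ (m + 1)))]
    {p : ℕ} [Fact p.Prime] (hp : 5 ≤ p) : Meet p ↥(Cfsg.Lie.Sz F (2 ^ (m + 1))) := by
  have hpp := (Fact.out : p.Prime)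
  have h2 : Fact (Nat.Prime 2) := ⟨Nat.prime_two⟩
  have hcard := (S1163.result hm hF).1
  obtain ⟨q, hq⟩ : ∃ q, q = 2 ^ (2 * m + 1) := ⟨_, rfl⟩
  have h8 : 8 ≤ q := by
    rw [hq]
    calc 8 = 2 ^ 3 := by norm_num
      _ ≤ 2 ^ (2 * m + 1) := Nat.pow_le_pow_right (by norm_num) (by omega)
  have hC : Nat.card (F ≃+* F) = 2 * m + 1 ∧ IsCyclic (F ≃+* F) :=
    H382.FieldAction.card_ringAut_dvd F (by rw [Nat.card_eq_fintype_card, hF])
  have := hC.2
  have hCf : Finite (F ≃+* F) := Nat.finite_of_card_ne_zero (by rw [hC.1]; omega)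
  have hfin : Finite ↥(Cfsg.Lie.Sz F (2 ^ (m + 1))) := Nat.finite_of_card_ne_zero (by
    rw [hcard, ← hq]
    have : 0 < q - 1 := by omega
    positivity)
  refine meet_fld (p := p) (by omega) ?_ (fieldAut (good hF)) (sz_aut hm hF)
    (fun R hR => OddRank.SzTits.isCyclic_of_isPGroup ⟨F, _, _, m, hm, hF, ⟨MulEquiv.refl _⟩⟩
      (by omega) R hR) ?_
  · rw [← hq] at hcard
    have : 0 < (q - 1) := by omega
    exact not_comm_of_not_dvd (a := q ^ 2 * (q - 1)) (b := q ^ 2 + 1) (by nlinarith) (by nlinarith) hcard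
  · intro hpC _ H hH
    rw [hC.1] at hpC
    have hpm : p ≤ 2 * m + 1 := Nat.le_of_dvd (by omega) hpC
    by_cases h7 : 7 ≤ p
    · calc (p + 1) ^ 2 < 2 ^ p := sq_lt_two_pow h7
        _ ≤ 2 ^ (2 * m + 1) := Nat.pow_le_pow_right (by norm_num) hpm
        _ = Fintype.card F := hF.symm
        _ ≤ H.index := sz_index hF inferInstance H hH
    · have h5 : p = 5 := by
        have : p = 5 ∨ p = 6 := by omega
        rcases this with h | h
        · exact h
        · rw [h] at hpp; norm_num at hpp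
      subst h5
      by_cases hm7 : 7 ≤ 2 * m + 1
      · calc (5 + 1) ^ 2 < 2 ^ 7 := by norm_num
          _ ≤ 2 ^ (2 * m + 1) := Nat.pow_le_pow_right (by norm_num) hm7
          _ = Fintype.card F := hF.symm
          _ ≤ H.index := sz_index hF inferInstance H hH
      · have h52 : m = 2 := by omega
        subst h52
        -- 41 divides the order, so the index is at least 41
        by_contra hlt
        push Not at hlt
        have h41 : Nat.Prime 41 := by norm_num
        have hd : 41 ∣ Nat.card ↥(Cfsg.Lie.Sz F (2 ^ (2 + 1))) := by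
          rw [hcard]; norm_num
        have h41' : Fact (Nat.Prime 41) := ⟨h41⟩
        obtain ⟨x, hx⟩ := exists_prime_orderOf_dvd_card' 41 hd
        have hcore : H.normalCore = ⊥ := by
          rcases (inferInstance : H.normalCore.Normal).eq_bot_or_eq_top with h | h
          · exact h
          · exact absurd (top_le_iff.1 (h ▸ H.normalCore_le)) hH
        have hker : (MulAction.toPermHom ↥(Cfsg.Lie.Sz F (2 ^ (2 + 1)))
            (↥(Cfsg.Lie.Sz F (2 ^ (2 + 1))) ⧸ H)).ker = ⊥ := by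
          rw [← Subgroup.normalCore_eq_ker]; exact hcore
        have hinj := (MonoidHom.ker_eq_bot_iff _).1 hker
        have h1 : orderOf (MulAction.toPermHom ↥(Cfsg.Lie.Sz F (2 ^ (2 + 1)))
            (↥(Cfsg.Lie.Sz F (2 ^ (2 + 1))) ⧸ H) x) = 41 := by
          rw [orderOf_injective _ hinj, hx]
        have h3 : 41 ∣ Nat.card (Equiv.Perm (↥(Cfsg.Lie.Sz F (2 ^ (2 + 1))) ⧸ H)) := by
          rw [← h1]; exact orderOf_dvd_natCard _
        rw [Nat.card_perm] at h3
        have h4 := (h41.dvd_factorial).1 h3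
        have h5 : Nat.card (↥(Cfsg.Lie.Sz F (2 ^ (2 + 1))) ⧸ H) = H.index := rfl
        rw [h5] at h4
        norm_num at hlt
        omega

end sz

/-- **Suzuki groups.** -/
theorem meet_Sz {G : Type*} [Group G] [Finite G] [IsSimpleGroup G] (h : Cfsg.Lie.IsoSuzuki G)
    {p : ℕ} [Fact p.Prime] (hp : 5 ≤ p) : Meet p G := by
  obtain ⟨F, _, _, m, hm, hF, ⟨e⟩⟩ := h
  have : IsSimpleGroup ↥(Cfsg.Lie.Sz F (2 ^ (m + 1))) := e.isSimpleGroup_congr.1 inferInstance
  exact Meet.congr e.symm (sz hm hF hp)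

section ree

open Cfsg.Lie

/-- field automorphisms of the small Ree groups -/
noncomputable def reeFld {K : Type} [Field K] (e : ℕ) : (K ≃+* K) →* MulAut ↥(twistedG2 K e) where
  toFun τ := S2127.fld τ e
  map_one' := by
    have h := H71.FldAut.fldG_mul (1 : K ≃+* K) 1 e
    rw [mul_one] at h
    exact (mul_eq_left.1 h.symm)
  map_mul' τ ρ := H71.FldAut.fldG_mul τ ρ e

end ree

/-- **Small Ree groups.** -/
theorem meet_Ree {G : Type*} [Group G] [Finite G] [IsSimpleGroup G] (h : Cfsg.Lie.IsoRee G)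
    {p : ℕ} [Fact p.Prime] (hp : 5 ≤ p) : Meet p G := by
  obtain ⟨K, _, _, m, hm, hK, ⟨e⟩⟩ := h
  have hs : IsSimpleGroup ↥(Cfsg.Lie.twistedG2 K (3 ^ m)) := e.isSimpleGroup_congr.1 inferInstance
  have hfin : Finite ↥(Cfsg.Lie.twistedG2 K (3 ^ m)) := Finite.of_equiv G e.toEquiv
  have hpp := (Fact.out : p.Prime)
  have h3 : Fact (Nat.Prime 3) := ⟨Nat.prime_three⟩
  refine Meet.congr e.symm ?_
  have hC : Nat.card (K ≃+* K) = 2 * m + 1 ∧ IsCyclic (K ≃+* K) :=
    H382.FieldAction.card_ringAut_dvd K (by rw [Nat.card_eq_fintype_card, hK])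
  have := hC.2
  have hCf : Finite (K ≃+* K) := Nat.finite_of_card_ne_zero (by rw [hC.1]; omega)
  refine meet_fld (p := p) (by omega) ?_ (reeFld (3 ^ m)) (H71.FldAut.ree_aut hm hK) ?_ ?_
  · have hcard := S1069.result hK
    have h27 : 27 ≤ 3 ^ (2 * m + 1) :=
      calc 27 = 3 ^ 3 := by norm_num
        _ ≤ 3 ^ (2 * m + 1) := Nat.pow_le_pow_right (by norm_num) (by omega)
    obtain ⟨q, hq⟩ : ∃ q, q = 3 ^ (2 * m + 1) := ⟨_, rfl⟩
    rw [← hq] at hcard h27
    obtain ⟨k, hk⟩ : ∃ k, q - 1 = k := ⟨_, rfl⟩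
    have hk1 : 1 ≤ k := by omega
    have hq3 : 1 < q ^ 3 := Nat.one_lt_pow (by norm_num) (by omega)
    rw [hk] at hcard
    exact not_comm_of_not_dvd (a := q ^ 3 * k) (b := q ^ 3 + 1) (by nlinarith) (by omega) hcard
  · intro R hR
    obtain ⟨P, hP⟩ := hR.exists_le_sylow
    have := S1156.result hm hK (by omega) P
    exact isCyclic_of_injective (Subgroup.inclusion hP) (Subgroup.inclusion_injective hP)
  · intro hpC _ H hH
    rw [hC.1] at hpC
    have hpm : p ≤ 2 * m + 1 := Nat.le_of_dvd (by omega) hpC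
    have h1 : 2 * (p + 1) ^ 2 < 2 * H.index :=
      calc 2 * (p + 1) ^ 2 < 3 ^ p := two_sq_lt_three_pow hp
        _ ≤ 3 ^ (2 * m + 1) := Nat.pow_le_pow_right (by norm_num) hpm
        _ = Fintype.card K := hK.symm
        _ ≤ 2 * H.index := H934.IdxRee.card_le_two_mul hK hs H hH
    omega

end Cfsg.Agent.H743.MeetTw
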