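/-
helper743: arithmetic for `²F₄(q)`, `p ∣ 2m + 1` (used for S5762).
-/
import Mathlib

set_option autoImplicit false

namespace Cfsg.Agent.H743.TwF4Arith

/-- a prime power dividing a product of numbers without common factor `p` -/
theorem dvd_or {p a A B : ℕ} (hp : p.Prime) (h : p ^ a ∣ A * B) (hAB : p ∣ A → ¬ p ∣ B) : p ^ a ∣ A ∨ p ^ a ∣ B := by
  by_cases hA : p ∣ A
  · exact Or.inl ((Nat.Coprime.pow_left a ((hp.coprime_iff_not_dvd).2 (hAB hA))).dvd_of_dvd_mul_right h)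
  · exact Or.inr ((Nat.Coprime.pow_left a ((hp.coprime_iff_not_dvd).2 hA)).dvd_of_dvd_mul_left h)

theorem factor (x : ℕ) (hx : 2 ≤ x) :
    x ^ 12 - 1 = ((x ^ 3 - 1) * (x ^ 3 + 1)) * ((x ^ 2 + 1) * (x ^ 4 - x ^ 2 + 1)) := by
  have h3 : 1 ≤ x ^ 3 := Nat.one_le_pow _ _ (by omega)
  have h12 : 1 ≤ x ^ 12 := Nat.one_le_pow _ _ (by omega)
  have h42 : x ^ 2 ≤ x ^ 4 := Nat.pow_le_pow_right (by omega) (by norm_num)
  zify [h3, h12, h42]
  ring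

/-- `p ^ a ∣ x¹² - 1` implies `p ^ a ≤ x⁴`. -/
theorem le_four {p a x : ℕ} (hp : p.Prime) (h5 : 5 ≤ p) (hx : 2 ≤ x) (h : p ^ a ∣ x ^ 12 - 1) : p ^ a ≤ x ^ 4 := by
  have h3 : 1 ≤ x ^ 3 := Nat.one_le_pow _ _ (by omega)
  have h42 : x ^ 2 ≤ x ^ 4 := Nat.pow_le_pow_right (by omega) (by norm_num)
  have hno2 : ∀ y : ℕ, y ≤ 4 → 0 < y → ¬ p ∣ y := fun y hy hy0 hd => by
    have := Nat.le_of_dvd hy0 hd
    omega
  have e6 : (x ^ 3 - 1) * (x ^ 3 + 1) + 2 = (x ^ 2 + 1) * (x ^ 4 - x ^ 2 + 1) := by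
    zify [h3, h42]; ring
  have e3 : (x ^ 3 - 1) + 2 = x ^ 3 + 1 := by omega
  have e4 : (x ^ 4 - x ^ 2 + 1) + 3 * x ^ 2 = (x ^ 2 + 1) * (x ^ 2 + 1) := by
    zify [h42]; ring
  rw [factor x hx] at h
  have hx2 : x ^ 2 * x ^ 2 = x ^ 4 := by ring
  have hx3 : x ^ 3 * x = x ^ 4 := by ring
  have hx4 : 4 ≤ x ^ 2 := by nlinarith
  have hx8 : 8 ≤ x ^ 3 := by
    calc 8 = 2 ^ 3 := by norm_num
      _ ≤ x ^ 3 := Nat.pow_le_pow_left hx 3
  rcases dvd_or hp h (fun h1 h2 => by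
    rw [← e6] at h2
    exact hno2 2 (by norm_num) (by norm_num) ((Nat.dvd_add_right h1).1 h2)) with h1 | h1
  · rcases dvd_or hp h1 (fun h1 h2 => by
      rw [← e3] at h2
      exact hno2 2 (by norm_num) (by norm_num) ((Nat.dvd_add_right h1).1 h2)) with h2 | h2
    · have := Nat.le_of_dvd (by omega) h2
      nlinarith
    · have := Nat.le_of_dvd (by omega) h2
      nlinarith
  · rcases dvd_or hp h1 (fun h1 h2 => by
      have h3 : p ∣ (x ^ 4 - x ^ 2 + 1) + 3 * x ^ 2 := by rw [e4]; exact h1.mul_right _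
      have h4 : p ∣ 3 * x ^ 2 := (Nat.dvd_add_right h2).1 h3
      rcases (hp.dvd_mul).1 h4 with h5 | h5
      · exact hno2 3 (by norm_num) (by norm_num) h5
      · have h6 : p ∣ 1 := (Nat.dvd_add_right h5).1 h1
        exact hno2 1 (by norm_num) (by norm_num) h6) with h2 | h2
    · have := Nat.le_of_dvd (by omega) h2
      nlinarith
    · have := Nat.le_of_dvd (by omega) h2
      omega

/-- For `p = 5` and `x² ≡ -1`: `5 ^ a ≤ x² + 1`. -/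
theorem le_two {a x : ℕ} (hx : 2 ≤ x) (hx5 : 5 ∣ x ^ 2 + 1) (h : 5 ^ a ∣ x ^ 12 - 1) : 5 ^ a ≤ x ^ 2 + 1 := by
  have hp : Nat.Prime 5 := by norm_num
  have h3 : 1 ≤ x ^ 3 := Nat.one_le_pow _ _ (by omega)
  have h42 : x ^ 2 ≤ x ^ 4 := Nat.pow_le_pow_right (by omega) (by norm_num)
  have e6 : (x ^ 3 - 1) * (x ^ 3 + 1) + 2 = (x ^ 2 + 1) * (x ^ 4 - x ^ 2 + 1) := by
    zify [h3, h42]; ring
  have e4 : (x ^ 4 - x ^ 2 + 1) + 3 * x ^ 2 = (x ^ 2 + 1) * (x ^ 2 + 1) := by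
    zify [h42]; ring
  rw [factor x hx] at h
  have hAB : ¬ 5 ∣ (x ^ 3 - 1) * (x ^ 3 + 1) := by
    intro h1
    have h2 : 5 ∣ (x ^ 3 - 1) * (x ^ 3 + 1) + 2 := by rw [e6]; exact hx5.mul_right _
    have := (Nat.dvd_add_right h1).1 h2
    omega
  have hD : ¬ 5 ∣ x ^ 4 - x ^ 2 + 1 := by
    intro h2
    have h3 : 5 ∣ (x ^ 4 - x ^ 2 + 1) + 3 * x ^ 2 := by rw [e4]; exact hx5.mul_right _
    have h4 : 5 ∣ 3 * x ^ 2 := (Nat.dvd_add_right h2).1 h3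
    omega
  have h1 := (Nat.Coprime.pow_left a ((hp.coprime_iff_not_dvd).2 hAB)).dvd_of_dvd_mul_left h
  have h2 := (Nat.Coprime.pow_left a ((hp.coprime_iff_not_dvd).2 hD)).dvd_of_dvd_mul_right h1
  exact Nat.le_of_dvd (by omega) h2

theorem five_dvd {n : ℕ} (hn : Odd n) : 5 ∣ (2 ^ n) ^ 2 + 1 := by
  obtain ⟨k, rfl⟩ := hn
  have h1 : (2 ^ (2 * k + 1)) ^ 2 + 1 = 4 * 16 ^ k + 1 := by
    rw [← pow_mul]
    have : (2 * k + 1) * 2 = 2 + 4 * k := by ring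
    rw [this, pow_add, pow_mul]; norm_num
  rw [h1]
  have h2 : 16 ^ k % 5 = 1 := by
    rw [Nat.pow_mod]; norm_num
  omega

theorem two_mul_le {n : ℕ} (hn : 1 ≤ n) : 2 * n ≤ 2 ^ n := by
  induction n, hn using Nat.le_induction with
  | base => norm_num
  | succ k hk ih => rw [pow_succ]; omega

theorem cube_le {p : ℕ} (hp : 7 ≤ p) : p ^ 3 ≤ (p - 1) * 2 ^ (2 * p - 8) := by
  induction p, hp using Nat.le_induction with
  | base => norm_num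
  | succ k hk ih =>
    have e : 2 * (k + 1) - 8 = (2 * k - 8) + 2 := by omega
    rw [e, pow_add]
    have h1 : (k + 1) ^ 3 ≤ 4 * k ^ 3 := by
      have : k + 1 ≤ 2 * k := by omega
      nlinarith [sq_nonneg k, Nat.zero_le k]
    calc (k + 1) ^ 3 ≤ 4 * k ^ 3 := h1
      _ ≤ 4 * ((k - 1) * 2 ^ (2 * k - 8)) := Nat.mul_le_mul_left _ ih
      _ ≤ 4 * (k * 2 ^ (2 * k - 8)) := Nat.mul_le_mul_left _ (Nat.mul_le_mul_right _ (by omega))
      _ = (k + 1 - 1) * (2 ^ (2 * k - 8) * 2 ^ 2) := by rw [Nat.add_sub_cancel]; ring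

/-- the final inequality -/
theorem final {p n a : ℕ} (hp : p.Prime) (h5 : 5 ≤ p) (hn : Odd n)
    (ha : p ^ a ∣ (2 ^ n) ^ 12 - 1) :
    (p * p ^ a) ^ 2 * (p * n) ≤ (p - 1) * ((2 ^ n) ^ p) ^ 2 := by
  have hn1 : 1 ≤ n := hn.pos
  have hx : 2 ≤ 2 ^ n := by
    calc 2 = 2 ^ 1 := by norm_num
      _ ≤ 2 ^ n := Nat.pow_le_pow_right (by norm_num) hn1
  have h2n := two_mul_le hn1
  have h5d := five_dvd hn
  obtain ⟨x, hxe⟩ : ∃ x, x = 2 ^ n := ⟨_, rfl⟩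
  rw [← hxe] at ha hx h2n h5d ⊢
  have hx5 : 32 ≤ x ^ 5 := by
    calc 32 = 2 ^ 5 := by norm_num
      _ ≤ x ^ 5 := Nat.pow_le_pow_left hx 5
  by_cases hp5 : p = 5
  · subst hp5
    have h1 := le_two hx h5d ha
    have hx4 : 4 ≤ x ^ 2 := by nlinarith
    have h2 : 4 * 5 ^ a ≤ 5 * x ^ 2 := by omega
    have h3 : 16 * (5 ^ a) ^ 2 ≤ 25 * x ^ 4 := by
      calc 16 * (5 ^ a) ^ 2 = (4 * 5 ^ a) ^ 2 := by ring
        _ ≤ (5 * x ^ 2) ^ 2 := Nat.pow_le_pow_left h2 2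
        _ = 25 * x ^ 4 := by ring
    have h4 : 32 * ((5 * 5 ^ a) ^ 2 * (5 * n)) ≤ 32 * ((5 - 1) * (x ^ 5) ^ 2) := by
      calc 32 * ((5 * 5 ^ a) ^ 2 * (5 * n)) = 125 * (16 * (5 ^ a) ^ 2) * (2 * n) := by ring
        _ ≤ 125 * (25 * x ^ 4) * x := Nat.mul_le_mul (Nat.mul_le_mul_left _ h3) h2n
        _ = 3125 * x ^ 5 := by ring
        _ ≤ 4096 * x ^ 5 := Nat.mul_le_mul_right _ (by norm_num)
        _ = 128 * (32 * x ^ 5) := by ring
        _ ≤ 128 * (x ^ 5 * x ^ 5) := Nat.mul_le_mul_left _ (Nat.mul_le_mul_right _ hx5)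
        _ = 32 * ((5 - 1) * (x ^ 5) ^ 2) := by ring
    exact Nat.le_of_mul_le_mul_left h4 (by norm_num)
  · have h7 : 7 ≤ p := by
      by_contra h
      have : p = 6 := by omega
      subst this
      norm_num at hp
    have h1 := le_four hp h5 hx ha
    have h2 := cube_le h7
    have h3 : 2 * ((p * p ^ a) ^ 2 * (p * n)) ≤ 2 * ((p - 1) * (x ^ p) ^ 2) := by
      calc 2 * ((p * p ^ a) ^ 2 * (p * n)) = p ^ 3 * (p ^ a) ^ 2 * (2 * n) := by ring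
        _ ≤ p ^ 3 * (x ^ 4) ^ 2 * x := Nat.mul_le_mul (Nat.mul_le_mul_left _ (Nat.pow_le_pow_left h1 2)) h2n
        _ = p ^ 3 * x ^ 9 := by ring
        _ ≤ ((p - 1) * 2 ^ (2 * p - 8)) * x ^ 9 := Nat.mul_le_mul_right _ h2
        _ = 2 * ((p - 1) * (2 ^ (2 * p - 9) * x ^ 9)) := by
            have : 2 * p - 8 = (2 * p - 9) + 1 := by omega
            rw [this, pow_succ]; ring
        _ ≤ 2 * ((p - 1) * (x ^ (2 * p - 9) * x ^ 9)) := by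
            gcongr
        _ = 2 * ((p - 1) * (x ^ p) ^ 2) := by
            rw [← pow_add, ← pow_mul]
            congr 3
            omega
    exact Nat.le_of_mul_le_mul_left h3 (by norm_num)


/-- the `p`-part of `q¹² - 1`, `q = x ^ p` -/
theorem pow_val {p x : ℕ} [hp : Fact p.Prime] (h5 : 5 ≤ p) (hx : 2 ≤ x) :
    ∃ a, p ^ a ∣ x ^ 12 - 1 ∧ p ^ padicValNat p ((x ^ p) ^ 12 - 1) ≤ p * p ^ a := by
  have hodd : Odd p := hp.out.odd_of_ne_two (by omega)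
  have h12 : 1 < x ^ 12 := Nat.one_lt_pow (by norm_num) (by omega)
  refine ⟨padicValNat p (x ^ 12 - 1), pow_padicValNat_dvd, ?_⟩
  have e : (x ^ p) ^ 12 - 1 = (x ^ 12) ^ p - 1 ^ p := by
    rw [← pow_mul, ← pow_mul, mul_comm, one_pow]
  by_cases h : p ∣ x ^ 12 - 1
  · have hnx : ¬ p ∣ x ^ 12 := by
      intro h1
      have h2 : p ∣ (x ^ 12 - 1) + 1 := by
        rw [Nat.sub_add_cancel h12.le]; exact h1
      have h3 : p ∣ 1 := (Nat.dvd_add_right h).1 h2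
      have := Nat.le_of_dvd (by norm_num) h3
      omega
    rw [e, padicValNat.pow_sub_pow hodd h12 h hnx hp.out.ne_zero, padicValNat_self, pow_succ, mul_comm]
  · have h1 : ¬ p ∣ (x ^ p) ^ 12 - 1 := by
      intro h2
      apply h
      have hle1 : 1 ≤ (x ^ p) ^ 12 := Nat.one_le_pow _ _ (Nat.pow_pos (by omega))
      have h3 : ((1 : ℕ) : ZMod p) = (((x ^ p) ^ 12 : ℕ) : ZMod p) := by
        rw [ZMod.natCast_eq_natCast_iff]
        exact (Nat.modEq_iff_dvd' hle1).2 h2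
      have h4 : (((x ^ p) ^ 12 : ℕ) : ZMod p) = ((x ^ 12 : ℕ) : ZMod p) := by
        push_cast
        rw [ZMod.pow_card]
      rw [h4, ZMod.natCast_eq_natCast_iff] at h3
      exact (Nat.modEq_iff_dvd' h12.le).1 h3
    rw [padicValNat.eq_zero_of_not_dvd h1, pow_zero]
    exact Nat.one_le_iff_ne_zero.2 (by have := hp.out.pos; positivity)

/-- **The order of a `p`-subgroup of `Aut(²F₄(q))`, `p ∣ 2m+1`.** -/
theorem card_le {p m k : ℕ} [hp : Fact p.Prime] (h5 : 5 ≤ p) (hpm : p ∣ 2 * m + 1) {q : ℕ}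
    (hq : q = 2 ^ (2 * m + 1))
    (h : p ^ k ∣ (q ^ 12 * (q - 1) * (q ^ 3 + 1) * (q ^ 4 - 1) * (q ^ 6 + 1)) * (2 * m + 1)) :
    p ^ k ≤ (p - 1) * q ^ 2 := by
  obtain ⟨n, hn⟩ := hpm
  have hnodd : Odd n := by
    rcases Nat.even_or_odd n with h1 | h1
    · exfalso
      have : Even (2 * m + 1) := by rw [hn]; exact h1.mul_left p
      rw [Nat.even_iff] at this
      omega
    · exact h1
  have hn1 : 1 ≤ n := hnodd.pos
  have hx : 2 ≤ 2 ^ n := by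
    calc 2 = 2 ^ 1 := by norm_num
      _ ≤ 2 ^ n := Nat.pow_le_pow_right (by norm_num) hn1
  have hqx : q = (2 ^ n) ^ p := by rw [hq, hn, mul_comm, pow_mul]
  obtain ⟨a, ha, hle⟩ := pow_val (p := p) h5 hx
  rw [← hqx] at hle
  have hfin := final hp.out h5 hnodd ha
  rw [← hqx] at hfin
  have hq2 : 2 ≤ q := by
    rw [hq]
    calc 2 = 2 ^ 1 := by norm_num
      _ ≤ 2 ^ (2 * m + 1) := Nat.pow_le_pow_right (by norm_num) (by omega)
  -- the order divides `q ^ 12 * (q ^ 12 - 1) ^ 2`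
  have h1 : 1 ≤ q ^ 3 := Nat.one_le_pow _ _ (by omega)
  have h4 : 1 ≤ q ^ 4 := Nat.one_le_pow _ _ (by omega)
  have h12 : 1 < q ^ 12 := Nat.one_lt_pow (by norm_num) (by omega)
  have d1 : (q - 1) * (q ^ 3 + 1) * (q ^ 6 + 1) ∣ q ^ 12 - 1 := by
    have e : q ^ 12 - 1 = (q ^ 3 - 1) * (q ^ 3 + 1) * (q ^ 6 + 1) := by
      zify [h1, h12.le]; ring
    rw [e]
    exact Nat.mul_dvd_mul (Nat.mul_dvd_mul (by simpa using Nat.sub_dvd_pow_sub_pow q 1 3) dvd_rfl) dvd_rfl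
  have d2 : q ^ 4 - 1 ∣ q ^ 12 - 1 := by
    have := Nat.sub_dvd_pow_sub_pow (q ^ 4) 1 3
    rwa [one_pow, ← pow_mul] at this
  have hpq : Nat.Coprime (p ^ k) (q ^ 12) := by
    apply Nat.Coprime.pow
    rw [hq]
    apply Nat.Coprime.pow_right
    exact (Nat.coprime_primes hp.out Nat.prime_two).2 (by omega)
  have h2 : p ^ k ∣ (q ^ 12 - 1) ^ 2 * (2 * m + 1) := by
    have h3 : p ^ k ∣ q ^ 12 * ((q ^ 12 - 1) ^ 2 * (2 * m + 1)) := by
      refine h.trans ?_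
      have e : (q ^ 12 * (q - 1) * (q ^ 3 + 1) * (q ^ 4 - 1) * (q ^ 6 + 1)) * (2 * m + 1) =
          q ^ 12 * ((((q - 1) * (q ^ 3 + 1) * (q ^ 6 + 1)) * (q ^ 4 - 1)) * (2 * m + 1)) := by ring
      rw [e, sq]
      exact Nat.mul_dvd_mul dvd_rfl (Nat.mul_dvd_mul (Nat.mul_dvd_mul d1 d2) dvd_rfl)
    exact hpq.dvd_of_dvd_mul_left h3
  have hne : q ^ 12 - 1 ≠ 0 := by omega
  have hk : k ≤ padicValNat p ((q ^ 12 - 1) ^ 2 * (2 * m + 1)) :=
    (padicValNat_dvd_iff_le (mul_ne_zero (pow_ne_zero _ hne) (by omega))).1 h2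
  rw [padicValNat.mul (pow_ne_zero _ hne) (by omega), padicValNat.pow] at hk
  have h6 : p ^ padicValNat p (2 * m + 1) ≤ p * n := by
    rw [← hn]
    exact Nat.le_of_dvd (by omega) pow_padicValNat_dvd
  calc p ^ k ≤ p ^ (2 * padicValNat p (q ^ 12 - 1) + padicValNat p (2 * m + 1)) :=
        Nat.pow_le_pow_right hp.out.pos hk
    _ = (p ^ padicValNat p (q ^ 12 - 1)) ^ 2 * p ^ padicValNat p (2 * m + 1) := by
        rw [pow_add, ← pow_mul, mul_comm 2]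
    _ ≤ (p * p ^ a) ^ 2 * (p * n) := Nat.mul_le_mul (Nat.pow_le_pow_left hle 2) h6
    _ ≤ (p - 1) * q ^ 2 := hfin

end Cfsg.Agent.H743.TwF4Arith
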