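/-
helper743: every proper subgroup of `²F₄(q)` has index at least `q⁴` (used for S5762).
-/
import Mathlib
import Cfsg.Agent.H743.LSIndex
import Cfsg.Agent.PreUniq.LowExc.TwF4Torus

set_option autoImplicit false
set_option linter.unusedSectionVars false

namespace Cfsg.Agent.H743.TwF4Index

open Cfsg.Agent.SplitTwo Cfsg.Agent.SplitTwo.ZS Cfsg.Agent.TitsThree.RankTwoZ Cfsg.Agent.KFacts.TwF4
open Cfsg.Agent.KFacts.TwF4.Arc Cfsg.Agent.KFacts.TwF4.Irr Cfsg.Agent.KFacts.TwF4.Layers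
open Cfsg.Agent.KFacts.TwF4.Perf Cfsg.Agent.KFacts.TwF4.Inv Cfsg.Agent.KFacts.TwF4.SylU
open Cfsg.Agent.PreUniq.LowExc.TwF4

universe u

variable {F : Type*} [Field F] {σ : F →+* F} {G : Type u} [Group G] (S : Full σ G)

/-- the commutator -/
def cm (g v : G) : G := g * v * g⁻¹ * v⁻¹

theorem cm_of {g v z : G} (h : g * v = v * g * z) (hz : ∀ x ∈ ({g, v} : Set G), x * z = z * x) : cm g v = z := by
  unfold cm
  have h1 := hz g (by simp)
  have h2 := hz v (by simp)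
  rw [h]
  calc v * g * z * g⁻¹ * v⁻¹ = v * (g * z) * g⁻¹ * v⁻¹ := by group
    _ = v * (z * g) * g⁻¹ * v⁻¹ := by rw [h1]
    _ = (v * z) * v⁻¹ := by group
    _ = z := by rw [h2]; group

theorem cm_one {g v : G} (h : g * v = v * g) : cm g v = 1 := by
  unfold cm; rw [h]; group

theorem cm_mul {g v w : G} (h : v * cm g w = cm g w * v) : cm g (v * w) = cm g v * cm g w := by
  have e : cm g (v * w) = g * v * g⁻¹ * (cm g w) * v⁻¹ := by unfold cm; group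
  rw [e]
  have : g * v * g⁻¹ * cm g w * v⁻¹ = cm g v * (v * cm g w) * v⁻¹ := by unfold cm; group
  rw [this, h]; group

theorem cm_mul_left {g h v : G} (hz : g * cm h v = cm h v * g) : cm (g * h) v = cm h v * cm g v := by
  have e : cm (g * h) v = g * cm h v * (v * g⁻¹ * v⁻¹) := by unfold cm; group
  rw [e, hz]; unfold cm; group

/-- the subgroup of `P = C(Z_4)` centralising `Q2 / Z_4` -/
def UU : Subgroup G where
  carrier := {g | g ∈ S.PL ∧ ∀ v ∈ S.Q2, cm g v ∈ S.Zc 2}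
  one_mem' := ⟨one_mem _, fun v _ => by
    have : cm 1 v = 1 := by unfold cm; group
    rw [this]; exact one_mem _⟩
  mul_mem' := by
    rintro g h ⟨hg, hg'⟩ ⟨hh, hh'⟩
    refine ⟨mul_mem hg hh, fun v hv => ?_⟩
    rw [cm_mul_left (S.comm_PL hg (hh' v hv))]
    exact mul_mem (hh' v hv) (hg' v hv)
  inv_mem' := by
    rintro g ⟨hg, hg'⟩
    refine ⟨inv_mem hg, fun v hv => ?_⟩
    have h1 := S.comm_PL hg (hg' v hv)
    have h2 : cm g⁻¹ v = (cm g v)⁻¹ := by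
      have h3 : cm g⁻¹ v = g⁻¹ * (cm g v)⁻¹ * g := by unfold cm; group
      rw [h3]
      calc g⁻¹ * (cm g v)⁻¹ * g = (g⁻¹ * cm g v * g)⁻¹ := by group
        _ = (g⁻¹ * (g * cm g v))⁻¹ := by rw [mul_assoc, h1]
        _ = _ := by group
    rw [h2]
    exact inv_mem (hg' v hv)

/-- `Q2` lies in `P` -/
theorem Q2_le_PL : S.Q2 ≤ S.PL := (Q2_le_Q S).trans (J_mono (by norm_num) (by norm_num))

/-- value on `Q2` of a commutator given by its values on the five pieces -/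
theorem cm_q2 {g : G} {a b c d f : F → F} (h1 : ∀ x, cm g (S.e 1 0 x) = S.e 2 0 (a x))
    (h2 : ∀ x, cm g (S.o 1 x) = S.e 2 0 (b x)) (h3 : ∀ x, cm g (S.e 2 0 x) = S.e 2 0 (c x))
    (h4 : ∀ x, cm g (S.o 2 x) = S.e 2 0 (d x)) (h5 : ∀ x, cm g (S.e 3 0 x) = S.e 2 0 (f x)) (u s z t w : F) :
    cm g (q2 S u s z t w) = S.e 2 0 (a u + b s + c z + d t + f w) := by
  have hcz : ∀ v ∈ S.Q2, ∀ x, v * S.e 2 0 x = S.e 2 0 x * v := fun v hv x =>
    S.comm_PL (Q2_le_PL S hv) (S.mem_Zc.2 ⟨x, rfl⟩)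
  unfold q2
  rw [cm_mul (by rw [h5]; exact hcz _ (mul_mem (mul_mem (mul_mem (S.q2_1 _) (S.q2_2 _)) (S.q2_3 _)) (S.q2_4 _)) _),
    cm_mul (by rw [h4]; exact hcz _ (mul_mem (mul_mem (S.q2_1 _) (S.q2_2 _)) (S.q2_3 _)) _),
    cm_mul (by rw [h3]; exact hcz _ (mul_mem (S.q2_1 _) (S.q2_2 _)) _),
    cm_mul (by rw [h2]; exact hcz _ (S.q2_1 _) _), h1, h2, h3, h4, h5, z_add, z_add, z_add, z_add]

theorem mem_UU {g : G} (hg : g ∈ S.PL) {a b c d f : F → F} (h1 : ∀ x, cm g (S.e 1 0 x) = S.e 2 0 (a x))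
    (h2 : ∀ x, cm g (S.o 1 x) = S.e 2 0 (b x)) (h3 : ∀ x, cm g (S.e 2 0 x) = S.e 2 0 (c x))
    (h4 : ∀ x, cm g (S.o 2 x) = S.e 2 0 (d x)) (h5 : ∀ x, cm g (S.e 3 0 x) = S.e 2 0 (f x)) : g ∈ UU S := by
  refine ⟨hg, fun v hv => ?_⟩
  obtain ⟨u, s, z, t, w, rfl⟩ := (mem_Q2 S).1 hv
  rw [cm_q2 S h1 h2 h3 h4 h5]
  exact S.mem_Zc.2 ⟨_, rfl⟩


theorem mZ (x : F) : S.e 2 0 x ∈ S.Zc 2 := S.mem_Zc.2 ⟨x, rfl⟩

theorem o0_PL (x : F) : S.o 0 x ∈ S.PL := mem_J ((mem_X1 S).2 ⟨x, rfl⟩) (by norm_num) (by norm_num)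
theorem e1_PL (p u : F) : S.e 1 p u ∈ S.PL := mem_J ((mem_X2 S).2 ⟨p, u, rfl⟩) (by norm_num) (by norm_num)
theorem o1_PL (x : F) : S.o 1 x ∈ S.PL := mem_J ((mem_X3 S).2 ⟨x, rfl⟩) (by norm_num) (by norm_num)
theorem o2_PL (x : F) : S.o 2 x ∈ S.PL := mem_J ((mem_X5 S).2 ⟨x, rfl⟩) (by norm_num) (by norm_num)
theorem e3_PL (p u : F) : S.e 3 p u ∈ S.PL := mem_J ((mem_X6 S).2 ⟨p, u, rfl⟩) (by norm_num) (by norm_num)
theorem o3_PL (x : F) : S.o 3 x ∈ S.PL := mem_J ((mem_X7 S).2 ⟨x, rfl⟩) (by norm_num) (by norm_num)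

theorem cm_Z {g : G} (hg : g ∈ S.PL) (x : F) : cm g (S.e 2 0 x) = S.e 2 0 0 := by
  rw [S.e_zero]; exact cm_one (S.comm_PL hg (mZ S x))

theorem cm_ofZ {g v : G} {x : F} (hg : g ∈ S.PL) (hv : v ∈ S.PL) (h : g * v = v * g * S.e 2 0 x) :
    cm g v = S.e 2 0 x :=
  cm_of h (by
    rintro y (rfl | rfl)
    · exact S.comm_PL hg (mZ S x)
    · exact S.comm_PL hv (mZ S x))

theorem cm_one' {g v : G} (h : g * v = v * g) : cm g v = S.e 2 0 0 := by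
  rw [S.e_zero]; exact cm_one h

/-- `X_1` -/
theorem cm_o0 (x u s z t w : F) : cm (S.o 0 x) (q2 S u s z t w) = S.e 2 0 (x * w) := by
  have h := cm_q2 S (g := S.o 0 x) (a := fun _ => 0) (b := fun _ => 0) (c := fun _ => 0) (d := fun _ => 0)
    (f := fun w => x * w)
    (fun y => cm_one' S (S.o_e1 0 x 0 y)) (fun y => cm_one' S (S.o_o1 0 x y)) (cm_Z S (o0_PL S x))
    (fun y => cm_one' S (S.o_o2 0 x y))
    (fun y => cm_ofZ S (o0_PL S x) (e3_PL S 0 y) (by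
      have h := S.o_e3 0 x 0 y
      simp only [map_zero, mul_zero, zero_add, S.o_zero, S.e_zero, mul_one] at h
      exact h)) u s z t w
  simpa using h

/-- `X_7` -/
theorem cm_o3 (x u s z t w : F) : cm (S.o 3 x) (q2 S u s z t w) = S.e 2 0 (u * x) := by
  have h := cm_q2 S (g := S.o 3 x) (a := fun u => u * x) (b := fun _ => 0) (c := fun _ => 0) (d := fun _ => 0)
    (f := fun w => 0)
    (fun y => cm_ofZ S (o3_PL S x) (e1_PL S 0 y) (by
      have h := S.e_o2 1 0 y x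
      simp only [map_zero, zero_mul, zero_add, S.o_zero, S.e_zero, mul_one] at h
      have h' : S.e 1 0 y * S.o 3 x = S.o 3 x * S.e 1 0 y * S.e 2 0 (y * x) := h
      have h2 : S.e 2 0 (y * x) * S.e 2 0 (y * x) = 1 := by rw [z_add, char2 S, S.e_zero]
      have h3 := S.comm_PL (mul_mem (e1_PL S 0 y) (o3_PL S x)) (mZ S (y * x))
      rw [h', mul_assoc _ _ (S.e 2 0 (y * x)), h2, mul_one]))
    (fun y => cm_one' S (S.o_o2 1 y x).symm) (cm_Z S (o3_PL S x))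
    (fun y => cm_one' S (S.o_o1 2 y x).symm)
    (fun y => cm_one' S (S.e_o0 3 0 y x).symm) u s z t w
  simpa using h

/-- `X_2` -/
theorem cm_e1 (p u s z t w : F) : cm (S.e 1 p 0) (q2 S u s z t w) = S.e 2 0 (p * t) := by
  have h := cm_q2 S (g := S.e 1 p 0) (a := fun u => 0) (b := fun _ => 0) (c := fun _ => 0) (d := fun t => p * t)
    (f := fun w => 0)
    (fun y => cm_one' S (by rw [S.e_mul, S.e_mul]; simp))
    (fun y => cm_one' S (S.e_o0 1 p 0 y)) (cm_Z S (e1_PL S p 0))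
    (fun y => cm_ofZ S (e1_PL S p 0) (o2_PL S y) (S.e_o1 1 p 0 y))
    (fun y => cm_one' S (S.e_e2 1 p 0 0 y)) u s z t w
  simpa using h

/-- `X_6` -/
theorem cm_e3 (p u s z t w : F) : cm (S.e 3 p 0) (q2 S u s z t w) = S.e 2 0 (s * p) := by
  have h := cm_q2 S (g := S.e 3 p 0) (a := fun u => 0) (b := fun s => s * p) (c := fun _ => 0) (d := fun t => 0)
    (f := fun w => 0)
    (fun y => cm_one' S (S.e_e2 1 0 y p 0).symm)
    (fun y => cm_ofZ S (e3_PL S p 0) (o1_PL S y) (by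
      have h' : S.o 1 y * S.e 3 p 0 = S.e 3 p 0 * S.o 1 y * S.e 2 0 (y * p) := S.o_e2 1 y p 0
      have h2 : S.e 2 0 (y * p) * S.e 2 0 (y * p) = 1 := by rw [z_add, char2 S, S.e_zero]
      rw [h', mul_assoc _ _ (S.e 2 0 (y * p)), h2, mul_one]))
    (cm_Z S (e3_PL S p 0))
    (fun y => cm_one' S (S.o_e1 2 y p 0).symm)
    (fun y => cm_one' S (by rw [S.e_mul, S.e_mul]; simp)) u s z t w
  simpa using h

theorem mem_UU' {g : G} (hg : g ∈ S.PL) (h : ∀ u s z t w, ∃ x, cm g (q2 S u s z t w) = S.e 2 0 x) : g ∈ UU S := by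
  refine ⟨hg, fun v hv => ?_⟩
  obtain ⟨u, s, z, t, w, rfl⟩ := (mem_Q2 S).1 hv
  obtain ⟨x, hx⟩ := h u s z t w
  rw [hx]
  exact S.mem_Zc.2 ⟨_, rfl⟩

/-- `[UU, v] = Z_4` for `v` in `Q2` outside `Z_4`. -/
theorem special {v : G} (hv : v ∈ S.Q2) (hvZ : v ∉ S.Zc 2) {z : G} (hz : z ∈ S.Zc 2) :
    ∃ g ∈ UU S, cm g v = z := by
  obtain ⟨u, s, z', t, w, rfl⟩ := (mem_Q2 S).1 hv
  obtain ⟨y, rfl⟩ := S.mem_Zc.1 hz
  by_cases hw : w = 0
  · by_cases hu : u = 0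
    · by_cases ht : t = 0
      · by_cases hs : s = 0
        · exfalso
          apply hvZ
          subst hw hu ht hs
          rw [S.mem_Zc]
          refine ⟨z', ?_⟩
          unfold q2
          simp only [S.e_zero, S.o_zero, mul_one, one_mul]
        · refine ⟨S.e 3 (s⁻¹ * y) 0, mem_UU' S (e3_PL S _ _) (fun u s z t w => ⟨_, cm_e3 S _ _ _ _ _ _⟩), ?_⟩
          rw [cm_e3, mul_inv_cancel_left₀ hs]
      · refine ⟨S.e 1 (y * t⁻¹) 0, mem_UU' S (e1_PL S _ _) (fun u s z t w => ⟨_, cm_e1 S _ _ _ _ _ _⟩), ?_⟩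
        rw [cm_e1, inv_mul_cancel_right₀ ht]
    · refine ⟨S.o 3 (u⁻¹ * y), mem_UU' S (o3_PL S _) (fun u s z t w => ⟨_, cm_o3 S _ _ _ _ _ _⟩), ?_⟩
      rw [cm_o3, mul_inv_cancel_left₀ hu]
  · refine ⟨S.o 0 (y * w⁻¹), mem_UU' S (o0_PL S _) (fun u s z t w => ⟨_, cm_o0 S _ _ _ _ _ _⟩), ?_⟩
    rw [cm_o0, inv_mul_cancel_right₀ hw]

/-- `Q2 ≤ UU` -/
theorem Q2_le_UU : S.Q2 ≤ UU S := fun g hg =>
  ⟨Q2_le_PL S hg, fun v hv => by rw [cm_one (Q2_comm S hg hv)]; exact one_mem _⟩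

include S in
/-- **Indices in a simple group of type `²F₄`.** -/
theorem card_pow_le_index [Finite F] [Finite G] [IsSimpleGroup G] (H : Subgroup G) (hH : H ≠ ⊤) :
    Nat.card F ^ 4 ≤ H.index := by
  have hne : S.Zc 2 ≠ ⊥ := by
    intro h
    have h1 : S.e 2 0 1 ∈ S.Zc 2 := mZ S 1
    rw [h, Subgroup.mem_bot] at h1
    exact one_ne_zero (S.e_eq_one h1).2
  have hle : S.Zc 2 ≤ S.Q2 := by
    intro x hx
    obtain ⟨y, rfl⟩ := S.mem_Zc.1 hx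
    exact S.q2_3 y
  have h := LSIndex.card_le_index (UU S) S.Q2 (S.Zc 2) hle (Q2_le_UU S) (fun a ha b hb => Q2_comm S ha hb) hne
    (fun z hz g hg => S.comm_PL hg.1 hz) (fun g hg v hv => hg.2 v hv)
    (fun v hv hvZ z hz => special S hv hvZ hz) H hH
  have h1 : Nat.card F ^ 5 ≤ Nat.card S.Q2 := by
    have h2 : Nat.card (F × F × F × F × F) ≤ Nat.card S.Q2 := by
      refine Nat.card_le_card_of_injective
        (fun x => (⟨q2 S x.1 x.2.1 x.2.2.1 x.2.2.2.1 x.2.2.2.2, (mem_Q2 S).2 ⟨_, _, _, _, _, rfl⟩⟩ : S.Q2)) ?_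
      rintro ⟨a, b, c, d, e⟩ ⟨a', b', c', d', e'⟩ hh
      obtain ⟨h1, h2, h3, h4, h5⟩ := q2_inj S (congrArg Subtype.val hh)
      simp only at h1 h2 h3 h4 h5
      subst h1 h2 h3 h4 h5
      rfl
    simp only [Nat.card_prod] at h2
    calc Nat.card F ^ 5 = Nat.card F * (Nat.card F * (Nat.card F * (Nat.card F * Nat.card F))) := by ring
      _ ≤ _ := h2
  have h2 : Nat.card (S.Zc 2) ≤ Nat.card F := by
    refine Nat.card_le_card_of_surjective (fun x : F => (⟨S.e 2 0 x, mZ S x⟩ : S.Zc 2)) ?_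
    rintro ⟨x, hx⟩
    obtain ⟨y, rfl⟩ := S.mem_Zc.1 hx
    exact ⟨y, rfl⟩
  have h3 : 0 < Nat.card F := Nat.card_pos
  have h4 : Nat.card F * Nat.card F ^ 4 ≤ Nat.card F * H.index := by
    calc Nat.card F * Nat.card F ^ 4 = Nat.card F ^ 5 := by ring
      _ ≤ Nat.card (S.Zc 2) * H.index := h1.trans h
      _ ≤ _ := Nat.mul_le_mul_right _ h2
  exact Nat.le_of_mul_le_mul_left h4 h3

end Cfsg.Agent.H743.TwF4Index
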