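/-
helper743: `Meet p T` for the large Ree groups (used for S5762).
-/
import Mathlib
import Cfsg.Agent.H903.SylMeet
import Cfsg.Agent.H743.TwF4Index
import Cfsg.Agent.H743.TwF4Arith
import Cfsg.Agent.H790.ExcAbTw
import Cfsg.Agent.S1068
import Cfsg.Agent.S2128

set_option autoImplicit false

namespace Cfsg.Agent.H743.MeetTwF4

open Cfsg Cfsg.Lie Cfsg.Agent.H903.SylMeet

/-- **Large Ree groups.** -/
theorem meet_2F4 {G : Type*} [Group G] [Finite G] [IsSimpleGroup G] (h : Cfsg.Lie.Iso2F4 G)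
    {p : ℕ} [Fact p.Prime] (hp : 5 ≤ p) : Meet p G := by
  obtain ⟨K, _, _, m, hm, hK, ⟨e⟩⟩ := h
  have hs : IsSimpleGroup ↥(twistedF4 K (2 ^ m)) := e.isSimpleGroup_congr.1 inferInstance
  have hfin : Finite ↥(twistedF4 K (2 ^ m)) := Finite.of_equiv G e.toEquiv
  have hpp := (Fact.out : p.Prime)
  refine Meet.congr e.symm ?_
  have hcard := S1068.result hK
  obtain ⟨q, hq⟩ : ∃ q, q = 2 ^ (2 * m + 1) := ⟨_, rfl⟩
  have h8 : 8 ≤ q := by
    rw [hq]
    calc 8 = 2 ^ 3 := by norm_num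
      _ ≤ 2 ^ (2 * m + 1) := Nat.pow_le_pow_right (by norm_num) (by omega)
  rw [← hq] at hcard
  have hT : ¬ IsMulCommutative ↥(twistedF4 K (2 ^ m)) := by
    intro hc
    let _ : CommGroup ↥(twistedF4 K (2 ^ m)) :=
      { (inferInstance : Group ↥(twistedF4 K (2 ^ m))) with mul_comm := hc.is_comm.comm }
    have h1 := IsSimpleGroup.prime_card (α := ↥(twistedF4 K (2 ^ m)))
    rw [hcard] at h1
    have h2 : 1 < q ^ 12 * (q - 1) * (q ^ 3 + 1) * (q ^ 4 - 1) := by
      have e1 : 1 ≤ q ^ 12 := Nat.one_le_pow _ _ (by omega)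
      have e2 : 1 ≤ q - 1 := by omega
      have e3 : 1 < q ^ 3 + 1 := by
        have : 1 ≤ q ^ 3 := Nat.one_le_pow _ _ (by omega)
        omega
      have e4 : 1 ≤ q ^ 4 - 1 := by
        have : 1 < q ^ 4 := Nat.one_lt_pow (by norm_num) (by omega)
        omega
      calc 1 < q ^ 3 + 1 := e3
        _ = 1 * 1 * (q ^ 3 + 1) * 1 := by ring
        _ ≤ _ := by gcongr
    have h3 : 1 < q ^ 6 + 1 := by
      have : 1 ≤ q ^ 6 := Nat.one_le_pow _ _ (by omega)
      omega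
    exact Nat.not_prime_mul h2.ne' h3.ne' h1
  have hout : (MulAut.conj : ↥(twistedF4 K (2 ^ m)) →* MulAut ↥(twistedF4 K (2 ^ m))).range.index = 2 * m + 1 :=
    S2128.result hm hK
  have hpq : ¬ p ∣ q := by
    rw [hq]
    intro h1
    have := (Nat.prime_dvd_prime_iff_eq hpp Nat.prime_two).1 (hpp.dvd_of_dvd_pow h1)
    omega
  obtain ⟨P⟩ : Nonempty (Sylow p (MulAut ↥(twistedF4 K (2 ^ m)))) := inferInstance
  by_cases hpm : p ∣ 2 * m + 1
  · have : CharP K 2 := Cfsg.Agent.ChevalleyStructure.TwF4.Twisted.charP_two hK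
    obtain ⟨φ, hφ⟩ := Cfsg.Agent.ChevalleyStructure.TwF4.TwistedFix.exists_rln hK
    have hidx : ∀ H : Subgroup ↥(twistedF4 K (2 ^ m)), H ≠ ⊤ → q ^ 4 ≤ H.index := by
      intro H hH
      have := TwF4Index.card_pow_le_index (KFacts.TwF4.Inst.full hK hφ) H hH
      rwa [Nat.card_eq_fintype_card, hK, ← hq] at this
    refine meet_of_card_lt hT hidx P ?_
    obtain ⟨k, hk⟩ := P.isPGroup'.exists_card_eq
    have h1 : p ^ k ∣ Nat.card (MulAut ↥(twistedF4 K (2 ^ m))) := by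
      rw [← hk]; exact Subgroup.card_subgroup_dvd_card _
    rw [← (MulAut.conj : ↥(twistedF4 K (2 ^ m)) →* MulAut ↥(twistedF4 K (2 ^ m))).range.card_mul_index,
      ← Nat.card_congr (MonoidHom.ofInjective (conj_injective hT)).toEquiv, hout, hcard] at h1
    have h2 := TwF4Arith.card_le hp hpm hq h1
    have h3 : 1 ≤ p ^ k := Nat.one_le_pow _ _ hpp.pos
    have h4 : (Nat.card P - 1) < (p - 1) * q ^ 2 := by
      have h5 : Nat.card P = p ^ k := hk
      omega
    calc (Nat.card P - 1) ^ 2 < ((p - 1) * q ^ 2) ^ 2 := Nat.pow_lt_pow_left h4 (by norm_num)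
      _ = (p - 1) ^ 2 * q ^ 4 := by ring
  · -- `P` consists of inner automorphisms
    have hn : (MulAut.conj : ↥(twistedF4 K (2 ^ m)) →* MulAut ↥(twistedF4 K (2 ^ m))).range.Normal := ⟨by
      rintro _ ⟨t, rfl⟩ g
      exact ⟨g t, (conj_apply_aut g t).symm⟩⟩
    have hin : ∀ a ∈ P, ∃ t : ↥(twistedF4 K (2 ^ m)), MulAut.conj t = a := by
      intro a ha
      obtain ⟨k, hk⟩ := P.isPGroup' ⟨a, ha⟩
      have hk' : a ^ p ^ k = 1 := by simpa using congrArg Subtype.val hk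
      have h1 : ((a : MulAut ↥(twistedF4 K (2 ^ m))) :
          MulAut ↥(twistedF4 K (2 ^ m)) ⧸ (MulAut.conj : ↥(twistedF4 K (2 ^ m)) →*
            MulAut ↥(twistedF4 K (2 ^ m))).range) = 1 := by
        have h2 : orderOf ((a : MulAut ↥(twistedF4 K (2 ^ m))) :
          MulAut ↥(twistedF4 K (2 ^ m)) ⧸ (MulAut.conj : ↥(twistedF4 K (2 ^ m)) →*
            MulAut ↥(twistedF4 K (2 ^ m))).range) ∣ p ^ k := by
          apply orderOf_dvd_of_pow_eq_one
          rw [← QuotientGroup.mk_pow, hk']; rfl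
        have h3 : orderOf ((a : MulAut ↥(twistedF4 K (2 ^ m))) :
          MulAut ↥(twistedF4 K (2 ^ m)) ⧸ (MulAut.conj : ↥(twistedF4 K (2 ^ m)) →*
            MulAut ↥(twistedF4 K (2 ^ m))).range) ∣ 2 * m + 1 := by
          rw [← hout]; exact orderOf_dvd_natCard _
        have h4 : Nat.Coprime (p ^ k) (2 * m + 1) :=
          Nat.Coprime.pow_left _ ((hpp.coprime_iff_not_dvd).2 hpm)
        exact orderOf_eq_one_iff.1 (Nat.eq_one_of_dvd_coprimes h4 h2 h3)
      exact (QuotientGroup.eq_one_iff a).1 h1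
    have hab := H790.ExcAb.tw2F4 (K := K) (e := 2 ^ m) (q := q) (by rw [hK, hq]) hpq hp
    apply meet_of_comm hT P
    intro a ha b hb
    obtain ⟨s, rfl⟩ := hin a ha
    obtain ⟨t, rfl⟩ := hin b hb
    have hR : IsPGroup p ((P : Subgroup (MulAut ↥(twistedF4 K (2 ^ m)))).comap MulAut.conj) :=
      P.isPGroup'.comap_of_injective _ (conj_injective hT)
    rw [← map_mul, ← map_mul, hab _ hR s ha t hb]

end Cfsg.Agent.H743.MeetTwF4
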