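/-
helper743: arithmetic for `²F₄(q)`, `p = 3` (used for S2484 / S5760).
-/
import Mathlib

set_option autoImplicit false

namespace Cfsg.Agent.H743.TwF4ArithThree

theorem val_add {n : ℕ} (hn : Odd n) : padicValNat 3 (2 ^ n + 1) = 1 + padicValNat 3 n := by
  have h3 : Fact (Nat.Prime 3) := ⟨Nat.prime_three⟩
  have h := padicValNat.pow_add_pow (p := 3) (by decide) (x := 2) (y := 1) (by norm_num) (by norm_num) hn
  rw [one_pow] at h
  rw [h]
  have : padicValNat 3 (2 + 1) = 1 := padicValNat_self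
  rw [this]

theorem val_add3 {n : ℕ} (hn : Odd n) : padicValNat 3 ((2 ^ n) ^ 3 + 1) = 2 + padicValNat 3 n := by
  have h3 : Fact (Nat.Prime 3) := ⟨Nat.prime_three⟩
  rw [← pow_mul, val_add (hn.mul (by decide)), padicValNat.mul hn.pos.ne' (by norm_num)]
  have : padicValNat 3 3 = 1 := padicValNat_self
  rw [this]; ring

theorem two_mod {n : ℕ} (hn : Odd n) : 2 ^ n % 3 = 2 := by
  obtain ⟨k, rfl⟩ := hn
  induction k with
  | zero => norm_num
  | succ k ih =>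
    have : 2 ^ (2 * (k + 1) + 1) = 2 ^ (2 * k + 1) * 4 := by
      rw [show 2 * (k + 1) + 1 = 2 * k + 1 + 2 by ring, pow_add]
      norm_num
    rw [this, Nat.mul_mod, ih]

/-- the factor prime to three -/
theorem not_dvd_A {q : ℕ} (hq : q % 3 = 2) : ¬ 3 ∣ q ^ 12 * (q - 1) * (q ^ 6 + 1) * ((q - 1) * (q ^ 2 + 1)) := by
  have h2 : q ^ 2 % 3 = 1 := by rw [Nat.pow_mod, hq]
  have h6 : q ^ 6 % 3 = 1 := by rw [Nat.pow_mod, hq]
  have h12 : q ^ 12 % 3 = 1 := by rw [Nat.pow_mod, hq]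
  intro h
  rcases Nat.prime_three.dvd_mul.1 h with h | h
  · rcases Nat.prime_three.dvd_mul.1 h with h | h
    · rcases Nat.prime_three.dvd_mul.1 h with h | h <;> omega
    · omega
  · rcases Nat.prime_three.dvd_mul.1 h with h | h <;> omega

theorem ord_eq {q : ℕ} (hq : 1 ≤ q) : q ^ 12 * (q - 1) * (q ^ 3 + 1) * (q ^ 4 - 1) * (q ^ 6 + 1) =
    (q + 1) * (q ^ 3 + 1) * (q ^ 12 * (q - 1) * (q ^ 6 + 1) * ((q - 1) * (q ^ 2 + 1))) := by
  have h4 : 1 ≤ q ^ 4 := Nat.one_le_pow _ _ hq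
  zify [hq, h4]
  ring

/-- the `3`-part of the order -/
theorem le_val {n k : ℕ} (hn : Odd n) (d : ℕ) (hd : 0 < d)
    (h : 3 ^ k ∣ ((2 ^ n) ^ 12 * (2 ^ n - 1) * ((2 ^ n) ^ 3 + 1) * ((2 ^ n) ^ 4 - 1) * ((2 ^ n) ^ 6 + 1)) * d) :
    k ≤ 3 + 2 * padicValNat 3 n + padicValNat 3 d := by
  have h3 : Fact (Nat.Prime 3) := ⟨Nat.prime_three⟩
  have hq := two_mod hn
  rw [ord_eq (Nat.one_le_two_pow), mul_right_comm] at h
  have h1 := (Nat.Coprime.pow_left k ((Nat.prime_three.coprime_iff_not_dvd).2 (not_dvd_A hq))).dvd_of_dvd_mul_right h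
  have h2 := (padicValNat_dvd_iff_le (p := 3) (a := (2 ^ n + 1) * ((2 ^ n) ^ 3 + 1) * d) (by positivity)).1 h1
  rw [padicValNat.mul (by positivity) (by positivity), padicValNat.mul (by positivity) (by positivity), val_add hn,
    val_add3 hn] at h2
  omega

theorem cube_lt {n : ℕ} (hn : 9 ≤ n) : 27 * n ^ 3 < 2 * 4 ^ n := by
  induction n, hn using Nat.le_induction with
  | base => norm_num
  | succ k hk ih =>
    have h1 : (k + 1) ^ 3 ≤ 2 * k ^ 3 := by nlinarith [mul_pos (by omega : 0 < k) (by omega : 0 < k)]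
    rw [pow_succ 4 k]
    omega

/-- the final inequality -/
theorem final {n k : ℕ} (hn : Odd n) (hn1 : 3 ≤ n) (hn3 : n ≠ 3)
    (h : 3 ^ k ∣ ((2 ^ n) ^ 12 * (2 ^ n - 1) * ((2 ^ n) ^ 3 + 1) * ((2 ^ n) ^ 4 - 1) * ((2 ^ n) ^ 6 + 1)) * n) :
    (3 ^ k - 1) ^ 2 < (3 - 1) ^ 2 * (2 ^ n) ^ 4 := by
  have h3 : Fact (Nat.Prime 3) := ⟨Nat.prime_three⟩
  have h1 := le_val hn n (by omega) h
  by_cases hd : 3 ∣ n
  · have h9 : 9 ≤ n := by
      obtain ⟨j, rfl⟩ := hd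
      have : Odd j := by
        rcases Nat.even_or_odd j with h | h
        · exact absurd hn (by rw [Nat.not_odd_iff_even]; exact h.mul_left 3)
        · exact h
      obtain ⟨i, rfl⟩ := this
      omega
    have h2 : 3 ^ k ≤ 27 * n ^ 3 := by
      have h4 : 3 ^ padicValNat 3 n ≤ n := Nat.le_of_dvd (by omega) pow_padicValNat_dvd
      calc 3 ^ k ≤ 3 ^ (3 + 3 * padicValNat 3 n) := Nat.pow_le_pow_right (by norm_num) (by omega)
        _ = 27 * (3 ^ padicValNat 3 n) ^ 3 := by rw [pow_add, ← pow_mul, mul_comm (padicValNat 3 n)]; norm_num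
        _ ≤ _ := by gcongr
    have h4 := cube_lt h9
    have h5 : 3 ^ k - 1 < 2 * 4 ^ n := by omega
    calc (3 ^ k - 1) ^ 2 < (2 * 4 ^ n) ^ 2 := Nat.pow_lt_pow_left h5 (by norm_num)
      _ = _ := by
        rw [mul_pow, ← pow_mul, ← pow_mul, show (4 : ℕ) = 2 ^ 2 by norm_num, ← pow_mul]
        congr 2
        ring
  · have h2 : padicValNat 3 n = 0 := padicValNat.eq_zero_of_not_dvd hd
    have h4 : 3 ^ k ≤ 27 := by
      calc 3 ^ k ≤ 3 ^ 3 := Nat.pow_le_pow_right (by norm_num) (by omega)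
        _ = 27 := by norm_num
    have h5 : 8 ≤ 2 ^ n := by
      calc 8 = 2 ^ 3 := by norm_num
        _ ≤ 2 ^ n := Nat.pow_le_pow_right (by norm_num) hn1
    calc (3 ^ k - 1) ^ 2 ≤ 26 ^ 2 := Nat.pow_le_pow_left (by omega) 2
      _ < (3 - 1) ^ 2 * 8 ^ 4 := by norm_num
      _ ≤ _ := by gcongr

end Cfsg.Agent.H743.TwF4ArithThree
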