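/-
helper743: `Meet 3 T` for the large Ree groups (used for S2484 / S5760).
-/
import Mathlib
import Cfsg.Agent.H743.MeetCount
import Cfsg.Agent.H743.MeetTwF4
import Cfsg.Agent.H743.TwF4ArithThree
import Cfsg.Agent.H270.StrP.TwFFF
import Cfsg.Agent.H743.TwF4OutConj
import Cfsg.Agent.H378.TwRowsF
import Cfsg.Agent.H762.TwFPL

set_option autoImplicit false
set_option linter.unusedSectionVars false

namespace Cfsg.Agent.H743.MeetTwF4Three

open Cfsg Cfsg.Lie Cfsg.Agent.H903.SylMeet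

/-- a subgroup meeting all conjugates of `C` trivially -/
theorem card_dvd_index {G : Type*} [Group G] [Finite G] (C Z : Subgroup G)
    (h : ∀ g : G, ∀ z ∈ Z, g⁻¹ * z * g ∈ C → z = 1) : Nat.card Z ∣ C.index := by
  have hs : ∀ b : G ⧸ C, MulAction.stabilizer Z b = ⊥ := by
    intro b
    obtain ⟨g, rfl⟩ := QuotientGroup.mk_surjective b
    rw [eq_bot_iff]
    rintro ⟨z, hz⟩ hzs
    rw [MulAction.mem_stabilizer_iff] at hzs
    have h1 : ((z * g : G) : G ⧸ C) = (g : G ⧸ C) := hzs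
    have h2 := QuotientGroup.eq.1 h1.symm
    have h3 : g⁻¹ * z * g ∈ C := by rwa [mul_assoc]
    rw [Subgroup.mem_bot]
    exact Subtype.ext (h g z hz h3)
  have h1 := Nat.card_congr (MulAction.selfEquivOrbitsQuotientProd hs)
  rw [Nat.card_prod] at h1
  exact ⟨_, (show C.index = _ from h1).trans (mul_comm _ _)⟩

section inner

variable {K : Type} [Field K] [Fintype K] (hK : Fintype.card K = 2 ^ (2 * 1 + 1))

include hK

open Cfsg.Agent.H378.TwRowsF Cfsg.Agent.H378.TwRows Cfsg.Agent.H378.CycTab in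
/-- centralisers of elements of order 37, 109 -/
theorem prime_dvd_index {r : ℕ} (hr : r.Prime) (h12 : r ∣ 4033) (hrG : r ∣ Nat.card ↥(twistedF4 K (2 ^ 1)))
    (z : ↥(twistedF4 K (2 ^ 1))) (hz : orderOf z = 3) : r ∣ (Subgroup.centralizer ({z} : Set ↥(twistedF4 K (2 ^ 1)))).index := by
  have hfin : Finite ↥(twistedF4 K (2 ^ 1)) := inferInstance
  have hr' := Fact.mk hr
  by_contra hcon
  rw [← (Subgroup.centralizer ({z} : Set ↥(twistedF4 K (2 ^ 1)))).card_mul_index] at hrG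
  have h1 := (hr.dvd_mul.1 hrG).resolve_right hcon
  obtain ⟨x, hx⟩ := exists_prime_orderOf_dvd_card' r h1
  have hxo : orderOf (x : ↥(twistedF4 K (2 ^ 1))) = r := by rw [Subgroup.orderOf_coe, hx]
  have hc8 : Nat.card K = 8 := by rw [Nat.card_eq_fintype_card, hK]; norm_num
  have hod := od_of_c12 (q := Nat.card K) hr (by
    rw [hc8, Cfsg.Agent.H493.PGCyc.pv_c12]
    have : ((8 : ℕ) : ℤ) ^ 4 - ((8 : ℕ) : ℤ) ^ 2 + 1 = ((4033 : ℕ) : ℤ) := by norm_num
    rw [this]
    exact Int.natCast_dvd_natCast.2 h12)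
  have h2 := (cent_2F4 hK hr hxo hod).2
  rw [hc8, eval_cyc12] at h2
  have h3 : (((8 : ℕ) : ℤ) ^ 4 - ((8 : ℕ) : ℤ) ^ 2 + 1).natAbs = 4033 := by norm_num
  rw [h3] at h2
  have h4 : z ∈ Subgroup.centralizer ({(x : ↥(twistedF4 K (2 ^ 1)))} : Set ↥(twistedF4 K (2 ^ 1))) := by
    rw [Subgroup.mem_centralizer_singleton_iff]
    exact (Subgroup.mem_centralizer_singleton_iff.1 x.2).symm
  have h5 : 3 ∣ Nat.card ↥(Subgroup.centralizer ({(x : ↥(twistedF4 K (2 ^ 1)))} : Set ↥(twistedF4 K (2 ^ 1)))) := by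
    rw [← hz]
    exact Subgroup.orderOf_dvd_natCard _ h4
  have h6 := h5.trans h2
  norm_num at h6

/-- the centraliser of an element of order three has index divisible by `8 · 37 · 109` -/
theorem dvd_index (z : ↥(twistedF4 K (2 ^ 1))) (hz : orderOf z = 3) :
    32264 ∣ (Subgroup.centralizer ({z} : Set ↥(twistedF4 K (2 ^ 1)))).index := by
  have hfin : Finite ↥(twistedF4 K (2 ^ 1)) := inferInstance
  have : CharP K 2 := Cfsg.Agent.ChevalleyStructure.F4Fixed.charP_two hK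
  have hcard := S1068.result hK
  have h37 := prime_dvd_index hK (r := 37) (by norm_num) (by norm_num) (by rw [hcard]; norm_num) z hz
  have h109 := prime_dvd_index hK (r := 109) (by norm_num) (by norm_num) (by rw [hcard]; norm_num) z hz
  have h8 : 8 ∣ (Subgroup.centralizer ({z} : Set ↥(twistedF4 K (2 ^ 1)))).index := by
    obtain ⟨φ, hφ⟩ := Cfsg.Agent.ChevalleyStructure.TwF4.TwistedFix.exists_rln hK
    let S := Cfsg.Agent.KFacts.TwF4.Inst.full hK hφ
    have hc8 : Nat.card (S.Zc 2) = 8 := by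
      rw [Cfsg.Agent.CpAutTwF.Card.card_Zc, Nat.card_eq_fintype_card, hK]; norm_num
    rw [← hc8]
    refine card_dvd_index _ _ fun g y hy hyc => ?_
    by_contra hy1
    have h1 : g * z * g⁻¹ ∈ Subgroup.centralizer {y} := by
      rw [Subgroup.mem_centralizer_singleton_iff] at hyc ⊢
      calc g * z * g⁻¹ * y = g * (z * (g⁻¹ * y * g)) * g⁻¹ := by group
        _ = g * (g⁻¹ * y * g * z) * g⁻¹ := by rw [hyc]
        _ = _ := by group
    rw [S.centralizer_z hy hy1] at h1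
    refine Cfsg.Agent.H762.PL.three_not_dvd S rfl (m := 1) (by rw [Nat.card_eq_fintype_card, hK]) ?_
    have h2 : orderOf (g * z * g⁻¹) = 3 := by
      rw [← hz]
      exact (MulAut.conj g).orderOf_eq z
    rw [← h2]
    exact Subgroup.orderOf_dvd_natCard _ h1
  have e : (32264 : ℕ) = 8 * (37 * 109) := by norm_num
  rw [e]
  refine Nat.Coprime.mul_dvd_of_dvd_of_dvd (by norm_num) h8 (Nat.Coprime.mul_dvd_of_dvd_of_dvd (by norm_num) h37 h109)

end inner

section outer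

variable {K : Type} [Field K] [Fintype K] (hK : Fintype.card K = 2 ^ (2 * 1 + 1))

open Cfsg.Agent.H967.CopMat Cfsg.Agent.H967.CopSz Cfsg.Agent.H496.TwFRad.Out Cfsg.Agent.KFacts.TwF4
  Cfsg.Agent.KFacts.TwF4.Inst Cfsg.Agent.ChevalleyStructure.TwF4.TwistedFix

/-- an automorphism of field type is the field automorphism -/
theorem eq_fieldAut [CharP K 2] [PerfectRing K 2] {φ : K →+* K} (hφ : Rln φ (2 ^ 1)) {i : ℕ}
    {ψ : MulAut ↥(twistedF4 K (2 ^ 1))} (h : Fa (full hK hφ) (fr K i : K →+* K) ψ) :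
    ψ = fieldAut (stab_f4 (K := K) (2 ^ 1)) (fr K i) := by
  have ho : ∀ a t, fieldAut (stab_f4 (K := K) (2 ^ 1)) (fr K i) ((full hK hφ).o a t) =
      (full hK hφ).o a ((fr K i : K →+* K) t) := by
    intro a t
    apply Subtype.ext
    rw [coe_fieldAut]
    exact go_map (fr K i : K →+* K) (map_fr i) a t
  have he : ∀ a p u, fieldAut (stab_f4 (K := K) (2 ^ 1)) (fr K i) ((full hK hφ).e a p u) =
      (full hK hφ).e a ((fr K i : K →+* K) p) ((fr K i : K →+* K) u) := by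
    intro a p u
    apply Subtype.ext
    rw [coe_fieldAut]
    exact ge_map (fr K i : K →+* K) (map_fr i) a p u
  have h1 : MonoidHom.eqLocus ψ.toMonoidHom (fieldAut (stab_f4 (K := K) (2 ^ 1)) (fr K i)).toMonoidHom = ⊤ := by
    refine Inv.eq_top_of (full hK hφ) ?_ ?_ ?_ ?_
    · intro x hx
      obtain ⟨p, u, rfl⟩ := (Arc.mem_X0 (full hK hφ)).1 hx
      exact (h.e _ _ _).trans (he _ _ _).symm
    · intro x hx
      obtain ⟨t, rfl⟩ := (Arc.mem_X1 (full hK hφ)).1 hx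
      exact (h.o _ _).trans (ho _ _).symm
    · intro x hx
      obtain ⟨p, u, rfl⟩ := (Arc.mem_X8 (full hK hφ)).1 hx
      exact (h.e _ _ _).trans (he _ _ _).symm
    · intro x hx
      obtain ⟨t, rfl⟩ := (Arc.mem_X9 (full hK hφ)).1 hx
      exact (h.o _ _).trans (ho _ _).symm
  ext g
  have h2 : g ∈ MonoidHom.eqLocus ψ.toMonoidHom (fieldAut (stab_f4 (K := K) (2 ^ 1)) (fr K i)).toMonoidHom := by
    rw [h1]; exact Subgroup.mem_top g
  have h3 : ψ g = fieldAut (stab_f4 (K := K) (2 ^ 1)) (fr K i) g := h2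
  rw [h3]

include hK in
/-- **outer automorphisms of order three of `²F₄(8)`** -/
theorem card_fix_outer {y : MulAut ↥(twistedF4 K (2 ^ 1))} (hy : y ^ 3 = 1) (hout : ¬ ∃ g, y = MulAut.conj g) :
    Nat.card {x : ↥(twistedF4 K (2 ^ 1)) // y x = x} ≤ 35942400 := by
  have : CharP K 2 := Cfsg.Agent.ChevalleyStructure.F4Fixed.charP_two hK
  have : PerfectRing K 2 := inferInstance
  have hfin : Finite ↥(twistedF4 K (2 ^ 1)) := inferInstance
  obtain ⟨φ, hφ⟩ := Cfsg.Agent.ChevalleyStructure.TwF4.TwistedFix.exists_rln hK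
  obtain ⟨e, i, δ, ψ, h1, h2, h3⟩ := (TwF4OutConj.inner_or_conj (m := 1) le_rfl hK hφ Nat.prime_three (by norm_num)
    hy).resolve_left hout
  have h4 := eq_fieldAut hK hφ h2
  -- the fixed field
  have hn : Nat.card K = 2 ^ (2 * 1 + 1) := by rw [Nat.card_eq_fintype_card, hK]
  have hσ : orderOf (fr K i) ≠ 1 := by
    intro h
    apply h3
    rw [← Cfsg.Agent.BpExc.FamField.forall_pow_iff 2 hn]
    intro a
    rw [← fr_apply, orderOf_eq_one_iff.1 h]
    rfl
  have hcE := card_Fx (fr K i)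
  have hpos : orderOf (fr K i) ≠ 0 := by
    intro h
    rw [h, pow_zero, hn] at hcE
    norm_num at hcE
  have hE : Nat.card ↥(Fx (fr K i)) = 2 ^ (2 * 0 + 1) := by
    rw [hn] at hcE
    obtain ⟨c, hc⟩ : ∃ c, c = Nat.card ↥(Fx (fr K i)) := ⟨_, rfl⟩
    rw [← hc] at hcE ⊢
    have h5 : c ^ 2 ≤ 8 := by
      have h6 : 0 < c := by
        rcases Nat.eq_zero_or_pos c with h | h
        · rw [h, zero_pow hpos] at hcE
          norm_num at hcE
        · exact h
      calc c ^ 2 ≤ c ^ orderOf (fr K i) := Nat.pow_le_pow_right h6 (by omega)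
        _ = 8 := by rw [← hcE]; norm_num
    have h6 : c ≤ 2 := by nlinarith
    interval_cases c
    · rw [zero_pow hpos] at hcE
      norm_num at hcE
    · rw [one_pow] at hcE
      norm_num at hcE
    · norm_num
  have hfE : Finite ↥(Fx (fr K i)) := inferInstance
  have hftE : Fintype ↥(Fx (fr K i)) := Fintype.ofFinite _
  have hE' : Fintype.card ↥(Fx (fr K i)) = 2 ^ (2 * 0 + 1) := by rw [← Nat.card_eq_fintype_card, hE]
  obtain ⟨f, hf, hfix⟩ := Cfsg.Agent.H270.StrP.tf4_fixed (m := 1) hK (fr K i) (m₀ := 0) (j := 1) hE (by norm_num)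
  have hc0 := Cfsg.Agent.S1068.result hE'
  have h5 : Nat.card {x : ↥(twistedF4 K (2 ^ 1)) // ψ x = x} = 35942400 := by
    rw [h4, Nat.card_congr (Equiv.subtypeEquivRight hfix)]
    have h9 : Nat.card ↥f.range = Nat.card ↥(twistedF4 ↥(Fx (fr K i)) (2 ^ 0)) :=
      (Nat.card_congr (MonoidHom.ofInjective hf).toEquiv).symm
    refine h9.trans ?_
    rw [hc0]
    norm_num
  rw [← h5]
  have hpow : ∀ x, y x = x → ∀ n : ℕ, (y ^ n) x = x := by
    intro x hx n
    induction n with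
    | zero => rfl
    | succ n ih => rw [pow_succ' y n, MulAut.mul_apply, ih, hx]
  refine Nat.card_le_card_of_injective (fun x => (⟨δ⁻¹ x.1, ?_⟩ : {x : ↥(twistedF4 K (2 ^ 1)) // ψ x = x})) ?_
  · have h6 := hpow x.1 x.2 e
    rw [h1, MulAut.mul_apply, MulAut.mul_apply] at h6
    apply δ.injective
    rw [h6]
    exact (MulAut.apply_inv_self _ δ x.1).symm
  · intro a b hab
    exact Subtype.ext ((δ⁻¹).injective (congrArg Subtype.val hab))

end outer

/-- **Large Ree groups.** -/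
theorem meet3_2F4 {G : Type*} [Group G] [Finite G] [IsSimpleGroup G] (h : Cfsg.Lie.Iso2F4 G) : Meet 3 G := by
  classical
  obtain ⟨K, _, _, m, hm, hK, ⟨e⟩⟩ := h
  have h3p : Fact (Nat.Prime 3) := ⟨Nat.prime_three⟩
  have hs : IsSimpleGroup ↥(twistedF4 K (2 ^ m)) := e.isSimpleGroup_congr.1 inferInstance
  have hfin : Finite ↥(twistedF4 K (2 ^ m)) := Finite.of_equiv G e.toEquiv
  refine Meet.congr e.symm ?_
  have hcard := S1068.result hK
  obtain ⟨q, hq⟩ : ∃ q, q = 2 ^ (2 * m + 1) := ⟨_, rfl⟩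
  have h8 : 8 ≤ q := by
    rw [hq]
    calc 8 = 2 ^ 3 := by norm_num
      _ ≤ 2 ^ (2 * m + 1) := Nat.pow_le_pow_right (by norm_num) (by omega)
  have hT : ¬ IsMulCommutative ↥(twistedF4 K (2 ^ m)) := (Cfsg.Agent.S1072.result hm hK).2
  have hout : (MulAut.conj : ↥(twistedF4 K (2 ^ m)) →* MulAut ↥(twistedF4 K (2 ^ m))).range.index = 2 * m + 1 :=
    S2128.result hm hK
  have hinj := conj_injective (T := ↥(twistedF4 K (2 ^ m))) hT
  have hodd : Odd (2 * m + 1) := ⟨m, rfl⟩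
  obtain ⟨P⟩ : Nonempty (Sylow 3 (MulAut ↥(twistedF4 K (2 ^ m)))) := inferInstance
  obtain ⟨k, hk⟩ := P.isPGroup'.exists_card_eq
  have h1 : 3 ^ k ∣ Nat.card (MulAut ↥(twistedF4 K (2 ^ m))) := by
    rw [← hk]; exact Subgroup.card_subgroup_dvd_card _
  rw [← (MulAut.conj : ↥(twistedF4 K (2 ^ m)) →* MulAut ↥(twistedF4 K (2 ^ m))).range.card_mul_index,
    ← Nat.card_congr (MonoidHom.ofInjective hinj).toEquiv, hout, hcard] at h1
  have hkP : Nat.card P = 3 ^ k := hk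
  by_cases hm1 : m = 1
  · subst hm1
    apply meet_of_sylow P
    have hn : (MulAut.conj : ↥(twistedF4 K (2 ^ 1)) →* MulAut ↥(twistedF4 K (2 ^ 1))).range.Normal := ⟨by
      rintro _ ⟨t, rfl⟩ g
      exact ⟨g t, (conj_apply_aut g t).symm⟩⟩
    set I := (MulAut.conj : ↥(twistedF4 K (2 ^ 1)) →* MulAut ↥(twistedF4 K (2 ^ 1))).range with hI
    have hfinS : Fintype (Subgroup (MulAut ↥(twistedF4 K (2 ^ 1)))) := Fintype.ofFinite _
    let 𝒴 : Finset (Subgroup (MulAut ↥(twistedF4 K (2 ^ 1)))) :=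
      Finset.univ.filter fun Y => Y ≤ (P : Subgroup (MulAut ↥(twistedF4 K (2 ^ 1)))) ∧ Nat.card Y = 3 ∧ Y ≤ I
    let 𝒵 : Finset (Subgroup (MulAut ↥(twistedF4 K (2 ^ 1)))) :=
      Finset.univ.filter fun Y => Y ≤ (P : Subgroup (MulAut ↥(twistedF4 K (2 ^ 1)))) ∧ Nat.card Y = 3 ∧ ¬ Y ≤ I
    -- the order of `P` and of `P ⊓ I`
    have hk6 : k ≤ 6 := by
      have h2 := TwF4ArithThree.le_val (n := 2 * 1 + 1) ⟨1, rfl⟩ (2 * 1 + 1) (by norm_num) h1
      have h3 : padicValNat 3 (2 * 1 + 1) = 1 := padicValNat_self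
      rw [h3] at h2
      omega
    obtain ⟨l, hl⟩ : ∃ l, Nat.card ((P : Subgroup (MulAut ↥(twistedF4 K (2 ^ 1)))) ⊓ I : Subgroup _) = 3 ^ l :=
      (P.isPGroup'.to_le inf_le_left).exists_card_eq
    have hl5 : l ≤ 5 := by
      have h2 : 3 ^ l ∣ Nat.card I := by
        rw [← hl]; exact Subgroup.card_dvd_of_le inf_le_right
      rw [hI, ← Nat.card_congr (MonoidHom.ofInjective hinj).toEquiv, hcard] at h2
      have h4 := TwF4ArithThree.le_val (n := 2 * 1 + 1) ⟨1, rfl⟩ 1 (by norm_num) (by rw [mul_one]; exact h2)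
      have h3 : padicValNat 3 (2 * 1 + 1) = 1 := padicValNat_self
      rw [h3, padicValNat_one_right] at h4
      omega
    have hY : 𝒴.card * 2 ≤ 242 := by
      have h2 : 𝒴.card * (3 - 1) ≤ Nat.card ((P : Subgroup (MulAut ↥(twistedF4 K (2 ^ 1)))) ⊓ I : Subgroup _) - 1 :=
        card_order_p_mul_le (P := ((P : Subgroup (MulAut ↥(twistedF4 K (2 ^ 1)))) ⊓ I)) 𝒴 (fun Y hY => by
          have h3 : Y ≤ (P : Subgroup (MulAut ↥(twistedF4 K (2 ^ 1)))) ∧ Nat.card Y = 3 ∧ Y ≤ I := by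
            simpa [𝒴] using hY
          exact ⟨le_inf h3.1 h3.2.2, h3.2.1⟩)
      rw [hl] at h2
      have h3 : 3 ^ l ≤ 3 ^ 5 := Nat.pow_le_pow_right (by norm_num) hl5
      norm_num at h3
      omega
    have hZ : 𝒵.card * 2 ≤ 728 := by
      have h2 : 𝒵.card * (3 - 1) ≤ Nat.card P - 1 :=
        card_order_p_mul_le (P := (P : Subgroup (MulAut ↥(twistedF4 K (2 ^ 1))))) 𝒵 (fun Y hY => by
          have h3 : Y ≤ (P : Subgroup (MulAut ↥(twistedF4 K (2 ^ 1)))) ∧ Nat.card Y = 3 ∧ ¬ Y ≤ I := by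
            simpa [𝒵] using hY
          exact ⟨h3.1, h3.2.1⟩)
      rw [hkP] at h2
      have h3 : 3 ^ k ≤ 3 ^ 6 := Nat.pow_le_pow_right (by norm_num) hk6
      norm_num at h3
      omega
    -- generators
    have hgen : ∀ Y : Subgroup (MulAut ↥(twistedF4 K (2 ^ 1))), Nat.card Y = 3 → ∃ y ∈ Y, orderOf y = 3 ∧
        Subgroup.zpowers y = Y := by
      intro Y hY
      obtain ⟨y, hy⟩ := exists_prime_orderOf_dvd_card' (G := Y) 3 (by rw [hY])
      have hyo : orderOf (y : MulAut ↥(twistedF4 K (2 ^ 1))) = 3 := by rw [Subgroup.orderOf_coe, hy]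
      refine ⟨y, y.2, hyo, ?_⟩
      apply Subgroup.eq_of_le_of_card_ge (by simp)
      rw [Nat.card_zpowers, hyo, hY]
    refine MeetCount.good_of_count₂ P.isPGroup' I 𝒴 (fun Y => by simp [𝒴]) 𝒵 (fun Y => by simp [𝒵])
      (Nat.card ↥(twistedF4 K (2 ^ 1)) / 16132) (2 * 35942400) (fun Y hY => ?_) (fun Y hY => ?_) ?_
    · have h3 : Y ≤ (P : Subgroup (MulAut ↥(twistedF4 K (2 ^ 1)))) ∧ Nat.card Y = 3 ∧ Y ≤ I := by
        simpa [𝒴] using hY
      obtain ⟨y, hy, hyo, rfl⟩ := hgen Y h3.2.1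
      obtain ⟨z, rfl⟩ := h3.2.2 hy
      have h4 := MeetCount.card_stab_le_fix hinj (MulAut.conj z) hyo
      rw [MeetCount.fix_conj_eq] at h4
      refine h4.trans ?_
      have hz : orderOf z = 3 := by rw [← hyo]; exact (orderOf_injective _ hinj z).symm
      have h5 := Nat.le_of_dvd (Nat.pos_of_ne_zero Subgroup.index_ne_zero_of_finite) (dvd_index hK z hz)
      rw [Nat.le_div_iff_mul_le (by norm_num)]
      calc (3 - 1) * Nat.card ↥(Subgroup.centralizer {z}) * 16132 = Nat.card ↥(Subgroup.centralizer {z}) * 32264 := by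
            ring
        _ ≤ Nat.card ↥(Subgroup.centralizer {z}) * (Subgroup.centralizer {z}).index := Nat.mul_le_mul_left _ h5
        _ = _ := Subgroup.card_mul_index _
    · have h3 : Y ≤ (P : Subgroup (MulAut ↥(twistedF4 K (2 ^ 1)))) ∧ Nat.card Y = 3 ∧ ¬ Y ≤ I := by
        simpa [𝒵] using hY
      obtain ⟨y, hy, hyo, rfl⟩ := hgen Y h3.2.1
      refine (MeetCount.card_stab_le_fix hinj y hyo).trans (Nat.mul_le_mul_left _ ?_)
      refine card_fix_outer hK (by rw [← hyo, pow_orderOf_eq_one]) ?_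
      rintro ⟨g, rfl⟩
      apply h3.2.2
      rw [Subgroup.zpowers_le]
      exact ⟨g, rfl⟩
    · have h2 : 𝒴.card ≤ 121 := by omega
      have h3 : 𝒵.card ≤ 364 := by omega
      have h4 : 𝒴.card ^ 2 * (Nat.card ↥(twistedF4 K (2 ^ 1)) / 16132) + 𝒵.card ^ 2 * (2 * 35942400) ≤
          121 ^ 2 * (Nat.card ↥(twistedF4 K (2 ^ 1)) / 16132) + 364 ^ 2 * (2 * 35942400) := by gcongr
      refine h4.trans_lt ?_
      rw [hcard]
      norm_num
  · have : CharP K 2 := Cfsg.Agent.ChevalleyStructure.TwF4.Twisted.charP_two hK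
    obtain ⟨φ, hφ⟩ := Cfsg.Agent.ChevalleyStructure.TwF4.TwistedFix.exists_rln hK
    have hidx : ∀ H : Subgroup ↥(twistedF4 K (2 ^ m)), H ≠ ⊤ → q ^ 4 ≤ H.index := by
      intro H hH
      have := TwF4Index.card_pow_le_index (KFacts.TwF4.Inst.full hK hφ) H hH
      rwa [Nat.card_eq_fintype_card, hK, ← hq] at this
    refine meet_of_card_lt hT hidx P ?_
    rw [hkP, hq]
    exact TwF4ArithThree.final hodd (by omega) (by omega) h1

end Cfsg.Agent.H743.MeetTwF4Three
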