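/-
helper743: `Meet 3 T` for the Suzuki groups and the small Ree groups (used for S2484 / S5760).
-/
import Mathlib
import Cfsg.Agent.H743.MeetPair
import Cfsg.Agent.H743.MeetPslThree
import Cfsg.Agent.H743.MeetTw
import Cfsg.Agent.BpLieP.Ree

set_option autoImplicit false

namespace Cfsg.Agent.H743.MeetTwThree

open Cfsg Cfsg.Agent.H903.SylMeet Cfsg.Agent.H743.MeetTw

theorem two_pow_odd_mod (m : ℕ) : 2 ^ (2 * m + 1) % 3 = 2 := by
  induction m with
  | zero => norm_num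
  | succ k ih =>
    have : 2 ^ (2 * (k + 1) + 1) = 2 ^ (2 * k + 1) * 4 := by
      rw [show 2 * (k + 1) + 1 = 2 * k + 1 + 2 by ring, pow_add]
      norm_num
    rw [this, Nat.mul_mod, ih]

theorem not_three_dvd_sz (m : ℕ) (a : ℕ) (ha : a = 2 ^ (2 * m + 1)) : ¬ 3 ∣ a ^ 2 * (a ^ 2 + 1) * (a - 1) := by
  have h1 : a % 3 = 2 := by
    rw [ha]
    exact two_pow_odd_mod m
  have h2 : a ^ 2 % 3 = 1 := by rw [Nat.pow_mod, h1]
  intro h
  rcases Nat.prime_three.dvd_mul.1 h with h | h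
  · rcases Nat.prime_three.dvd_mul.1 h with h | h <;> omega
  · omega

open Cfsg.Agent.LieRecognition.SzMatrix Cfsg.Agent.ThreePrime Cfsg.Agent.ThreePrime.SzRel
  Cfsg.Agent.H70.SzOut in
/-- **Suzuki groups.** -/
theorem meet3_Sz {G : Type*} [Group G] [Finite G] [IsSimpleGroup G] (h : Cfsg.Lie.IsoSuzuki G) : Meet 3 G := by
  obtain ⟨F, _, _, m, hm, hF, ⟨e⟩⟩ := h
  have : IsSimpleGroup ↥(Cfsg.Lie.Sz F (2 ^ (m + 1))) := e.isSimpleGroup_congr.1 inferInstance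
  have h3p : Fact (Nat.Prime 3) := ⟨Nat.prime_three⟩
  refine Meet.congr e.symm ?_
  have hcard := (S1163.result hm hF).1
  obtain ⟨q, hq⟩ : ∃ q, q = 2 ^ (2 * m + 1) := ⟨_, rfl⟩
  have h8 : 8 ≤ q := by
    rw [hq]
    calc 8 = 2 ^ 3 := by norm_num
      _ ≤ 2 ^ (2 * m + 1) := Nat.pow_le_pow_right (by norm_num) (by omega)
  rw [← hq] at hcard
  have hC : Nat.card (F ≃+* F) = 2 * m + 1 ∧ IsCyclic (F ≃+* F) :=
    H382.FieldAction.card_ringAut_dvd F (by rw [Nat.card_eq_fintype_card, hF])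
  have := hC.2
  have hCf : Finite (F ≃+* F) := Nat.finite_of_card_ne_zero (by rw [hC.1]; omega)
  have hfin : Finite ↥(Cfsg.Lie.Sz F (2 ^ (m + 1))) := Nat.finite_of_card_ne_zero (by
    rw [hcard]
    have : 0 < q - 1 := by omega
    positivity)
  have h3 : ¬ 3 ∣ Nat.card ↥(Cfsg.Lie.Sz F (2 ^ (m + 1))) := by
    rw [hcard, mul_right_comm]
    exact not_three_dvd_sz m q hq
  refine meet_fld (p := 3) (by norm_num) ?_ (fieldAut (good hF)) (sz_aut hm hF) (fun R hR => ?_)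
    (fun _ h => absurd h h3)
  · have : 0 < (q - 1) := by omega
    exact not_comm_of_not_dvd (a := q ^ 2 * (q - 1)) (b := q ^ 2 + 1) (by nlinarith) (by nlinarith)
      hcard
  · obtain ⟨k, hk⟩ := hR.exists_card_eq
    have h1 : 3 ^ k ∣ Nat.card ↥(Cfsg.Lie.Sz F (2 ^ (m + 1))) := by
      rw [← hk]
      exact R.card_subgroup_dvd_card
    have hk0 : k = 0 := by
      by_contra h0
      exact h3 ((dvd_pow_self 3 h0).trans h1)
    rw [hk0, pow_zero] at hk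
    have : Subsingleton R := (Nat.card_eq_one_iff_unique.1 hk).1
    exact isCyclic_of_subsingleton

section ree

open Cfsg.Lie Cfsg.Agent.LieRecognition.ReeAbs Cfsg.Agent.LieRecognition.ReeSylowThree Cfsg.Agent.H71

variable {K : Type} [Field K] [Fintype K] {G : Type*} [Group G] [Finite G] [IsSimpleGroup G]
  {m : ℕ} {U : K → K → K → G} {h : Kˣ → G} {n : G}

/-- the small Ree groups, abstractly -/
theorem ree_abs (hT : ¬ IsMulCommutative G) (hK : Fintype.card K = 3 ^ (2 * m + 1)) (D : Data m U h n)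
    (st : (K ≃+* K) →* MulAut G) (hst : ReeOut.Fld D st)
    (haut : ∀ α : MulAut G, ∃ (g : G) (τ : K ≃+* K), α = MulAut.conj g * st τ) : Meet 3 G := by
  have h3p : Fact (Nat.Prime 3) := ⟨Nat.prime_three⟩
  have hfin : Finite (K ≃+* K) := by
    have h1 := (H382.FieldAction.card_ringAut_dvd K (by rw [Nat.card_eq_fintype_card, hK])).1
    exact Nat.finite_of_card_ne_zero (by rw [h1]; omega)
  obtain ⟨S, hS⟩ := BpLieP.Ree.exists_sylow hK D
  obtain ⟨s, hs0, hs⟩ := MeetPslThree.exists_gen (F := K)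
  have hout : Nat.card (Cfsg.Out G) ∣ 1 * Nat.card (K ≃+* K) := by
    rw [one_mul]
    let ψ : (K ≃+* K) →* Cfsg.Out G := (QuotientGroup.mk' (Cfsg.Inn G)).comp st
    have hψ : Function.Surjective ψ := by
      intro x
      obtain ⟨α, rfl⟩ := QuotientGroup.mk'_surjective (Cfsg.Inn G) x
      obtain ⟨g, τ, rfl⟩ := haut α
      refine ⟨τ, ?_⟩
      change QuotientGroup.mk' (Cfsg.Inn G) (st τ) = _
      rw [map_mul]
      have : QuotientGroup.mk' (Cfsg.Inn G) (MulAut.conj g) = 1 :=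
        (QuotientGroup.eq_one_iff _).2 ⟨g, rfl⟩
      rw [this, one_mul]
    exact Subgroup.card_dvd_of_surjective ψ hψ
  have hgen : ∀ γ : K ≃+* K, Units.mk0 s hs0 = Units.mapEquiv γ.toMulEquiv (Units.mk0 s hs0) → γ = 1 := by
    intro γ hγ
    apply hs
    have := congrArg Units.val hγ
    exact this.symm
  refine H185.MeetChar.meet_of_frame (p := 3) hT (U := uSub D) (BpLieP.Ree.isPGroup_uSub hK D) ?_ st ?_ (m := 1)
    (by norm_num) hout n (h (Units.mk0 s hs0)) hst.onN ?_ ?_ ?_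
  · rw [← hS]
    exact S.not_dvd_index
  · rintro γ _ ⟨t, u, v, rfl⟩
    exact ⟨γ t, γ u, γ v, hst.onU γ t u v⟩
  · rintro _ ⟨t, u, v, rfl⟩ ⟨t', u', v', h'⟩
    rw [D.n_inv] at h'
    have h1 : U 0 0 0 * h 1 * n * U t u v = U t' u' v' * h 1 * n * U 0 0 0 := by
      rw [D.U_zero, D.h_one, one_mul, one_mul, mul_one, mul_one, ← h', mul_assoc (n * U t u v), D.n_n, mul_one]
    obtain ⟨-, -, -, -, rfl, rfl, rfl⟩ := D.inj₂ _ _ _ _ _ _ _ _ _ _ _ _ _ _ h1
    exact D.U_zero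
  · rintro _ ⟨t, u, v, rfl⟩ γ ⟨t', u', v', h'⟩
    rw [hst.onH, D.n_inv] at h'
    have h1 : U 0 0 0 * h (Units.mk0 s hs0) * n * U t u v =
        U t' u' v' * h (Units.mapEquiv γ.toMulEquiv (Units.mk0 s hs0)) * n * U 0 0 0 := by
      rw [D.U_zero, one_mul, mul_one, ← h', inv_mul_cancel_right, mul_assoc (h _), mul_assoc (h _)]
      congr 1
      rw [mul_assoc (n * U t u v), D.n_n, mul_one]
    obtain ⟨-, -, -, -, rfl, rfl, rfl⟩ := D.inj₂ _ _ _ _ _ _ _ _ _ _ _ _ _ _ h1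
    exact D.U_zero
  · rintro γ - ⟨t', u', v', h'⟩
    rw [hst.onH] at h'
    have h1 : U 0 0 0 * h (Units.mk0 s hs0) = U t' u' v' * h (Units.mapEquiv γ.toMulEquiv (Units.mk0 s hs0)) := by
      rw [D.U_zero, one_mul, ← h', inv_mul_cancel_right]
    exact hgen γ (D.inj₁ _ _ _ _ _ _ _ _ h1).2.2.2

end ree

open Cfsg.Lie Cfsg.Agent.ChevStructure.FieldMap Cfsg.Agent.ChevalleyStructure.Ree.Gens
  Cfsg.Agent.ChevalleyStructure.Ree Cfsg.Agent.H71 Cfsg.Agent.LieRecognition Cfsg.Agent.ChevalleyStructure.Ree.Normal in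
/-- **Small Ree groups.** -/
theorem meet3_Ree {G : Type*} [Group G] [Finite G] [IsSimpleGroup G] (h : Cfsg.Lie.IsoRee G) : Meet 3 G := by
  obtain ⟨K, _, _, m, hm, hK, ⟨e⟩⟩ := h
  have hs : IsSimpleGroup ↥(Cfsg.Lie.twistedG2 K (3 ^ m)) := e.isSimpleGroup_congr.1 inferInstance
  have hfin : Finite ↥(Cfsg.Lie.twistedG2 K (3 ^ m)) := Finite.of_equiv G e.toEquiv
  refine Meet.congr e.symm ?_
  obtain ⟨θ, c⟩ := exists_ctx hK
  refine ree_abs ?_ hK (Data.data c) (reeFld (3 ^ m)) ?_ (FldAut.ree_aut hm hK)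
  · have hcard := S1069.result hK
    have h27 : 27 ≤ 3 ^ (2 * m + 1) :=
      calc 27 = 3 ^ 3 := by norm_num
        _ ≤ 3 ^ (2 * m + 1) := Nat.pow_le_pow_right (by norm_num) (by omega)
    obtain ⟨q, hq⟩ : ∃ q, q = 3 ^ (2 * m + 1) := ⟨_, rfl⟩
    rw [← hq] at hcard h27
    obtain ⟨k, hk⟩ : ∃ k, q - 1 = k := ⟨_, rfl⟩
    have hk1 : 1 ≤ k := by omega
    have hq3 : 1 < q ^ 3 := Nat.one_lt_pow (by norm_num) (by omega)
    rw [hk] at hcard
    exact not_comm_of_not_dvd (a := q ^ 3 * k) (b := q ^ 3 + 1) (by nlinarith) (by omega) hcard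
  · exact FldAut.reeFld c

end Cfsg.Agent.H743.MeetTwThree
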