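/-
Root groups {1 + c s | c ∈ F} inside a group represented in an F-algebra: commuting pairs, SL₂-pairs, commutator case
(helper743, section 63).
-/
import Cfsg.Agent.H742.SubOf

set_option autoImplicit false
open Cfsg

namespace Cfsg.Agent.H743

open Cfsg.Agent.H731 Cfsg.Agent.H733 Cfsg.Agent.H742

section

variable {F R H : Type*} [Field F] [Ring R] [Algebra F R] [Group H]

/-- `A` is the full preimage of `{1 + c s | c ∈ F}`, all of which are in the image. -/
structure IsRS (F : Type*) {R H : Type*} [Field F] [Ring R] [Algebra F R] [Group H]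
    (ι : H →* R) (s : R) (A : Subgroup H) : Prop where
  mem_iff : ∀ x, x ∈ A ↔ ∃ c : F, ι x = 1 + c • s
  surj : ∀ c : F, ∃ x, ι x = 1 + c • s

variable {ι : H →* R} {s t u : R} {A B C : Subgroup H}

theorem IsRS.get (h : IsRS F ι s A) {x : H} (hx : x ∈ A) : ∃ c : F, ι x = 1 + c • s := (h.mem_iff x).1 hx

theorem IsRS.exists_mem (h : IsRS F ι s A) (c : F) : ∃ x ∈ A, ι x = 1 + c • s := by
  obtain ⟨x, hx⟩ := h.surj c
  exact ⟨x, (h.mem_iff x).2 ⟨c, hx⟩, hx⟩

theorem IsRS.unique (h : IsRS F ι s A) (h' : IsRS F ι s B) : A = B := by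
  ext x
  rw [h.mem_iff, h'.mem_iff]

theorem IsRS.smul (h : IsRS F ι s A) {a : F} (ha : a ≠ 0) : IsRS F ι (a • s) A where
  mem_iff x := by
    rw [h.mem_iff]
    constructor
    · rintro ⟨c, hc⟩
      refine ⟨c / a, ?_⟩
      rw [hc, smul_smul, div_mul_cancel₀ _ ha]
    · rintro ⟨c, hc⟩
      refine ⟨c * a, ?_⟩
      rw [hc, smul_smul]
  surj c := by
    obtain ⟨x, hx⟩ := h.surj (c * a)
    exact ⟨x, by rw [hx, smul_smul]⟩

theorem IsRS.comm (h : IsRS F ι s A) (hι : Function.Injective ι) : IsMulCommutative ↥A := by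
  refine ⟨⟨?_⟩⟩
  rintro ⟨x, hx⟩ ⟨y, hy⟩
  apply Subtype.ext
  apply hι
  change ι (x * y) = ι (y * x)
  obtain ⟨c, hc⟩ := h.get hx
  obtain ⟨d, hd⟩ := h.get hy
  rw [map_mul, map_mul, hc, hd]
  simp only [mul_add, add_mul, mul_one, one_mul, smul_mul_assoc, mul_smul_comm]
  module

theorem IsRS.ne_bot (h : IsRS F ι s A) (hs : s ≠ 0) : A ≠ ⊥ := by
  intro h0
  obtain ⟨x, hx, hx1⟩ := h.exists_mem 1
  rw [h0, Subgroup.mem_bot] at hx
  rw [hx, map_one, one_smul] at hx1
  exact hs (by simpa using hx1.symm)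

theorem IsRS.conj (h : IsRS F ι s A) (g : H) : IsRS F ι (ι g * s * ι g⁻¹) (conjBy A g) where
  mem_iff x := by
    rw [mem_conjBy, h.mem_iff]
    have hgg : ι g * ι g⁻¹ = 1 := by rw [← map_mul, mul_inv_cancel, map_one]
    have hgg' : ι g⁻¹ * ι g = 1 := by rw [← map_mul, inv_mul_cancel, map_one]
    apply exists_congr
    intro c
    rw [map_mul, map_mul]
    constructor
    · intro hc
      have h1 : ι g * (ι g⁻¹ * ι x * ι g) * ι g⁻¹ = ι x := by
        calc ι g * (ι g⁻¹ * ι x * ι g) * ι g⁻¹ = (ι g * ι g⁻¹) * ι x * (ι g * ι g⁻¹) := by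
              simp only [mul_assoc]
          _ = ι x := by rw [hgg, one_mul, mul_one]
      rw [← h1, hc, mul_add, add_mul, mul_one, hgg, mul_smul_comm, smul_mul_assoc]
    · intro hc
      rw [hc, mul_add, add_mul, mul_one, hgg', mul_smul_comm, smul_mul_assoc]
      have h1 : ι g⁻¹ * (ι g * s * ι g⁻¹) * ι g = s := by
        calc ι g⁻¹ * (ι g * s * ι g⁻¹) * ι g = (ι g⁻¹ * ι g) * s * (ι g⁻¹ * ι g) := by
              simp only [mul_assoc]
          _ = s := by rw [hgg', one_mul, mul_one]
      rw [h1]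
  surj c := by
    obtain ⟨x, hx⟩ := h.surj c
    have hgg : ι g * ι g⁻¹ = 1 := by rw [← map_mul, mul_inv_cancel, map_one]
    refine ⟨g * x * g⁻¹, ?_⟩
    rw [map_mul, map_mul, hx, mul_add, add_mul, mul_one, hgg, mul_smul_comm, smul_mul_assoc]

/-! ### Commuting pairs -/

theorem IsRS.commutator_eq_bot (hA : IsRS F ι s A) (hB : IsRS F ι t B) (hι : Function.Injective ι)
    (hst : s * t = t * s) : ⁅A, B⁆ = ⊥ := by
  rw [commutator_eq_bot_iff_forall]
  intro a ha b hb
  apply hι
  obtain ⟨c, hc⟩ := hA.get ha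
  obtain ⟨d, hd⟩ := hB.get hb
  rw [map_mul, map_mul, hc, hd]
  simp only [mul_add, add_mul, mul_one, one_mul, smul_mul_assoc, mul_smul_comm]
  rw [hst]
  module

/-! ### The commutator case -/

theorem inv_formula (ι : H →* R) {s : R} (hs : s * s = 0) {x : H} {c : F} (hx : ι x = 1 + c • s) :
    ι x⁻¹ = 1 - c • s := by
  have h1 : ι x * ι x⁻¹ = 1 := by rw [← map_mul, mul_inv_cancel, map_one]
  have h2 : (1 - c • s) * ι x = 1 := by
    rw [hx]
    simp only [mul_add, sub_mul, mul_one, one_mul, smul_mul_assoc, mul_smul_comm, hs, smul_zero]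
    module
  calc ι x⁻¹ = ((1 - c • s) * ι x) * ι x⁻¹ := by rw [h2, one_mul]
    _ = 1 - c • s := by rw [mul_assoc, h1, mul_one]

theorem commutator_formula (ι : H →* R) {s t : R} (hs : s * s = 0) (ht : t * t = 0)
    (hsts : s * t * s = 0) (htst : t * s * t = 0) {x y : H} {c d : F} (hx : ι x = 1 + c • s)
    (hy : ι y = 1 + d • t) : ι (x * y * x⁻¹ * y⁻¹) = 1 + (c * d) • (s * t - t * s) := by
  rw [map_mul, map_mul, map_mul, inv_formula ι hs hx, inv_formula ι ht hy, hx, hy]
  have hsts' : s * (t * s) = 0 := by rw [← mul_assoc]; exact hsts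
  have htst' : t * (s * t) = 0 := by rw [← mul_assoc]; exact htst
  simp only [mul_add, add_mul, mul_sub, sub_mul, mul_one, one_mul, smul_mul_assoc, mul_smul_comm, smul_sub,
    mul_assoc, hs, ht, hsts', htst', smul_zero, smul_smul, mul_zero, add_zero]
  module

theorem rootCommutatorCase_of (S : Set (Subgroup H)) (hA : IsRS F ι s A) (hB : IsRS F ι t B)
    (hC : IsRS F ι u C) (hι : Function.Injective ι) (hs : s * s = 0) (ht : t * t = 0)
    (hsts : s * t * s = 0) (htst : t * s * t = 0) {β : F} (hβ : β ≠ 0) (hu : s * t - t * s = β • u)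
    (hCS : C ∈ S) : RootCommutatorCase S A B := by
  have hsts' : s * (t * s) = 0 := by rw [← mul_assoc]; exact hsts
  have htst' : t * (s * t) = 0 := by rw [← mul_assoc]; exact htst
  have hform : ∀ {x y : H} {c d : F}, ι x = 1 + c • s → ι y = 1 + d • t →
      ι (x * y * x⁻¹ * y⁻¹) = 1 + (c * d * β) • u := by
    intro x y c d hx hy
    rw [commutator_formula ι hs ht hsts htst hx hy, hu, smul_smul]
  have hmem : ∀ x ∈ A, ∀ y ∈ B, x * y * x⁻¹ * y⁻¹ ∈ C := by
    intro x hx y hy
    obtain ⟨c, hc⟩ := hA.get hx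
    obtain ⟨d, hd⟩ := hB.get hy
    exact (hC.mem_iff _).2 ⟨_, hform hc hd⟩
  have hle : ⁅A, B⁆ ≤ C := by
    rw [Subgroup.commutator_le]
    intro a ha b hb
    rw [commutatorElement_def]
    exact hmem a ha b hb
  -- every element of C is a commutator with a prescribed non-identity element of A
  have hl : ∀ a ∈ A, a ≠ 1 → ∀ z ∈ C, ∃ b ∈ B, z = a * b * a⁻¹ * b⁻¹ := by
    intro a ha ha1 z hz
    obtain ⟨c, hc⟩ := hA.get ha
    have hc0 : c ≠ 0 := by
      rintro rfl
      apply ha1
      apply hι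
      rw [hc, zero_smul, add_zero, map_one]
    obtain ⟨e, he⟩ := hC.get hz
    obtain ⟨b, hb, hbe⟩ := hB.exists_mem (e / (c * β))
    refine ⟨b, hb, ?_⟩
    apply hι
    rw [hform hc hbe, he]
    congr 2
    field_simp
  have hr : ∀ b ∈ B, b ≠ 1 → ∀ z ∈ C, ∃ a ∈ A, z = a * b * a⁻¹ * b⁻¹ := by
    intro b hb hb1 z hz
    obtain ⟨d, hd⟩ := hB.get hb
    have hd0 : d ≠ 0 := by
      rintro rfl
      apply hb1
      apply hι
      rw [hd, zero_smul, add_zero, map_one]
    obtain ⟨e, he⟩ := hC.get hz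
    obtain ⟨a, ha, hae⟩ := hA.exists_mem (e / (d * β))
    refine ⟨a, ha, ?_⟩
    apply hι
    rw [hform hae hd, he]
    congr 2
    field_simp
  have hcla : ∀ a ∈ A, a ≠ 1 → Subgroup.closure ((fun b : H => a * b * a⁻¹ * b⁻¹) '' (B : Set H)) = C := by
    intro a ha ha1
    apply le_antisymm
    · rw [Subgroup.closure_le]
      rintro _ ⟨b, hb, rfl⟩
      exact hmem a ha b hb
    · intro z hz
      obtain ⟨b, hb, rfl⟩ := hl a ha ha1 z hz
      exact Subgroup.subset_closure ⟨b, hb, rfl⟩
  have hclb : ∀ b ∈ B, b ≠ 1 → Subgroup.closure ((fun a : H => a * b * a⁻¹ * b⁻¹) '' (A : Set H)) = C := by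
    intro b hb hb1
    apply le_antisymm
    · rw [Subgroup.closure_le]
      rintro _ ⟨a, ha, rfl⟩
      exact hmem a ha b hb
    · intro z hz
      obtain ⟨a, ha, rfl⟩ := hr b hb hb1 z hz
      exact Subgroup.subset_closure ⟨a, ha, rfl⟩
  have heq : ⁅A, B⁆ = C := by
    apply le_antisymm hle
    intro z hz
    by_cases hs0 : s = 0
    · -- then u = 0
      have hu0 : u = 0 := by
        have h1 : β • u = 0 := by rw [← hu, hs0]; simp
        exact (smul_eq_zero.1 h1).resolve_left hβ
      obtain ⟨e, he⟩ := hC.get hz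
      have : z = 1 := by
        apply hι
        rw [he, hu0, smul_zero, add_zero, map_one]
      rw [this]
      exact one_mem _
    · obtain ⟨a, ha, ha1⟩ := hA.exists_mem 1
      have ha1' : a ≠ 1 := by
        rintro rfl
        rw [map_one, one_smul] at ha1
        exact hs0 (by simpa using ha1.symm)
      obtain ⟨b, hb, rfl⟩ := hl a ha ha1' z hz
      have := Subgroup.commutator_mem_commutator ha hb
      rwa [commutatorElement_def] at this
  refine ⟨by rw [heq]; exact hCS, ?_, ?_, ?_⟩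
  · rw [heq]
    intro z hz
    obtain ⟨e, he⟩ := hC.get hz
    -- z commutes with A and with B
    have hsu : s * u = u * s := by
      have h1 : β • (s * u) = β • (u * s) := by
        rw [← mul_smul_comm, ← smul_mul_assoc, ← hu, mul_sub, sub_mul, ← mul_assoc, hs, hsts, mul_assoc t, hs,
          hsts']
        simp
      exact smul_right_injective R hβ h1
    have htu : t * u = u * t := by
      have h1 : β • (t * u) = β • (u * t) := by
        rw [← mul_smul_comm, ← smul_mul_assoc, ← hu, mul_sub, sub_mul, htst', ← mul_assoc, ht, mul_assoc s, ht,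
          htst]
        simp
      exact smul_right_injective R hβ h1
    have hcA : A ≤ Subgroup.centralizer {z} := by
      intro a ha
      rw [Subgroup.mem_centralizer_singleton_iff]
      obtain ⟨c, hc⟩ := hA.get ha
      apply hι
      rw [map_mul, map_mul, hc, he]
      simp only [mul_add, add_mul, mul_one, one_mul, smul_mul_assoc, mul_smul_comm]
      rw [hsu]
      module
    have hcB : B ≤ Subgroup.centralizer {z} := by
      intro a ha
      rw [Subgroup.mem_centralizer_singleton_iff]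
      obtain ⟨c, hc⟩ := hB.get ha
      apply hι
      rw [map_mul, map_mul, hc, he]
      simp only [mul_add, add_mul, mul_one, one_mul, smul_mul_assoc, mul_smul_comm]
      rw [htu]
      module
    intro x hx
    have := (sup_le hcA hcB) hx
    rw [Subgroup.mem_centralizer_singleton_iff] at this
    exact this.symm
  · intro a ha ha1
    rw [heq]
    exact hcla a ha ha1
  · intro b hb hb1
    rw [heq]
    exact hclb b hb hb1

end

end Cfsg.Agent.H743
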