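/-
Root groups {1 + c s}, {1 + c t} with s t s = s, t s t = t generate SL₂ (helper743, section 63).
-/
import Cfsg.Agent.H743.RootAlg

set_option autoImplicit false
open Cfsg

namespace Cfsg.Agent.H743

open Cfsg.Agent.H731 Cfsg.Agent.H733 Cfsg.Agent.H742

section

variable {F R H : Type*} [Field F] [Ring R] [Algebra F R] [Group H]

/-- The map `g ↦ 1 - (st + ts) + g₀₀ st + g₀₁ s + g₁₀ t + g₁₁ ts`. -/
def invM (s t : R) (g : Matrix.SpecialLinearGroup (Fin 2) F) : R :=
  1 + (((g : Matrix (Fin 2) (Fin 2) F) 0 0 - 1) • (s * t) + ((g : Matrix (Fin 2) (Fin 2) F) 0 1) • s +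
    ((g : Matrix (Fin 2) (Fin 2) F) 1 0) • t + ((g : Matrix (Fin 2) (Fin 2) F) 1 1 - 1) • (t * s))

theorem invM_one (s t : R) : invM (F := F) s t 1 = 1 := by
  unfold invM
  rw [one_00, one_01, one_10, one_11]
  simp

theorem invM_mul {s t : R} (hs : s * s = 0) (ht : t * t = 0) (hsts : s * t * s = s) (htst : t * s * t = t)
    (x y : Matrix.SpecialLinearGroup (Fin 2) F) : invM s t (x * y) = invM s t x * invM s t y := by
  have e1 : s * (t * s) = s := by rw [← mul_assoc]; exact hsts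
  have e2 : t * (s * t) = t := by rw [← mul_assoc]; exact htst
  have e3 : s * (s * t) = 0 := by rw [← mul_assoc, hs, zero_mul]
  have e4 : t * (t * s) = 0 := by rw [← mul_assoc, ht, zero_mul]
  unfold invM
  simp only [sl2_mul]
  simp only [mul_add, add_mul, mul_one, one_mul, smul_mul_assoc, mul_smul_comm, mul_assoc, hs, ht, e1, e2, e3,
    e4, smul_zero, mul_zero, add_zero, zero_add]
  module

/-- `invM` as a monoid homomorphism. -/
def invHom {s t : R} (hs : s * s = 0) (ht : t * t = 0) (hsts : s * t * s = s) (htst : t * s * t = t) :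
    Matrix.SpecialLinearGroup (Fin 2) F →* R where
  toFun := invM s t
  map_one' := invM_one s t
  map_mul' := invM_mul hs ht hsts htst

theorem invM_up (s t : R) (c : F) : invM s t (up F c) = 1 + c • s := by
  unfold invM
  rw [up_00, up_01, up_10, up_11]
  simp

theorem invM_lo (s t : R) (c : F) : invM s t (lo F c) = 1 + c • t := by
  unfold invM
  rw [lo_00, lo_01, lo_10, lo_11]
  simp

theorem invHom_injective {s t : R} (hs : s * s = 0) (ht : t * t = 0) (hsts : s * t * s = s)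
    (htst : t * s * t = t) (hs0 : s ≠ 0) :
    Function.Injective (invHom (F := F) hs ht hsts htst) := by
  have e1 : s * (t * s) = s := by rw [← mul_assoc]; exact hsts
  have e2 : t * (s * t) = t := by rw [← mul_assoc]; exact htst
  have e3 : s * (s * t) = 0 := by rw [← mul_assoc, hs, zero_mul]
  have e4 : t * (t * s) = 0 := by rw [← mul_assoc, ht, zero_mul]
  have key : ∀ g : Matrix.SpecialLinearGroup (Fin 2) F,
      s * t * invM s t g * s = ((g : Matrix (Fin 2) (Fin 2) F) 0 0) • s ∧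
      s * t * invM s t g * (t * s) = ((g : Matrix (Fin 2) (Fin 2) F) 0 1) • s ∧
      s * invM s t g * s = ((g : Matrix (Fin 2) (Fin 2) F) 1 0) • s ∧
      s * invM s t g * (t * s) = ((g : Matrix (Fin 2) (Fin 2) F) 1 1) • s := by
    intro g
    unfold invM
    refine ⟨?_, ?_, ?_, ?_⟩ <;>
    · simp only [mul_add, add_mul, mul_one, smul_mul_assoc, mul_smul_comm, mul_assoc, hs, ht, e1, e2, e3,
        e4, smul_zero, mul_zero, add_zero, zero_add]
      all_goals module
  intro x y hxy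
  have h1 : invM s t x = invM s t y := hxy
  obtain ⟨a1, a2, a3, a4⟩ := key x
  obtain ⟨b1, b2, b3, b4⟩ := key y
  rw [h1] at a1 a2 a3 a4
  have hinj : Function.Injective (fun c : F => c • s) := smul_left_injective F hs0
  exact sl2_ext (hinj (a1.symm.trans b1)) (hinj (a2.symm.trans b2)) (hinj (a3.symm.trans b3))
    (hinj (a4.symm.trans b4))

variable {ι : H →* R} {s t : R} {A B : Subgroup H}

/-- **SL₂-pairs of root groups.** -/
theorem isPSL2PairOver_of_inv (hA : IsRS F ι s A) (hB : IsRS F ι t B) (hι : Function.Injective ι)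
    (hs : s * s = 0) (ht : t * t = 0) (hsts : s * t * s = s) (htst : t * s * t = t) (hs0 : s ≠ 0) :
    IsPSL2PairOver F A B := by
  set ψ : Matrix.SpecialLinearGroup (Fin 2) F →* Rˣ := (invHom hs ht hsts htst).toHomUnits with hψ
  set ι' : H →* Rˣ := ι.toHomUnits with hι'
  have hιinj : Function.Injective ι' := by
    intro x y hxy
    exact hι (congrArg Units.val hxy)
  have hψinj : Function.Injective ψ := by
    intro x y hxy
    exact invHom_injective hs ht hsts htst hs0 (congrArg Units.val hxy)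
  have hup : ∀ c : F, (ψ (up F c) : R) = 1 + c • s := fun c => invM_up s t c
  have hlo : ∀ c : F, (ψ (lo F c) : R) = 1 + c • t := fun c => invM_lo s t c
  have hUA : (upperUnipotentSL2 F).map ψ = A.map ι' := by
    ext x
    constructor
    · rintro ⟨u, hu, rfl⟩
      obtain ⟨c, rfl⟩ := mem_upper_iff.1 hu
      obtain ⟨y, hy, hyc⟩ := hA.exists_mem c
      exact ⟨y, hy, Units.ext (hyc.trans (hup c).symm)⟩
    · rintro ⟨y, hy, rfl⟩
      obtain ⟨c, hc⟩ := hA.get hy
      exact ⟨up F c, up_mem c, Units.ext ((hup c).trans hc.symm)⟩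
  have hLB : (lowerUnipotentSL2 F).map ψ = B.map ι' := by
    ext x
    constructor
    · rintro ⟨u, hu, rfl⟩
      obtain ⟨c, rfl⟩ := mem_lower_iff.1 hu
      obtain ⟨y, hy, hyc⟩ := hB.exists_mem c
      exact ⟨y, hy, Units.ext (hyc.trans (hlo c).symm)⟩
    · rintro ⟨y, hy, rfl⟩
      obtain ⟨c, hc⟩ := hB.get hy
      exact ⟨lo F c, lo_mem c, Units.ext ((hlo c).trans hc.symm)⟩
  have hrange : ψ.range = (A ⊔ B).map ι' := by
    rw [MonoidHom.range_eq_map, ← lower_sup_upper, Subgroup.map_sup, Subgroup.map_sup, hUA, hLB, sup_comm]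
  have hle : ψ.range ≤ ι'.range := by
    rw [hrange]
    exact Subgroup.map_le_range _ _
  let e : H ≃* ι'.range := MonoidHom.ofInjective hιinj
  let φ : Matrix.SpecialLinearGroup (Fin 2) F →* H :=
    e.symm.toMonoidHom.comp ((Subgroup.inclusion hle).comp ψ.rangeRestrict)
  have hφ : ∀ g, ι' (φ g) = ψ g := by
    intro g
    have : e (φ g) = Subgroup.inclusion hle (ψ.rangeRestrict g) := e.apply_symm_apply _
    have h5 := congrArg Subtype.val this
    exact h5
  have hcomp : ι'.comp φ = ψ := MonoidHom.ext hφ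
  refine ⟨φ, ?_, ?_, ?_, ?_⟩
  · apply Subgroup.map_injective hιinj
    rw [← hrange, ← hcomp]
    exact (MonoidHom.range_comp ι' φ).symm
  · have : φ.ker = ⊥ := by
      rw [MonoidHom.ker_eq_bot_iff]
      intro x y hxy
      apply hψinj
      rw [← hφ, ← hφ, hxy]
    rw [this]
    exact bot_le
  · apply Subgroup.map_injective hιinj
    rw [Subgroup.map_map, hcomp, hUA]
  · apply Subgroup.map_injective hιinj
    rw [Subgroup.map_map, hcomp, hLB]

end

/-! ### k-root subgroup sets inside the subgroup generated by a family -/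

section crit

variable {G : Type*} [Group G] {T : Set (Subgroup G)} {k : Type*} [Field k]

theorem rcc_subgroupOf {A B : Subgroup G} (hA : A ∈ T) (hB : B ∈ T) (h : RootCommutatorCase T A B) :
    RootCommutatorCase ((fun A : Subgroup G => A.subgroupOf (⨆ B ∈ T, B)) '' T)
      (A.subgroupOf (⨆ B ∈ T, B)) (B.subgroupOf (⨆ B ∈ T, B)) := by
  obtain ⟨h1, h2, h3, h4⟩ := h
  have hAK := le_gen hA
  have hBK := le_gen hB
  set K := ⨆ B ∈ T, B with hK
  have hclos : ∀ (X : Set G) (hX : X ⊆ K), Subgroup.closure ((↑) ⁻¹' X : Set ↥K) =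
      (Subgroup.closure X).subgroupOf K := by
    intro X hX
    apply Subgroup.map_injective K.subtype_injective
    rw [Subgroup.map_subgroupOf_eq_of_le ((Subgroup.closure_le _).2 hX), MonoidHom.map_closure]
    congr 1
    ext x
    constructor
    · rintro ⟨y, hy, rfl⟩
      exact hy
    · intro hx
      exact ⟨⟨x, hX hx⟩, hx, rfl⟩
  rw [RootCommutatorCase, commutator_subgroupOf hAK hBK, sup_subgroupOf' hAK hBK]
  refine ⟨⟨_, h1, rfl⟩, ?_, ?_, ?_⟩
  · intro c hc x hx
    exact Subtype.ext (h2 c hc x hx)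
  · intro a ha ha1
    have h5 := h3 a ha (fun h => ha1 (Subtype.ext h))
    rw [← h5, ← hclos]
    · congr 1
      ext x
      constructor
      · rintro ⟨b, hb, rfl⟩
        exact ⟨b, hb, rfl⟩
      · rintro ⟨b, hb, hbx⟩
        exact ⟨⟨b, hBK hb⟩, hb, Subtype.ext hbx⟩
    · rintro _ ⟨b, hb, rfl⟩
      exact K.mul_mem (K.mul_mem (K.mul_mem a.2 (hBK hb)) (K.inv_mem a.2)) (K.inv_mem (hBK hb))
  · intro b hb hb1
    have h5 := h4 b hb (fun h => hb1 (Subtype.ext h))
    rw [← h5, ← hclos]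
    · congr 1
      ext x
      constructor
      · rintro ⟨a, ha, rfl⟩
        exact ⟨a, ha, rfl⟩
      · rintro ⟨a, ha, hax⟩
        exact ⟨⟨a, hAK ha⟩, ha, Subtype.ext hax⟩
    · rintro _ ⟨a, ha, rfl⟩
      exact K.mul_mem (K.mul_mem (K.mul_mem (hAK ha) b.2) (K.inv_mem (hAK ha))) (K.inv_mem b.2)

/-- **Criterion for a set of `k`-root subgroups, inside the subgroup it generates.** -/
theorem kRootSet_sub (hc : ∀ A ∈ T, IsMulCommutative A) (hb : ∀ A ∈ T, A ≠ ⊥)
    (hconj : ∀ A ∈ T, ∀ g : G, conjBy A g ∈ T)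
    (hp : ∀ A ∈ T, ∀ B ∈ T, ⁅A, B⁆ = ⊥ ∨ IsPSL2PairOver k A B ∨ RootCommutatorCase T A B) :
    IsKRootSubgroupSet k ((fun A : Subgroup G => A.subgroupOf (⨆ B ∈ T, B)) '' T) := by
  have hp' : ∀ A ∈ T, ∀ B ∈ T,
      ⁅A.subgroupOf (⨆ B ∈ T, B), B.subgroupOf (⨆ B ∈ T, B)⁆ = ⊥ ∨
      IsPSL2PairOver k (A.subgroupOf (⨆ B ∈ T, B)) (B.subgroupOf (⨆ B ∈ T, B)) ∨
      RootCommutatorCase ((fun A : Subgroup G => A.subgroupOf (⨆ B ∈ T, B)) '' T)
        (A.subgroupOf (⨆ B ∈ T, B)) (B.subgroupOf (⨆ B ∈ T, B)) := by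
    intro A hA B hB
    rcases hp A hA B hB with h | h | h
    · exact Or.inl ((commutator_subgroupOf_eq_bot_iff (le_gen hA) (le_gen hB)).2 h)
    · exact Or.inr (Or.inl (isPSL2PairOver_subgroupOf (le_gen hA) (le_gen hB) h))
    · exact Or.inr (Or.inr (rcc_subgroupOf hA hB h))
  have hS : IsRootSubgroupSet ((fun A : Subgroup G => A.subgroupOf (⨆ B ∈ T, B)) '' T) := by
    constructor
    · rintro _ ⟨A, hA, rfl⟩
      exact subgroupOf_comm (hc A hA)
    · rintro _ ⟨A, hA, rfl⟩
      exact subgroupOf_ne_bot (le_gen hA) (hb A hA)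
    · exact subgroupOf_generates T
    · rintro _ ⟨A, hA, rfl⟩ g
      exact ⟨conjBy A (g : G), hconj A hA g, (conjBy_subgroupOf A g).symm⟩
    · rintro _ ⟨A, hA, rfl⟩ _ ⟨B, hB, rfl⟩
      rcases hp' A hA B hB with h | h | h
      · exact Or.inl h
      · exact Or.inr (Or.inl (isRankOnePair_of_isPSL2PairOver h))
      · exact Or.inr (Or.inr h)
  refine ⟨hS, ?_⟩
  rintro _ ⟨A, hA, rfl⟩ _ ⟨B, hB, rfl⟩ h
  rcases hp' A hA B hB with h0 | h0 | h0
  · exact absurd h0 (rankOne_commutator_ne_bot h)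
  · exact h0
  · exact absurd h0 (rankOne_not_rcc hS ⟨B, hB, rfl⟩ h)

end crit

end Cfsg.Agent.H743
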