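import Cfsg.Agent.H233.B3.Row2

/-!
# S5761: rows where `P ∩ P ^ x` has prime order (helper743, task 2819)
-/

set_option autoImplicit false

namespace Cfsg.Agent.H743.RowThree

open Subgroup Cfsg.Agent.H903.SylMeet Cfsg.Agent.H233.B3

variable {p : ℕ} {T : Type*} [Group T]

/-- no nontrivial normal `p`-subgroup in a group between `Inn T` and `Aut T` -/
theorem eq_one_of_normal [Fact p.Prime] [Finite T] [IsSimpleGroup T] (hT : ¬ IsMulCommutative T)
    (A : Subgroup (MulAut T))
    (hIA : ∀ t : T, MulAut.conj t ∈ A) (N : Subgroup A) (hNn : N.Normal) (h2 : IsPGroup p N) (d : A) (hd : d ∈ N) :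
    (d : MulAut T) = 1 := by
  have hinj : Function.Injective (MulAut.conj : T →* MulAut T) := conj_injective hT
  have hNc : ∀ a ∈ A, ∀ y ∈ N.map A.subtype, a * y * a⁻¹ ∈ N.map A.subtype := by
    rintro a ha _ ⟨n, hn, rfl⟩
    exact ⟨⟨a, ha⟩ * n * ⟨a, ha⟩⁻¹, hNn.conj_mem n hn _, rfl⟩
  have hdN' : (d : MulAut T) ∈ N.map A.subtype := ⟨_, hd, rfl⟩
  -- `N ∩ Inn T = 1`
  let K : Subgroup T := (N.map A.subtype).comap MulAut.conj
  have hKn : K.Normal := ⟨by
    intro t ht s
    have h3 := hNc (MulAut.conj s) (hIA s) (MulAut.conj t) ht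
    rw [← map_mul, ← map_inv, ← map_mul] at h3
    exact h3⟩
  have hKp : IsPGroup p K := by
    have h3 : IsPGroup p (N.map A.subtype : Subgroup (MulAut T)) := h2.map _
    exact h3.comap_of_injective _ hinj
  have hKb : K = ⊥ := by
    rcases hKn.eq_bot_or_eq_top with h | h
    · exact h
    · exfalso
      apply hT
      have h4 : IsPGroup p T := by
        intro t
        have ht : t ∈ K := by rw [h]; trivial
        obtain ⟨k, hk⟩ := hKp ⟨t, ht⟩
        exact ⟨k, by simpa using congrArg Subtype.val hk⟩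
      have : Nontrivial T := IsSimpleGroup.toNontrivial
      have h5 := h4.center_nontrivial
      have h6 := center_eq_bot hT
      rw [h6] at h5
      exact absurd h5 (not_nontrivial _)
  ext t
  have h7 : (d : MulAut T) * MulAut.conj t * (d : MulAut T)⁻¹ * (MulAut.conj t)⁻¹ ∈ N.map A.subtype := by
    have h3 := mul_mem hdN' (hNc (MulAut.conj t) (hIA t) (d : MulAut T)⁻¹ (inv_mem hdN'))
    simpa [mul_assoc] using h3
  rw [conj_apply_aut, ← map_inv, ← map_mul] at h7
  have h8 : (d : MulAut T) t * t⁻¹ ∈ K := h7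
  rw [hKb, mem_bot, mul_inv_eq_one] at h8
  rw [h8]
  rfl

/-- **Baer–Suzuki**, with conjugating elements in `T`. -/
theorem exists_pair [Fact p.Prime] [Finite T] [IsSimpleGroup T] (hT : ¬ IsMulCommutative T) {d : MulAut T}
    (hd1 : d ≠ 1) :
    ∃ g : T, ¬ IsPGroup p (closure ({d, MulAut.conj g * d * (MulAut.conj g)⁻¹} : Set (MulAut T)) :
      Subgroup (MulAut T)) := by
  by_contra hcon
  push Not at hcon
  apply hd1
  obtain ⟨A, hA⟩ : ∃ A : Subgroup (MulAut T), A = zpowers d ⊔ (MulAut.conj : T →* MulAut T).range := ⟨_, rfl⟩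
  have hdA : d ∈ A := by rw [hA]; exact (le_sup_left : zpowers d ≤ _) (mem_zpowers d)
  have hIA : ∀ t : T, MulAut.conj t ∈ A := by
    intro t
    rw [hA]
    exact (le_sup_right : (MulAut.conj : T →* MulAut T).range ≤ _) ⟨t, rfl⟩
  have hIn : ((MulAut.conj : T →* MulAut T).range).Normal := ⟨by
    rintro _ ⟨t, rfl⟩ g
    exact ⟨g t, (conj_apply_aut g t).symm⟩⟩
  refine eq_one_of_normal (p := p) hT A hIA (Subgroup.normalClosure {(⟨d, hdA⟩ : A)})
    Subgroup.normalClosure_normal ?_ ⟨d, hdA⟩ (Subgroup.subset_normalClosure rfl)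
  refine Cfsg.Agent.Involutions.BaerSuzuki.baer_suzuki_element (p := p) (⟨d, hdA⟩ : A) fun a => ?_
  obtain ⟨_, ⟨t, rfl⟩, w, hw, e⟩ := Subgroup.mem_sup_of_normal_left.1 (show (a : MulAut T) ∈
    (MulAut.conj : T →* MulAut T).range ⊔ zpowers d by rw [sup_comm, ← hA]; exact a.2)
  obtain ⟨k, rfl⟩ := mem_zpowers_iff.1 hw
  have h1 : (a : MulAut T) * d * (a : MulAut T)⁻¹ = MulAut.conj t * d * (MulAut.conj t)⁻¹ := by
    rw [← e]
    have h2 : d ^ k * d * (d ^ k)⁻¹ = d := by group
    calc MulAut.conj t * d ^ k * d * (MulAut.conj t * d ^ k)⁻¹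
        = MulAut.conj t * (d ^ k * d * (d ^ k)⁻¹) * (MulAut.conj t)⁻¹ := by group
      _ = _ := by rw [h2]
  have h3 := hcon t
  refine (h3.comap_of_injective A.subtype A.subtype_injective).to_le ?_
  rw [closure_le]
  rintro z (rfl | rfl)
  · exact subset_closure (Set.mem_insert _ _)
  · refine subset_closure (Set.mem_insert_of_mem _ ?_)
    exact h1

/-- **`P ∩ P ^ x` of prime order.** -/
theorem g3_of_prime [Fact p.Prime] [Finite T] [IsSimpleGroup T] (hT : ¬ IsMulCommutative T)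
    {P : Subgroup (MulAut T)} (hP : IsPGroup p P) (x : T) (h : Nat.card (DD P x) ≤ p)
    (hi : 4 * p < (inn P).index) : G3 P := by
  classical
  have hp : p.Prime := Fact.out
  have hDp : IsPGroup p (DD P x) := hP.to_le inf_le_left
  obtain ⟨k, hk⟩ := hDp.exists_card_eq
  rcases Nat.lt_or_ge 1 k with h1 | h1
  · exfalso
    have h2 : p ^ 2 ≤ p ^ k := Nat.pow_le_pow_right hp.pos h1
    rw [hk] at h
    have h3 := hp.two_le
    nlinarith
  rcases Nat.eq_zero_or_pos k with h0 | h0
  · rw [h0, pow_zero, Subgroup.card_eq_one] at hk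
    refine g3_of_meet hT hP x fun y hy hxy => ?_
    have h2 : y ∈ DD P x := ⟨hy, hxy⟩
    rw [hk] at h2
    exact h2
  have hk1 : k = 1 := by omega
  rw [hk1, pow_one] at hk
  -- a generator
  have hgen : ∀ y ∈ DD P x, y ≠ 1 → ∀ z ∈ DD P x, z ∈ zpowers y := by
    intro y hy hy1 z hz
    have h2 := zpowers_eq_top_of_prime_card (p := p) hk (g := (⟨y, hy⟩ : DD P x))
      (fun h => hy1 (congrArg Subtype.val h))
    have h3 : (⟨z, hz⟩ : DD P x) ∈ zpowers (⟨y, hy⟩ : DD P x) := by rw [h2]; trivial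
    obtain ⟨m, hm⟩ := mem_zpowers_iff.1 h3
    exact mem_zpowers_iff.2 ⟨m, by simpa using congrArg Subtype.val hm⟩
  obtain ⟨⟨d, hd⟩, hd1⟩ : ∃ d : DD P x, d ≠ 1 := by
    have : Nontrivial (DD P x) := Finite.one_lt_card_iff_nontrivial.1 (by rw [hk]; exact hp.one_lt)
    exact exists_ne 1
  have hd1' : d ≠ 1 := fun h => hd1 (Subtype.ext h)
  obtain ⟨g, hg⟩ := exists_pair (p := p) hT hd1'
  have hbad : ∀ z : T, MulAut.conj z * d * (MulAut.conj z)⁻¹ ∈ P →
      ¬ MulAut.conj (z * g) * d * (MulAut.conj (z * g))⁻¹ ∈ P := by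
    intro z h2 h3
    apply hg
    have h4 : IsPGroup p (P.comap (MulAut.conj (MulAut.conj z)).toMonoidHom) :=
      hP.comap_of_injective _ (MulAut.conj (MulAut.conj z)).injective
    refine h4.to_le ?_
    rw [closure_le]
    rintro w (rfl | rfl)
    · exact h2
    · change MulAut.conj z * (MulAut.conj g * d * (MulAut.conj g)⁻¹) * (MulAut.conj z)⁻¹ ∈ P
      have h5 : MulAut.conj z * (MulAut.conj g * d * (MulAut.conj g)⁻¹) * (MulAut.conj z)⁻¹ =
          MulAut.conj (z * g) * d * (MulAut.conj (z * g))⁻¹ := by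
        rw [map_mul]; group
      rw [h5]
      exact h3
  have _ : Fintype T := Fintype.ofFinite T
  let B : T → Prop := fun z => MulAut.conj z * d * (MulAut.conj z)⁻¹ ∈ P
  have hc1 : Nat.card {z : T // B z} ≤ Nat.card {z : T // ¬ B z} := by
    refine Nat.card_le_card_of_injective (fun w => ⟨w.1 * g, hbad w.1 w.2⟩) ?_
    intro w w' hw
    have := congrArg Subtype.val hw
    exact Subtype.ext (mul_right_cancel this)
  have hc2 : Nat.card {z : T // B z} + Nat.card {z : T // ¬ B z} = Nat.card T := by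
    rw [Nat.card_eq_fintype_card, Nat.card_eq_fintype_card, Nat.card_eq_fintype_card]
    rw [Fintype.card_subtype_compl]
    have := Fintype.card_subtype_le B
    omega
  have hc3 : Nat.card {z : T // ¬ B z} ≤
      Nat.card {z : T // ∀ y ∈ DD P x, MulAut.conj z * y * (MulAut.conj z)⁻¹ ∈ P → y = 1} := by
    refine Nat.card_le_card_of_injective (fun w => ⟨w.1, fun y hy hyP => ?_⟩) ?_
    · by_contra hy1
      apply w.2
      obtain ⟨m, hm⟩ := mem_zpowers_iff.1 (hgen y hy hy1 d hd)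
      have h2 := zpow_mem hyP m
      rw [conj_zpow, hm] at h2
      exact h2
    · intro w w' hw
      exact Subtype.ext (congrArg
        (fun w : {z : T // ∀ y ∈ DD P x, MulAut.conj z * y * (MulAut.conj z)⁻¹ ∈ P → y = 1} => (w : T)) hw)
  apply g3_of_count x
  have hcard := Subgroup.index_mul_card (inn P)
  have hpos : 0 < Nat.card (inn P) := Nat.card_pos
  have h5 : 4 * p * Nat.card (inn P) < Nat.card T := by
    rw [← hcard]
    exact Nat.mul_lt_mul_of_pos_right hi hpos
  rw [hk]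
  have h6 : 2 * (2 * (p * Nat.card (inn P))) = 4 * p * Nat.card (inn P) := by ring
  omega

/-- `MeetIn p T`, the `p`-part of `|Out T|` at most `p`, and `p'`-part of `|T|` large. -/
theorem row3_of_meetIn_prime [Fact p.Prime] [Finite T] [IsSimpleGroup T] (hT : ¬ IsMulCommutative T)
    (h : ∀ R : Subgroup T, IsPGroup p R → ∃ x : T, ∀ y ∈ R, x * y * x⁻¹ ∈ R → y = 1)
    (ho : ¬ p ^ 2 ∣ Nat.card (MulAut T ⧸ (MulAut.conj : T →* MulAut T).range)) {m : ℕ} (hm : m.Coprime p)
    (hd : m ∣ Nat.card T) (hlt : 4 * p < m) : Row3 p T := by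
  intro P hP
  have hp : p.Prime := Fact.out
  obtain ⟨x, hx⟩ := exists_of_meetIn hT h hP
  have hIn : ((MulAut.conj : T →* MulAut T).range).Normal := ⟨by
    rintro _ ⟨t, rfl⟩ g
    exact ⟨g t, (conj_apply_aut g t).symm⟩⟩
  have hDp : IsPGroup p (DD P x) := hP.to_le inf_le_left
  obtain ⟨k, hk⟩ := hDp.exists_card_eq
  have h1 : Nat.card (DD P x) ∣ Nat.card (MulAut T ⧸ (MulAut.conj : T →* MulAut T).range) := by
    refine Subgroup.card_dvd_of_injective ((QuotientGroup.mk' _).comp (DD P x).subtype) ?_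
    rw [injective_iff_map_eq_one]
    intro y hy
    have h1 : (y : MulAut T) ∈ (MulAut.conj : T →* MulAut T).range := (QuotientGroup.eq_one_iff _).1 hy
    exact Subtype.ext (hx _ y.2 h1)
  have h2 : k ≤ 1 := by
    by_contra hcon
    apply ho
    refine dvd_trans ?_ h1
    rw [hk]
    exact pow_dvd_pow p (by omega)
  refine g3_of_prime hT hP x ?_ ?_
  · rw [hk]
    exact (Nat.pow_le_pow_right hp.pos h2).trans (by rw [pow_one])
  · obtain ⟨a, ha⟩ := (inn_pgroup hT hP).exists_card_eq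
    have h3 := Subgroup.index_mul_card (inn P)
    rw [ha] at h3
    have h4 : m ∣ (inn P).index := by
      rw [← h3] at hd
      exact (Nat.Coprime.pow_right a hm).dvd_of_dvd_mul_right hd
    exact lt_of_lt_of_le hlt (Nat.le_of_dvd (Nat.pos_of_ne_zero Subgroup.index_ne_zero_of_finite) h4)

end Cfsg.Agent.H743.RowThree
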