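/-
Siegel transvection groups of totally singular lines in a nondegenerate quadratic space (helper743, section 63).
-/
import Cfsg.Agent.H743.RootInv

set_option autoImplicit false
open Cfsg

namespace Cfsg.Agent.H743

open Cfsg.Agent.H731 Cfsg.Agent.H733 Cfsg.Agent.H742

section

variable {F V H : Type*} [Field F] [AddCommGroup V] [Module F V] [Group H]

/-- `q` is a quadratic form with polar form `B`, nondegenerate. -/
structure QS (q : V → F) (B : V →ₗ[F] V →ₗ[F] F) : Prop where
  add : ∀ u v, q (u + v) = q u + q v + B u v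
  smul : ∀ (c : F) v, q (c • v) = c ^ 2 * q v
  nondeg : ∀ u, (∀ v, B u v = 0) → u = 0

/-- `ι` identifies `H` with the isometry group of `q`. -/
structure IsoGrp (q : V → F) (ι : H →* Module.End F V) : Prop where
  inj : Function.Injective ι
  iso : ∀ h v, q (ι h v) = q v
  surj : ∀ f : Module.End F V, IsUnit f → (∀ v, q (f v) = q v) → ∃ h, ι h = f

/-- a basis of a totally singular line -/
structure IsLn (q : V → F) (B : V →ₗ[F] V →ₗ[F] F) (p r : V) : Prop where
  ind : LinearIndependent F ![p, r]
  qp : q p = 0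
  qr : q r = 0
  pr : B p r = 0

/-- The nilpotent map of a Siegel transvection. -/
def Nm (B : V →ₗ[F] V →ₗ[F] F) (p r : V) : Module.End F V :=
  (B p).smulRight r - (B r).smulRight p

theorem Nm_apply (B : V →ₗ[F] V →ₗ[F] F) (p r v : V) : Nm B p r v = B p v • r - B r v • p := rfl

variable {q : V → F} {B : V →ₗ[F] V →ₗ[F] F}

theorem QS.symm (hQ : QS q B) (u v : V) : B u v = B v u := by
  have h1 := hQ.add u v
  have h2 := hQ.add v u
  rw [add_comm v u, h1] at h2
  linear_combination h2

theorem QS.self (hQ : QS q B) (v : V) : B v v = 2 * q v := by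
  have h1 := hQ.add v v
  rw [← two_smul F v, hQ.smul] at h1
  linear_combination -h1

theorem QS.zero (hQ : QS q B) : q 0 = 0 := by
  have := hQ.smul 0 0
  simpa using this

theorem QS.self_eq_zero (hQ : QS q B) {v : V} (hv : q v = 0) : B v v = 0 := by
  rw [hQ.self, hv, mul_zero]

theorem QS.nondeg' (hQ : QS q B) {u : V} (hu : u ≠ 0) : ∃ v, B u v ≠ 0 := by
  by_contra hcon
  exact hu (hQ.nondeg u (fun v => by
    by_contra hv
    exact hcon ⟨v, hv⟩))

theorem Nm_add_left (B : V →ₗ[F] V →ₗ[F] F) (p p' r : V) : Nm B (p + p') r = Nm B p r + Nm B p' r := by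
  ext v
  simp only [Nm_apply, LinearMap.add_apply, map_add, smul_add, add_smul]
  abel

/-- Change of basis of the line. -/
theorem Nm_rebase (B : V →ₗ[F] V →ₗ[F] F) (p r : V) (a b c d : F) :
    Nm B (a • p + b • r) (c • p + d • r) = (a * d - b * c) • Nm B p r := by
  ext v
  simp only [Nm_apply, LinearMap.add_apply, map_add, map_smul, LinearMap.smul_apply, smul_eq_mul]
  module

theorem pair_ind_iff {p r : V} : LinearIndependent F ![p, r] ↔ ∀ a b : F, a • p + b • r = 0 → a = 0 ∧ b = 0 :=
  LinearIndependent.pair_iff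

theorem IsLn.rebase (hQ : QS q B) {p r : V} (h : IsLn q B p r) {a b c d : F} (hd : a * d - b * c ≠ 0) :
    IsLn q B (a • p + b • r) (c • p + d • r) := by
  have hpp := hQ.self_eq_zero h.qp
  have hrr := hQ.self_eq_zero h.qr
  have hrp : B r p = 0 := by rw [hQ.symm, h.pr]
  have hq : ∀ a b : F, q (a • p + b • r) = 0 := by
    intro a b
    rw [hQ.add, hQ.smul, hQ.smul, h.qp, h.qr]
    simp [h.pr]
  refine ⟨?_, hq a b, hq c d, ?_⟩
  · rw [pair_ind_iff]
    intro x y hxy
    have h1 : (x * a + y * c) • p + (x * b + y * d) • r = 0 := by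
      rw [← hxy]
      module
    obtain ⟨h2, h3⟩ := pair_ind_iff.1 h.ind _ _ h1
    constructor
    · have h4 : x * (a * d - b * c) = 0 := by linear_combination d * h2 - c * h3
      exact (mul_eq_zero.1 h4).resolve_right hd
    · have h4 : y * (a * d - b * c) = 0 := by linear_combination a * h3 - b * h2
      exact (mul_eq_zero.1 h4).resolve_right hd
  · simp [hpp, hrr, hrp, h.pr]

theorem IsLn.q_comb (hQ : QS q B) {p r : V} (h : IsLn q B p r) (a b : F) : q (a • p + b • r) = 0 := by
  rw [hQ.add, hQ.smul, hQ.smul, h.qp, h.qr]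
  simp [h.pr]

theorem IsLn.ne_zero_left {p r : V} (h : IsLn q B p r) : p ≠ 0 := by
  have := h.ind.ne_zero 0
  simpa using this

theorem IsLn.ne_zero_right {p r : V} (h : IsLn q B p r) : r ≠ 0 := by
  have := h.ind.ne_zero 1
  simpa using this

theorem Nm_sq (hQ : QS q B) {p r : V} (h : IsLn q B p r) : Nm B p r * Nm B p r = 0 := by
  have hpp := hQ.self_eq_zero h.qp
  have hrr := hQ.self_eq_zero h.qr
  have hrp : B r p = 0 := by rw [hQ.symm, h.pr]
  ext v
  rw [Module.End.mul_apply, LinearMap.zero_apply]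
  simp [Nm_apply, hpp, hrr, hrp, h.pr]

theorem Nm_iso (hQ : QS q B) {p r : V} (h : IsLn q B p r) (c : F) (v : V) :
    q ((1 + c • Nm B p r) v) = q v := by
  have h1 : (1 + c • Nm B p r) v = v + ((-(c * B r v)) • p + (c * B p v) • r) := by
    rw [LinearMap.add_apply, Module.End.one_apply, LinearMap.smul_apply, Nm_apply]
    module
  rw [h1, hQ.add, h.q_comb hQ]
  simp only [map_add, map_smul, smul_eq_mul]
  rw [hQ.symm v p, hQ.symm v r]
  ring

theorem Nm_unit (hQ : QS q B) {p r : V} (h : IsLn q B p r) (c : F) : IsUnit (1 + c • Nm B p r) := by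
  have hs := Nm_sq hQ h
  refine ⟨⟨1 + c • Nm B p r, 1 - c • Nm B p r, ?_, ?_⟩, rfl⟩
  · simp only [mul_sub, add_mul, mul_one, one_mul, smul_mul_assoc, mul_smul_comm, hs, smul_zero]
    module
  · simp only [mul_add, sub_mul, mul_one, one_mul, smul_mul_assoc, mul_smul_comm, hs, smul_zero]
    module

theorem Nm_ne_zero (hQ : QS q B) {p r : V} (h : IsLn q B p r) : Nm B p r ≠ 0 := by
  obtain ⟨v, hv⟩ := hQ.nondeg' h.ne_zero_left
  intro h0
  have h1 := congrArg (fun f : Module.End F V => f v) h0
  simp only [Nm_apply, LinearMap.zero_apply] at h1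
  have h2 : (-(B r v)) • p + (B p v) • r = 0 := by
    rw [← h1]
    module
  exact hv (pair_ind_iff.1 h.ind _ _ h2).2

end

/-! ### Vectors with prescribed products -/

section dual

variable {F V : Type*} [Field F] [AddCommGroup V] [Module F V] [FiniteDimensional F V]
variable {q : V → F} {B : V →ₗ[F] V →ₗ[F] F}

theorem QS.exists_vec (hQ : QS q B) {n : ℕ} {w : Fin n → V} (hw : LinearIndependent F w) (c : Fin n → F) :
    ∃ x, ∀ i, B (w i) x = c i := by
  -- the map V → Dual V is injective, hence surjective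
  have hinj : Function.Injective B := by
    rw [← LinearMap.ker_eq_bot, LinearMap.ker_eq_bot']
    intro u hu
    apply hQ.nondeg
    intro v
    rw [hu, LinearMap.zero_apply]
  have hsurj : Function.Surjective B := by
    have h1 : Module.finrank F V = Module.finrank F (V →ₗ[F] F) := (Subspace.dual_finrank_eq).symm
    exact (LinearMap.injective_iff_surjective_of_finrank_eq_finrank h1).1 hinj
  let f0 : (Submodule.span F (Set.range w)) →ₗ[F] F :=
    (Module.Basis.span hw).constr F c
  obtain ⟨f, hf⟩ := LinearMap.exists_extend f0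
  obtain ⟨x, hx⟩ := hsurj f
  refine ⟨x, fun i => ?_⟩
  rw [hQ.symm, hx]
  have h2 : f (w i) = f0 (Module.Basis.span hw i) := by
    rw [← hf, LinearMap.comp_apply, Submodule.subtype_apply, Module.Basis.span_apply]
  rw [h2]
  exact (Module.Basis.span hw).constr_basis F c i

end dual

end Cfsg.Agent.H743
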