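/-
Siegel transvection groups: pairs of lines and connectivity (helper743, section 63).
-/
import Cfsg.Agent.H743.Siegel

set_option autoImplicit false
open Cfsg

namespace Cfsg.Agent.H743

open Cfsg.Agent.H731 Cfsg.Agent.H733 Cfsg.Agent.H742

variable {F V H : Type*} [Field F] [AddCommGroup V] [Module F V] [Group H]
variable {q : V → F} {B : V →ₗ[F] V →ₗ[F] F} {ι : H →* Module.End F V}

/-- `A` is the Siegel transvection group of the line `⟨p, r⟩`. -/
structure Tg (q : V → F) (B : V →ₗ[F] V →ₗ[F] F) (ι : H →* Module.End F V) (p r : V) (A : Subgroup H) : Prop where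
  ln : IsLn q B p r
  rs : IsRS F ι (Nm B p r) A

/-- The family of Siegel transvection groups. -/
def Sg (q : V → F) (B : V →ₗ[F] V →ₗ[F] F) (ι : H →* Module.End F V) : Set (Subgroup H) :=
  {A | ∃ p r, Tg q B ι p r A}

theorem Tg.mem {p r : V} {A : Subgroup H} (h : Tg q B ι p r A) : A ∈ Sg q B ι := ⟨p, r, h⟩

theorem Tg.rebase (hQ : QS q B) {p r : V} {A : Subgroup H} (h : Tg q B ι p r A) {a b c d : F}
    (hd : a * d - b * c ≠ 0) : Tg q B ι (a • p + b • r) (c • p + d • r) A where
  ln := h.ln.rebase hQ hd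
  rs := by
    rw [Nm_rebase]
    exact h.rs.smul hd

theorem Tg.unique {p r : V} {A A' : Subgroup H} (h : Tg q B ι p r A) (h' : Tg q B ι p r A') : A = A' :=
  h.rs.unique h'.rs

/-- The group of a line exists. -/
theorem exists_Tg (hQ : QS q B) (hι : IsoGrp q ι) {p r : V} (h : IsLn q B p r) : ∃ A, Tg q B ι p r A := by
  have hsurj : ∀ c : F, ∃ x, ι x = 1 + c • Nm B p r := fun c =>
    hι.surj _ (Nm_unit hQ h c) (Nm_iso hQ h c)
  let A : Subgroup H :=
    { carrier := {x | ∃ c : F, ι x = 1 + c • Nm B p r}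
      mul_mem' := by
        rintro x y ⟨c, hc⟩ ⟨d, hd⟩
        refine ⟨c + d, ?_⟩
        rw [map_mul, hc, hd]
        simp only [mul_add, add_mul, mul_one, one_mul, smul_mul_assoc, mul_smul_comm, Nm_sq hQ h, smul_zero]
        module
      one_mem' := ⟨0, by rw [map_one, zero_smul, add_zero]⟩
      inv_mem' := by
        rintro x ⟨c, hc⟩
        refine ⟨-c, ?_⟩
        rw [inv_formula ι (Nm_sq hQ h) hc]
        module }
  exact ⟨A, h, fun x => Iff.rfl, hsurj⟩

/-! ### Conjugation -/

theorem IsoGrp.form (hQ : QS q B) (hι : IsoGrp q ι) (h : H) (u v : V) : B (ι h u) (ι h v) = B u v := by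
  have h1 := hQ.add u v
  have h2 := hQ.add (ι h u) (ι h v)
  rw [← map_add, hι.iso, hι.iso, hι.iso] at h2
  linear_combination h1 - h2

theorem ι_mul_inv (ι : H →* Module.End F V) (h : H) (v : V) : ι h (ι h⁻¹ v) = v := by
  rw [← Module.End.mul_apply, ← map_mul, mul_inv_cancel, map_one, Module.End.one_apply]

theorem ι_inv_mul (ι : H →* Module.End F V) (h : H) (v : V) : ι h⁻¹ (ι h v) = v := by
  rw [← Module.End.mul_apply, ← map_mul, inv_mul_cancel, map_one, Module.End.one_apply]

theorem Tg.conj (hQ : QS q B) (hι : IsoGrp q ι) {p r : V} {A : Subgroup H} (h : Tg q B ι p r A) (g : H) :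
    Tg q B ι (ι g p) (ι g r) (conjBy A g) where
  ln := by
    refine ⟨?_, by rw [hι.iso, h.ln.qp], by rw [hι.iso, h.ln.qr], by rw [hι.form hQ, h.ln.pr]⟩
    rw [pair_ind_iff]
    intro a b hab
    apply pair_ind_iff.1 h.ln.ind
    rw [← map_smul, ← map_smul, ← map_add] at hab
    have := congrArg (ι g⁻¹) hab
    rwa [ι_inv_mul, map_zero] at this
  rs := by
    have h1 : ι g * Nm B p r * ι g⁻¹ = Nm B (ι g p) (ι g r) := by
      ext v
      rw [Module.End.mul_apply, Module.End.mul_apply, Nm_apply, Nm_apply, map_sub, map_smul, map_smul]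
      have h2 : ∀ w, B w (ι g⁻¹ v) = B (ι g w) v := by
        intro w
        rw [← hι.form hQ g w (ι g⁻¹ v), ι_mul_inv]
      rw [h2, h2]
    rw [← h1]
    exact h.rs.conj g

/-! ### Pairs of lines -/

/-- Dual bases: an SL₂-pair. -/
theorem Tg.psl2_of_dual (hQ : QS q B) (hι : IsoGrp q ι) {p r p' r' : V} {A A' : Subgroup H}
    (h : Tg q B ι p r A) (h' : Tg q B ι p' r' A') (h1 : B p p' = 1) (h2 : B p r' = 0) (h3 : B r p' = 0)
    (h4 : B r r' = 1) : IsPSL2PairOver F A A' := by
  have hpp := hQ.self_eq_zero h.ln.qp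
  have hrr := hQ.self_eq_zero h.ln.qr
  have hrp : B r p = 0 := by rw [hQ.symm, h.ln.pr]
  have hpp' := hQ.self_eq_zero h'.ln.qp
  have hrr' := hQ.self_eq_zero h'.ln.qr
  have hrp' : B r' p' = 0 := by rw [hQ.symm, h'.ln.pr]
  have h1' : B p' p = 1 := by rw [hQ.symm, h1]
  have h2' : B r' p = 0 := by rw [hQ.symm, h2]
  have h3' : B p' r = 0 := by rw [hQ.symm, h3]
  have h4' : B r' r = 1 := by rw [hQ.symm, h4]
  -- use t = - Nm p' r'
  have ht : IsRS F ι (-Nm B p' r') A' := by
    have := h'.rs.smul (a := (-1 : F)) (neg_ne_zero.2 one_ne_zero)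
    rwa [neg_one_smul] at this
  refine isPSL2PairOver_of_inv h.rs ht hι.inj (Nm_sq hQ h.ln) ?_ ?_ ?_ (Nm_ne_zero hQ h.ln)
  · rw [neg_mul_neg, Nm_sq hQ h'.ln]
  · ext v
    rw [Module.End.mul_apply, Module.End.mul_apply]
    simp only [Nm_apply, LinearMap.neg_apply, map_sub, map_smul, map_neg, h1, h2, h3, h4, h1', h2', h3',
      h4']
    module
  · ext v
    rw [Module.End.mul_apply, Module.End.mul_apply]
    simp only [Nm_apply, LinearMap.neg_apply, map_sub, map_smul, map_neg, h1, h2, h3, h4, h1', h2', h3',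
      h4']
    module

/-- Opposite lines: an SL₂-pair. -/
theorem Tg.psl2_of_det (hQ : QS q B) (hι : IsoGrp q ι) {p r p' r' : V} {A A' : Subgroup H}
    (h : Tg q B ι p r A) (h' : Tg q B ι p' r' A') (hd : B p p' * B r r' - B p r' * B r p' ≠ 0) :
    IsPSL2PairOver F A A' := by
  set D := B p p' * B r r' - B p r' * B r p' with hD
  -- inverse of the pairing matrix
  have h2 : Tg q B ι ((B r r' / D) • p' + (-(B r p') / D) • r') ((-(B p r') / D) • p' + (B p p' / D) • r') A' := by
    apply h'.rebase hQ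
    have : B r r' / D * (B p p' / D) - -(B r p') / D * (-(B p r') / D) = 1 / D := by
      field_simp
      rw [hD]
      ring
    rw [this]
    exact one_div_ne_zero hd
  apply h.psl2_of_dual hQ hι h2
  · simp only [map_add, map_smul, smul_eq_mul]
    field_simp
    rw [hD]
    ring
  · simp only [map_add, map_smul, smul_eq_mul]
    field_simp
    ring
  · simp only [map_add, map_smul, smul_eq_mul]
    field_simp
    ring
  · simp only [map_add, map_smul, smul_eq_mul]
    field_simp
    rw [hD]
    ring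

/-- A line with a point orthogonal to another line and conversely. -/
theorem Tg.pair_of_radical (hQ : QS q B) (hι : IsoGrp q ι) {p r p' r' : V} {A A' : Subgroup H}
    (h : Tg q B ι p r A) (h' : Tg q B ι p' r' A') (h1 : B p p' = 0) (h2 : B p r' = 0) (h3 : B r p' = 0) :
    ⁅A, A'⁆ = ⊥ ∨ RootCommutatorCase (Sg q B ι) A A' := by
  have hpp := hQ.self_eq_zero h.ln.qp
  have hrr := hQ.self_eq_zero h.ln.qr
  have hrp : B r p = 0 := by rw [hQ.symm, h.ln.pr]
  have hpp' := hQ.self_eq_zero h'.ln.qp
  have hrr' := hQ.self_eq_zero h'.ln.qr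
  have hrp' : B r' p' = 0 := by rw [hQ.symm, h'.ln.pr]
  have h1' : B p' p = 0 := by rw [hQ.symm, h1]
  have h2' : B r' p = 0 := by rw [hQ.symm, h2]
  have h3' : B p' r = 0 := by rw [hQ.symm, h3]
  have h4' : B r' r = B r r' := hQ.symm _ _
  have hc : Nm B p r * Nm B p' r' - Nm B p' r' * Nm B p r = (B r r') • Nm B p p' := by
    ext v
    rw [LinearMap.sub_apply, Module.End.mul_apply, Module.End.mul_apply, LinearMap.smul_apply]
    simp only [Nm_apply, map_sub, map_smul, h1, h2, h3, h1', h2', h3', h4']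
    module
  have hsts : Nm B p r * Nm B p' r' * Nm B p r = 0 := by
    ext v
    rw [Module.End.mul_apply, Module.End.mul_apply]
    simp only [Nm_apply, map_sub, map_smul, h1, h2, h3, h1', h2', h3', h4', LinearMap.zero_apply]
    module
  have htst : Nm B p' r' * Nm B p r * Nm B p' r' = 0 := by
    ext v
    rw [Module.End.mul_apply, Module.End.mul_apply]
    simp only [Nm_apply, map_sub, map_smul, h1, h2, h3, h1', h2', h3', h4', LinearMap.zero_apply]
    module
  by_cases hz : (B r r') • Nm B p p' = 0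
  · left
    apply h.rs.commutator_eq_bot h'.rs hι.inj
    rw [hz, sub_eq_zero] at hc
    exact hc
  · right
    have hβ : B r r' ≠ 0 := fun h0 => hz (by rw [h0, zero_smul])
    have hN : Nm B p p' ≠ 0 := fun h0 => hz (by rw [h0, smul_zero])
    have hln : IsLn q B p p' := by
      refine ⟨?_, h.ln.qp, h'.ln.qp, h1⟩
      by_contra hcon
      rw [LinearIndependent.pair_iff] at hcon
      push Not at hcon
      obtain ⟨a, b, hab, hne⟩ := hcon
      apply hN
      -- p and p' are proportional
      by_cases ha : a = 0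
      · exfalso
        have hb := hne ha
        rw [ha, zero_smul, zero_add] at hab
        exact h'.ln.ne_zero_left ((smul_eq_zero.1 hab).resolve_left hb)
      · have h5 : p = (-(b / a)) • p' := by
          have h6 : a • (p - (-(b / a)) • p') = 0 := by
            rw [← hab, smul_sub, smul_smul]
            have : a * -(b / a) = -b := by field_simp
            rw [this]
            module
          have := (smul_eq_zero.1 h6).resolve_left ha
          exact sub_eq_zero.1 this
        ext v
        rw [Nm_apply, h5]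
        simp only [map_smul, LinearMap.smul_apply, smul_eq_mul, LinearMap.zero_apply]
        module
    obtain ⟨C, hC⟩ := exists_Tg hQ hι hln
    exact rootCommutatorCase_of _ h.rs h'.rs hC.rs hι.inj (Nm_sq hQ h.ln) (Nm_sq hQ h'.ln) hsts htst hβ hc hC.mem

/-- a 2 × 2 matrix of determinant zero has a nonzero left null vector -/
theorem exists_null {a b c d : F} (h : a * d - b * c = 0) : ∃ x y : F, (x ≠ 0 ∨ y ≠ 0) ∧ x * a + y * c = 0 ∧ x * b + y * d = 0 := by
  by_cases hc : c = 0
  · by_cases ha : a = 0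
    · by_cases hd : d = 0
      · exact ⟨0, 1, Or.inr one_ne_zero, by rw [ha, hc]; ring, by rw [hd]; ring⟩
      · exact ⟨d, -b, Or.inl hd, by rw [ha, hc]; ring, by ring⟩
    · have hd : d = 0 := by
        rw [hc, mul_zero, sub_zero] at h
        exact (mul_eq_zero.1 h).resolve_left ha
      exact ⟨0, 1, Or.inr one_ne_zero, by rw [hc]; ring, by rw [hd]; ring⟩
  · exact ⟨c, -a, Or.inl hc, by ring, by linear_combination -h⟩

theorem Tg.exists_rebase (hQ : QS q B) {p r : V} {A : Subgroup H} (h : Tg q B ι p r A) {x y : F}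
    (hxy : x ≠ 0 ∨ y ≠ 0) : ∃ c d : F, Tg q B ι (x • p + y • r) (c • p + d • r) A := by
  by_cases hx : x = 0
  · have hy : y ≠ 0 := hxy.resolve_left (fun h => h hx)
    exact ⟨1, 0, h.rebase hQ (by
      rw [hx]
      simpa using hy)⟩
  · exact ⟨0, 1, h.rebase hQ (by simpa using hx)⟩

/-- **Pairs of Siegel transvection groups.** -/
theorem Tg.pair (hQ : QS q B) (hι : IsoGrp q ι) {p r p' r' : V} {A A' : Subgroup H}
    (h : Tg q B ι p r A) (h' : Tg q B ι p' r' A') :
    ⁅A, A'⁆ = ⊥ ∨ IsPSL2PairOver F A A' ∨ RootCommutatorCase (Sg q B ι) A A' := by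
  by_cases hd : B p p' * B r r' - B p r' * B r p' = 0
  · obtain ⟨x, y, hxy, hx1, hx2⟩ := exists_null hd
    obtain ⟨c, d, h1⟩ := h.exists_rebase hQ hxy
    have hd' : B p p' * B r r' - B r p' * B p r' = 0 := by linear_combination hd
    obtain ⟨z, w, hzw, hz1, hz2⟩ := exists_null hd'
    obtain ⟨c', d', h2⟩ := h'.exists_rebase hQ hzw
    -- orthogonality
    have e1 : B (x • p + y • r) p' = 0 := by
      simp only [map_add, map_smul, LinearMap.add_apply, LinearMap.smul_apply, smul_eq_mul]
      exact hx1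
    have e2 : B (x • p + y • r) r' = 0 := by
      simp only [map_add, map_smul, LinearMap.add_apply, LinearMap.smul_apply, smul_eq_mul]
      exact hx2
    have e3 : B p (z • p' + w • r') = 0 := by
      simp only [map_add, map_smul, smul_eq_mul]
      exact hz1
    have e4 : B r (z • p' + w • r') = 0 := by
      simp only [map_add, map_smul, smul_eq_mul]
      exact hz2
    rcases h1.pair_of_radical hQ hι h2 (by rw [map_add, map_smul, map_smul, e1, e2]; simp)
      (by rw [map_add, map_smul, map_smul, e1, e2]; simp)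
      (by rw [map_add B, map_smul B, map_smul B, LinearMap.add_apply, LinearMap.smul_apply, LinearMap.smul_apply,
            e3, e4]
          simp) with h3 | h3
    · exact Or.inl h3
    · exact Or.inr (Or.inr h3)
  · exact Or.inr (Or.inl (h.psl2_of_det hQ hι h' hd))

/-! ### Connectivity -/

theorem Tg.fAdj (hQ : QS q B) (hι : IsoGrp q ι) {p r p' r' : V} {A A' : Subgroup H}
    (h : Tg q B ι p r A) (h' : Tg q B ι p' r' A') (hd : B p p' * B r r' - B p r' * B r p' ≠ 0) :
    FAdj (Sg q B ι) A A' :=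
  ⟨h.mem, h'.mem, isRankOnePair_of_isPSL2PairOver (h.psl2_of_det hQ hι h' hd)⟩

variable [FiniteDimensional F V]

/-- A vector orthogonal to `p, x, r, r'` which is not singular. -/
theorem exists_nonsingular (hQ : QS q B) (hdim : 5 ≤ Module.finrank F V) {p x r r' : V} (hp : q p = 0)
    (hx : q x = 0) (hr : q r = 0) (hr' : q r' = 0) (hpx : B p x = 1) (hpr : B p r = 0) (hpr' : B p r' = 0)
    (hrx : B r x = 0) (hrx' : B r' x = 0) (hβ : B r r' ≠ 0) :
    ∃ u, B p u = 0 ∧ B x u = 0 ∧ B r u = 0 ∧ B r' u = 0 ∧ q u ≠ 0 := by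
  by_contra hcon
  push Not at hcon
  -- a nonzero vector orthogonal to all four
  let f : V →ₗ[F] (Fin 4 → F) := LinearMap.pi ![B p, B x, B r, B r']
  have hker : LinearMap.ker f ≠ ⊥ := by
    apply LinearMap.ker_ne_bot_of_finrank_lt
    rw [Module.finrank_fin_fun]
    omega
  obtain ⟨u, hu, hu0⟩ := (Submodule.ne_bot_iff _).1 hker
  rw [LinearMap.mem_ker] at hu
  have hup : B p u = 0 := congrFun hu 0
  have hux : B x u = 0 := congrFun hu 1
  have hur : B r u = 0 := congrFun hu 2
  have hur' : B r' u = 0 := congrFun hu 3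
  apply hu0
  apply hQ.nondeg
  intro v
  have hxp : B x p = 1 := by rw [hQ.symm, hpx]
  have hrp : B r p = 0 := by rw [hQ.symm, hpr]
  have hr'p : B r' p = 0 := by rw [hQ.symm, hpr']
  have hxr : B x r = 0 := by rw [hQ.symm, hrx]
  have hxr' : B x r' = 0 := by rw [hQ.symm, hrx']
  have hr'r : B r' r = B r r' := hQ.symm _ _
  set v' := v - (B x v) • p - (B p v) • x - (B r' v / B r r') • r - (B r v / B r r') • r' with hv'
  have h1 : B p v' = 0 := by
    rw [hv']
    simp only [map_sub, map_smul, smul_eq_mul, hQ.self_eq_zero hp, hpx, hpr, hpr']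
    ring
  have h2 : B x v' = 0 := by
    rw [hv']
    simp only [map_sub, map_smul, smul_eq_mul, hQ.self_eq_zero hx, hxp, hxr, hxr']
    ring
  have h3 : B r v' = 0 := by
    rw [hv']
    simp only [map_sub, map_smul, smul_eq_mul, hQ.self_eq_zero hr, hrp, hrx]
    field_simp
    ring
  have h4 : B r' v' = 0 := by
    rw [hv']
    simp only [map_sub, map_smul, smul_eq_mul, hQ.self_eq_zero hr', hr'p, hrx', hr'r]
    field_simp
    ring
  have q1 : q u = 0 := hcon u hup hux hur hur'
  have q2 : q v' = 0 := hcon v' h1 h2 h3 h4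
  have q3 : q (u + v') = 0 := hcon (u + v') (by rw [map_add, hup, h1, add_zero]) (by rw [map_add, hux, h2, add_zero])
    (by rw [map_add, hur, h3, add_zero]) (by rw [map_add, hur', h4, add_zero])
  rw [hQ.add, q1, q2] at q3
  have h5 : B u v' = 0 := by linear_combination q3
  rw [hv'] at h5
  simp only [map_sub, map_smul, smul_eq_mul, hQ.symm u p, hQ.symm u x, hQ.symm u r, hQ.symm u r', hup, hux, hur,
    hur'] at h5
  linear_combination h5

/-- Two lines through a point have a common opposite line. -/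
theorem exists_common_opp (hQ : QS q B) (hdim : 5 ≤ Module.finrank F V) {p r r' : V} (h : IsLn q B p r)
    (h' : IsLn q B p r') (hind : LinearIndependent F ![p, r, r']) :
    ∃ x y, IsLn q B x y ∧ B p x = 1 ∧ B r x = 0 ∧ B r' x = 0 ∧ B p y = 0 ∧ B r y ≠ 0 ∧ B r' y ≠ 0 := by
  have hp := h.qp
  have hr := h.qr
  have hr' := h'.qr
  have hpr := h.pr
  have hpr' := h'.pr
  have hrp : B r p = 0 := by rw [hQ.symm, hpr]
  have hr'p : B r' p = 0 := by rw [hQ.symm, hpr']
  -- the point x
  obtain ⟨x0, hx0⟩ := hQ.exists_vec hind ![1, 0, 0]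
  have a0 : B p x0 = 1 := hx0 0
  have a1 : B r x0 = 0 := hx0 1
  have a2 : B r' x0 = 0 := hx0 2
  obtain ⟨x, hqx, hpx, hrx, hrx'⟩ : ∃ x, q x = 0 ∧ B p x = 1 ∧ B r x = 0 ∧ B r' x = 0 := by
    refine ⟨x0 + (-(q x0)) • p, ?_, ?_, ?_, ?_⟩
    · rw [hQ.add, hQ.smul, hp, map_smul, hQ.symm, a0, smul_eq_mul]
      ring
    · rw [map_add, map_smul, hQ.self_eq_zero hp, a0]
      simp
    · rw [map_add, map_smul, hrp, a1]
      simp
    · rw [map_add, map_smul, hr'p, a2]
      simp
  have hxp : B x p = 1 := by rw [hQ.symm, hpx]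
  have hxr : B x r = 0 := by rw [hQ.symm, hrx]
  have hxr' : B x r' = 0 := by rw [hQ.symm, hrx']
  have hln : ∀ y, q y = 0 → B x y = 0 → B p y = 0 → B r y ≠ 0 → IsLn q B x y := by
    intro y hy hxy hpy hry
    refine ⟨?_, hqx, hy, hxy⟩
    rw [pair_ind_iff]
    intro a b hab
    have h1 := congrArg (B p) hab
    have h2 := congrArg (B r) hab
    rw [map_add, map_smul, map_smul, hpx, hpy, map_zero] at h1
    rw [map_add, map_smul, map_smul, hrx, map_zero] at h2
    simp only [smul_eq_mul, mul_one, mul_zero, add_zero, zero_add] at h1 h2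
    exact ⟨h1, (mul_eq_zero.1 h2).resolve_right hry⟩
  by_cases hβ : B r r' = 0
  · -- p, x, r, r' are independent
    have hind4 : LinearIndependent F ![x, p, r, r'] := by
      rw [Fintype.linearIndependent_iff] at hind ⊢
      intro g hg
      rw [Fin.sum_univ_four] at hg
      have hg' : g 0 • x + g 1 • p + g 2 • r + g 3 • r' = 0 := hg
      have h1 := congrArg (B p) hg'
      simp only [map_add, map_smul, smul_eq_mul, hpx, hQ.self_eq_zero hp, hpr, hpr', map_zero] at h1
      have hg0 : g 0 = 0 := by linear_combination h1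
      rw [hg0, zero_smul, zero_add] at hg'
      have h2 := hind ![g 1, g 2, g 3] (by
        rw [Fin.sum_univ_three]
        exact hg')
      intro i
      fin_cases i
      · exact hg0
      · exact h2 0
      · exact h2 1
      · exact h2 2
    obtain ⟨y0, hy0⟩ := hQ.exists_vec hind4 ![0, 0, 1, 1]
    have b0 : B x y0 = 0 := hy0 0
    have b1 : B p y0 = 0 := hy0 1
    have b2 : B r y0 = 1 := hy0 2
    have b3 : B r' y0 = 1 := hy0 3
    have c0 : q (y0 + (-(q y0)) • r) = 0 := by
      rw [hQ.add, hQ.smul, hr, map_smul, hQ.symm, b2, smul_eq_mul]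
      ring
    have c1 : B x (y0 + (-(q y0)) • r) = 0 := by
      rw [map_add, map_smul, hxr, b0]
      simp
    have c2 : B p (y0 + (-(q y0)) • r) = 0 := by
      rw [map_add, map_smul, hpr, b1]
      simp
    have c3 : B r (y0 + (-(q y0)) • r) = 1 := by
      rw [map_add, map_smul, hQ.self_eq_zero hr, b2]
      simp
    have c4 : B r' (y0 + (-(q y0)) • r) = 1 := by
      rw [map_add, map_smul, hQ.symm r' r, hβ, b3]
      simp
    exact ⟨x, _, hln _ c0 c1 c2 (by rw [c3]; exact one_ne_zero), hpx, hrx, hrx', c2, by rw [c3]; exact one_ne_zero,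
      by rw [c4]; exact one_ne_zero⟩
  · obtain ⟨u, hup, hux, hur, hur', hqu⟩ := exists_nonsingular hQ hdim hp hqx hr hr' hpx hpr hpr' hrx hrx' hβ
    set y := r + ((-(q u / B r r')) • r' + u) with hy
    have c0 : q y = 0 := by
      rw [hy, hQ.add, hQ.add, hQ.smul, hr, hr']
      simp only [map_add, map_smul, smul_eq_mul, LinearMap.smul_apply, hur, hur']
      field_simp
      ring
    have c1 : B x y = 0 := by
      rw [hy, map_add, map_add, map_smul, hxr, hxr', hux]
      simp
    have c2 : B p y = 0 := by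
      rw [hy, map_add, map_add, map_smul, hpr, hpr', hup]
      simp
    have c3 : B r y = -(q u) := by
      rw [hy, map_add, map_add, map_smul, hQ.self_eq_zero hr, hur, smul_eq_mul]
      field_simp
      ring
    have c4 : B r' y = B r r' := by
      rw [hy, map_add, map_add, map_smul, hQ.self_eq_zero hr', hur', hQ.symm r' r]
      simp
    have c3' : B r y ≠ 0 := by rw [c3]; exact neg_ne_zero.2 hqu
    exact ⟨x, y, hln y c0 c1 c2 c3', hpx, hrx, hrx', c2, c3', by rw [c4]; exact hβ⟩

theorem reach_share (hQ : QS q B) (hι : IsoGrp q ι) (hdim : 5 ≤ Module.finrank F V) {p r r' : V}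
    {A A' : Subgroup H} (h : Tg q B ι p r A) (h' : Tg q B ι p r' A') :
    Relation.ReflTransGen (FAdj (Sg q B ι)) A A' := by
  by_cases hind : LinearIndependent F ![p, r, r']
  · obtain ⟨x, y, hxy, hpx, hrx, hrx', hpy, hry, hry'⟩ := exists_common_opp hQ hdim h.ln h'.ln hind
    obtain ⟨C, hC⟩ := exists_Tg hQ hι hxy
    have h1 : FAdj (Sg q B ι) A C := h.fAdj hQ hι hC (by rw [hpx, hpy, hrx]; simpa using hry)
    have h2 : FAdj (Sg q B ι) A' C := h'.fAdj hQ hι hC (by rw [hpx, hpy, hrx']; simpa using hry')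
    exact (Relation.ReflTransGen.single h1).tail ⟨h2.2.1, h2.1, RankOnePair_symm h2.2.2⟩
  · -- r' ∈ ⟨p, r⟩
    have h1 : A = A' := by
      rw [Fintype.linearIndependent_iff] at hind
      push Not at hind
      obtain ⟨g, hg, i, hi⟩ := hind
      rw [Fin.sum_univ_three] at hg
      have hg' : g 0 • p + g 1 • r + g 2 • r' = 0 := hg
      have hg2 : g 2 ≠ 0 := by
        intro h0
        rw [h0, zero_smul, add_zero] at hg'
        obtain ⟨h1, h2⟩ := pair_ind_iff.1 h.ln.ind _ _ hg'
        fin_cases i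
        · exact hi h1
        · exact hi h2
        · exact hi h0
      have hg1 : g 1 ≠ 0 := by
        intro h0
        rw [h0, zero_smul, add_zero] at hg'
        obtain ⟨h1, h2⟩ := pair_ind_iff.1 h'.ln.ind _ _ hg'
        exact hg2 h2
      have hr' : r' = (-(g 0 / g 2)) • p + (-(g 1 / g 2)) • r := by
        have h5 : g 2 • (r' - ((-(g 0 / g 2)) • p + (-(g 1 / g 2)) • r)) = 0 := by
          rw [← hg', smul_sub, smul_add, smul_smul, smul_smul]
          have e1 : g 2 * -(g 0 / g 2) = - g 0 := by field_simp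
          have e2 : g 2 * -(g 1 / g 2) = - g 1 := by field_simp
          rw [e1, e2]
          module
        exact sub_eq_zero.1 ((smul_eq_zero.1 h5).resolve_left hg2)
      have h6 : Tg q B ι ((1 : F) • p + (0 : F) • r) ((-(g 0 / g 2)) • p + (-(g 1 / g 2)) • r) A := by
        apply h.rebase hQ
        rw [one_mul, zero_mul, sub_zero]
        exact neg_ne_zero.2 (div_ne_zero hg1 hg2)
      rw [one_smul, zero_smul, add_zero, ← hr'] at h6
      exact h6.unique h'
    rw [h1]

/-- **Connectivity.** -/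
theorem Sg_connected (hQ : QS q B) (hι : IsoGrp q ι) (hdim : 5 ≤ Module.finrank F V) :
    IsConnectedFamily (FAdj (Sg q B ι)) (Sg q B ι) := by
  rintro A ⟨p, r, h⟩ A' ⟨p', r', h'⟩
  -- a nonzero vector x p + y r orthogonal to p'
  obtain ⟨x, y, hxy, hx⟩ : ∃ x y : F, (x ≠ 0 ∨ y ≠ 0) ∧ B (x • p + y • r) p' = 0 := by
    by_cases h0 : B r p' = 0
    · exact ⟨0, 1, Or.inr one_ne_zero, by simp [h0]⟩
    · refine ⟨B r p', -(B p p'), Or.inl h0, ?_⟩
      simp only [map_add, map_smul, LinearMap.add_apply, LinearMap.smul_apply, smul_eq_mul]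
      ring
  obtain ⟨c, d, h1⟩ := h.exists_rebase hQ hxy
  set s := x • p + y • r with hs
  set s' := c • p + d • r with hs'
  by_cases hind : LinearIndependent F ![s, p']
  · have hln : IsLn q B s p' := ⟨hind, h1.ln.qp, h'.ln.qp, hx⟩
    obtain ⟨C, hC⟩ := exists_Tg hQ hι hln
    have hC' : Tg q B ι p' s C := by
      have := hC.rebase hQ (a := 0) (b := 1) (c := 1) (d := 0) (by simp)
      simpa using this
    exact (reach_share hQ hι hdim h1 hC).trans (reach_share hQ hι hdim hC' h')
  · -- s is proportional to p'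
    rw [LinearIndependent.pair_iff] at hind
    push Not at hind
    obtain ⟨a, b, hab, hne⟩ := hind
    have ha : a ≠ 0 := by
      intro ha
      have hb := hne ha
      rw [ha, zero_smul, zero_add] at hab
      exact h'.ln.ne_zero_left ((smul_eq_zero.1 hab).resolve_left hb)
    have hb : b ≠ 0 := by
      intro hb
      rw [hb, zero_smul, add_zero] at hab
      exact h1.ln.ne_zero_left ((smul_eq_zero.1 hab).resolve_left ha)
    have h5 : p' = (-(a / b)) • s := by
      have h6 : b • (p' - (-(a / b)) • s) = 0 := by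
        rw [← hab, smul_sub, smul_smul]
        have : b * -(a / b) = -a := by field_simp
        rw [this]
        module
      exact sub_eq_zero.1 ((smul_eq_zero.1 h6).resolve_left hb)
    have h7 : Tg q B ι ((-(a / b)) • s + (0 : F) • s') ((0 : F) • s + (1 : F) • s') A := by
      apply h1.rebase hQ
      rw [mul_one, mul_zero, sub_zero]
      exact neg_ne_zero.2 (div_ne_zero ha hb)
    rw [zero_smul, add_zero, zero_smul, zero_add, one_smul, ← h5] at h7
    exact reach_share hQ hι hdim h7 h'

omit [FiniteDimensional F V] in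
/-- **The Siegel transvection groups form a set of `F`-root subgroups of the group they generate.** -/
theorem Sg_kRootSet (hQ : QS q B) (hι : IsoGrp q ι) :
    IsKRootSubgroupSet F ((fun A : Subgroup H => A.subgroupOf (⨆ C ∈ Sg q B ι, C)) '' (Sg q B ι)) := by
  apply kRootSet_sub
  · rintro A ⟨p, r, h⟩
    exact h.rs.comm hι.inj
  · rintro A ⟨p, r, h⟩
    exact h.rs.ne_bot (Nm_ne_zero hQ h.ln)
  · rintro A ⟨p, r, h⟩ g
    exact (h.conj hQ hι g).mem
  · rintro A ⟨p, r, h⟩ A' ⟨p', r', h'⟩
    exact h.pair hQ hι h'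

end Cfsg.Agent.H743
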