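/-
Siegel transvection groups as pointwise stabilizers of ℓ^⊥; the plus form (helper743, section 63).
-/
import Cfsg.Agent.H743.Siegel2

set_option autoImplicit false
open Cfsg

namespace Cfsg.Agent.H743

open Cfsg.Agent.H731 Cfsg.Agent.H733 Cfsg.Agent.H742

section

variable {F V H : Type*} [Field F] [AddCommGroup V] [Module F V] [FiniteDimensional F V] [Group H]
variable {q : V → F} {B : V →ₗ[F] V →ₗ[F] F} {ι : H →* Module.End F V}

theorem fix_perp_iff (hQ : QS q B) {p r : V} (h : IsLn q B p r) {f : Module.End F V}
    (hf : ∀ v, q (f v) = q v) :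
    (∀ v, B p v = 0 → B r v = 0 → f v = v) ↔ ∃ c : F, f = 1 + c • Nm B p r := by
  constructor
  · intro hfix
    have hpp := hQ.self_eq_zero h.qp
    have hrr := hQ.self_eq_zero h.qr
    have hpr := h.pr
    have hrp : B r p = 0 := by rw [hQ.symm, hpr]
    have hform : ∀ u v, B (f u) (f v) = B u v := by
      intro u v
      have h1 := hQ.add u v
      have h2 := hQ.add (f u) (f v)
      rw [← map_add, hf, hf, hf] at h2
      linear_combination h1 - h2
    obtain ⟨x0, hx0⟩ := hQ.exists_vec h.ind ![1, 0]
    obtain ⟨y0, hy0⟩ := hQ.exists_vec h.ind ![0, 1]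
    have hpx : B p x0 = 1 := hx0 0
    have hrx : B r x0 = 0 := hx0 1
    have hpy : B p y0 = 0 := hy0 0
    have hry : B r y0 = 1 := hy0 1
    -- f - 1 maps everything into the line
    have hdec : ∀ v, B p (v - (B p v) • x0 - (B r v) • y0) = 0 ∧ B r (v - (B p v) • x0 - (B r v) • y0) = 0 := by
      intro v
      constructor
      · simp [hpx, hpy]
      · simp [hrx, hry]
    have hline : ∀ v, f v - v = (B (f v - v) x0) • p + (B (f v - v) y0) • r := by
      intro v
      have h0 : ∀ w, B p w = 0 → B r w = 0 → B (f v - v) w = 0 := by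
        intro w h1 h2
        have h3 := hform v w
        rw [hfix w h1 h2] at h3
        rw [map_sub, LinearMap.sub_apply, h3, sub_self]
      have h4 : f v - v - ((B (f v - v) x0) • p + (B (f v - v) y0) • r) = 0 := by
        apply hQ.nondeg
        intro w
        obtain ⟨h5, h6⟩ := hdec w
        have h7 := h0 _ h5 h6
        rw [map_sub B, map_add B, map_smul B, map_smul B, LinearMap.sub_apply, LinearMap.add_apply,
          LinearMap.smul_apply, LinearMap.smul_apply]
        rw [map_sub, map_sub, map_smul, map_smul] at h7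
        simp only [smul_eq_mul] at h7 ⊢
        linear_combination h7
      exact sub_eq_zero.1 h4
    -- the formula for f - 1
    have hlin : ∀ v, f v - v = (B p v) • (f x0 - x0) + (B r v) • (f y0 - y0) := by
      intro v
      obtain ⟨h5, h6⟩ := hdec v
      have h7 := hfix _ h5 h6
      rw [map_sub, map_sub, map_smul, map_smul] at h7
      have h8 : f v = (v - (B p v) • x0 - (B r v) • y0) + (B p v) • f x0 + (B r v) • f y0 := by
        rw [← h7]
        abel
      rw [h8]
      module
    -- isometry conditions
    have hself : ∀ v, B v (f v - v) = 0 := by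
      intro v
      have h1 := hQ.add v (f v - v)
      rw [add_sub_cancel, hf, hline v, h.q_comb hQ, ← hline v] at h1
      linear_combination -h1
    set a := B (f x0 - x0) x0 with ha
    set b := B (f x0 - x0) y0 with hb
    set c := B (f y0 - y0) x0 with hc
    set d := B (f y0 - y0) y0 with hd
    have hx := hline x0
    have hy := hline y0
    rw [← ha, ← hb] at hx
    rw [← hc, ← hd] at hy
    have hxp : B x0 p = 1 := by rw [hQ.symm, hpx]
    have hxr : B x0 r = 0 := by rw [hQ.symm, hrx]
    have hyp : B y0 p = 0 := by rw [hQ.symm, hpy]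
    have hyr : B y0 r = 1 := by rw [hQ.symm, hry]
    have ha0 : a = 0 := by rw [ha, hQ.symm]; exact hself x0
    have hd0 : d = 0 := by rw [hd, hQ.symm]; exact hself y0
    have hbc : b + c = 0 := by
      have h1 := hself (x0 + y0)
      have h2 : f (x0 + y0) - (x0 + y0) = (f x0 - x0) + (f y0 - y0) := by
        rw [map_add]; abel
      rw [h2, hx, hy, ha0, hd0] at h1
      simp only [map_add, map_smul, LinearMap.add_apply, smul_eq_mul, hxp, hxr, hyp, hyr] at h1
      linear_combination h1
    refine ⟨b, ?_⟩
    ext v
    rw [LinearMap.add_apply, Module.End.one_apply, LinearMap.smul_apply, Nm_apply]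
    have h9 := hlin v
    rw [hx, hy, ha0, hd0] at h9
    have hc' : c = -b := by linear_combination hbc
    rw [hc'] at h9
    have h10 : f v = v + (f v - v) := by abel
    rw [h10, h9]
    module
  · rintro ⟨c, rfl⟩ v h1 h2
    rw [LinearMap.add_apply, Module.End.one_apply, LinearMap.smul_apply, Nm_apply, h1, h2]
    simp

theorem Tg_closure (hQ : QS q B) (hι : IsoGrp q ι) {p r : V} (h : IsLn q B p r) :
    Tg q B ι p r (Subgroup.closure {σ : H | ∀ v, B p v = 0 → B r v = 0 → ι σ v = v}) := by
  obtain ⟨A, hA⟩ := exists_Tg hQ hι h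
  have h1 : {σ : H | ∀ v, B p v = 0 → B r v = 0 → ι σ v = v} = (A : Set H) := by
    ext σ
    rw [SetLike.mem_coe, hA.rs.mem_iff]
    exact fix_perp_iff hQ h (hι.iso σ)
  rw [h1, Subgroup.closure_eq]
  exact hA

theorem Sg_eq (hQ : QS q B) (hι : IsoGrp q ι) :
    {A : Subgroup H | ∃ p r : V, LinearIndependent F ![p, r] ∧ q p = 0 ∧ q r = 0 ∧ q (p + r) = 0 ∧
      A = Subgroup.closure {σ : H | ∀ v : V, q (v + p) - q v - q p = 0 → q (v + r) - q v - q r = 0 →
        ι σ v = v}} = Sg q B ι := by
  have hset : ∀ p r : V, {σ : H | ∀ v : V, q (v + p) - q v - q p = 0 → q (v + r) - q v - q r = 0 →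
        ι σ v = v} = {σ : H | ∀ v, B p v = 0 → B r v = 0 → ι σ v = v} := by
    intro p r
    have h1 : ∀ v p, q (v + p) - q v - q p = B p v := by
      intro v p
      rw [hQ.add, hQ.symm]
      ring
    simp only [h1]
  ext A
  constructor
  · rintro ⟨p, r, hind, hp, hr, hpr, rfl⟩
    have hln : IsLn q B p r := by
      refine ⟨hind, hp, hr, ?_⟩
      rw [hQ.add, hp, hr] at hpr
      simpa using hpr
    rw [hset]
    exact (Tg_closure hQ hι hln).mem
  · rintro ⟨p, r, h⟩
    refine ⟨p, r, h.ln.ind, h.ln.qp, h.ln.qr, ?_, ?_⟩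
    · rw [hQ.add, h.ln.qp, h.ln.qr, h.ln.pr]
      simp
    · rw [hset]
      exact h.unique (Tg_closure hQ hι h.ln)

end

/-! ### The plus form -/

section plus

variable (F : Type*) [Field F] (n : ℕ)

/-- The polar form of `quadFormPlus`. -/
def plusB : (Fin n ⊕ Fin n → F) →ₗ[F] (Fin n ⊕ Fin n → F) →ₗ[F] F :=
  LinearMap.mk₂ F (fun u v => ∑ i : Fin n, (u (.inl i) * v (.inr i) + u (.inr i) * v (.inl i)))
    (by
      intro u u' v
      rw [← Finset.sum_add_distrib]
      apply Finset.sum_congr rfl
      intro i _
      simp only [Pi.add_apply]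
      ring)
    (by
      intro c u v
      rw [smul_eq_mul, Finset.mul_sum]
      apply Finset.sum_congr rfl
      intro i _
      simp only [Pi.smul_apply, smul_eq_mul]
      ring)
    (by
      intro u v v'
      rw [← Finset.sum_add_distrib]
      apply Finset.sum_congr rfl
      intro i _
      simp only [Pi.add_apply]
      ring)
    (by
      intro c u v
      rw [smul_eq_mul, Finset.mul_sum]
      apply Finset.sum_congr rfl
      intro i _
      simp only [Pi.smul_apply, smul_eq_mul]
      ring)

theorem plusB_apply (u v : Fin n ⊕ Fin n → F) :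
    plusB F n u v = ∑ i : Fin n, (u (.inl i) * v (.inr i) + u (.inr i) * v (.inl i)) := rfl

theorem plus_QS : QS (quadFormPlus n F) (plusB F n) where
  add u v := by
    rw [plusB_apply]
    unfold quadFormPlus
    rw [← Finset.sum_add_distrib, ← Finset.sum_add_distrib]
    apply Finset.sum_congr rfl
    intro i _
    simp only [Pi.add_apply]
    ring
  smul c v := by
    unfold quadFormPlus
    rw [Finset.mul_sum]
    apply Finset.sum_congr rfl
    intro i _
    simp only [Pi.smul_apply, smul_eq_mul]
    ring
  nondeg u h := by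
    ext j
    rcases j with j | j
    · have h1 := h (Pi.single (.inr j) 1)
      rw [plusB_apply, Finset.sum_eq_single j] at h1
      · simpa using h1
      · intro i _ hij
        simp [hij]
      · intro hj
        exact absurd (Finset.mem_univ j) hj
    · have h1 := h (Pi.single (.inl j) 1)
      rw [plusB_apply, Finset.sum_eq_single j] at h1
      · simpa using h1
      · intro i _ hij
        simp [hij]
      · intro hj
        exact absurd (Finset.mem_univ j) hj

end plus

section iso

variable {I : Type} [Fintype I] [DecidableEq I] (F : Type*) [Field F] (q : (I → F) → F)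

/-- The natural action of the isometry group. -/
def isoι : ↥(isometryGroup F q) →* Module.End F (I → F) :=
  ((Matrix.toLinAlgEquiv' : Matrix I I F ≃ₐ[F] _) : Matrix I I F →* Module.End F (I → F)).comp
    ((Units.coeHom (Matrix I I F)).comp (isometryGroup F q).subtype)

theorem isoι_apply (σ : ↥(isometryGroup F q)) (v : I → F) :
    isoι F q σ v = ((σ : Matrix.GeneralLinearGroup I F) : Matrix I I F).mulVec v := by
  unfold isoι
  simp

theorem isoι_isoGrp : IsoGrp q (isoι F q) where
  inj := by
    intro x y hxy
    apply Subtype.ext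
    apply Units.ext
    exact (Matrix.toLinAlgEquiv' : Matrix I I F ≃ₐ[F] _).injective hxy
  iso h v := by
    rw [isoι_apply]
    exact h.2 v v
  surj f hf hq := by
    have hM : IsUnit ((Matrix.toLinAlgEquiv' : Matrix I I F ≃ₐ[F] _).symm f) := hf.map _
    obtain ⟨u, hu⟩ := hM
    have hmul : ∀ v, (u : Matrix I I F).mulVec v = f v := by
      intro v
      rw [hu, ← Matrix.toLinAlgEquiv'_apply, AlgEquiv.apply_symm_apply]
    refine ⟨⟨u, fun v w => ?_⟩, ?_⟩
    · change q ((u : Matrix I I F).mulVec v) = q v
      rw [hmul, hq]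
    · apply LinearMap.ext
      intro v
      rw [isoι_apply]
      exact hmul v

end iso

end Cfsg.Agent.H743
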