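import Cfsg.Agent.H743.TvSp
import Cfsg.Agent.H743.TvGen

/-!
# The groups generated by the components of a transvection group

`Wc H a`: the span of the component of `a`; `Kc H a`: the group generated by the transvections of `H`
with centres in this component.  `comp_main`: `V = Wc ⊕ CC`, and `Kc` induces `SL(Wc)` or `Sp(Wc)` on `Wc`.
-/

set_option autoImplicit false
set_option linter.unusedVariables false
set_option linter.unusedSimpArgs false
set_option linter.unusedSectionVars false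

namespace Cfsg.Agent.H743.McL

open Module

variable {K V : Type*} [Field K] [AddCommGroup V] [Module K V] {H : Subgroup (V ≃ₗ[K] V)}

/-- The span of a component. -/
def Wc (H : Subgroup (V ≃ₗ[K] V)) (a : V) : Submodule K V := Submodule.span K {x | Cmp H a x}

/-- The group generated by the transvections with centres in a component. -/
def Kc (H : Subgroup (V ≃ₗ[K] V)) (a : V) : Subgroup (V ≃ₗ[K] V) :=
  Subgroup.closure {t | t ∈ H ∧ ∃ x φ, Cmp H a x ∧ (φ : Dual K V) x = 0 ∧ ∀ y, t y = y + φ y • x}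

theorem Kc_le (a : V) : Kc H a ≤ H := by
  rw [Kc, Subgroup.closure_le]
  rintro t ⟨h, -⟩
  exact h

theorem Kc_fix {a : V} {h : V ≃ₗ[K] V} (hh : h ∈ Kc H a) {y : V} (hy : y ∈ CC H a) : h y = y := by
  induction hh using Subgroup.closure_induction with
  | mem t ht =>
    obtain ⟨h1, x, φ, h2, h3, h4⟩ := ht
    rw [h4, hy x φ h2 ⟨h3, t, h1, h4⟩, zero_smul, add_zero]
  | one => rfl
  | mul g k _ _ ihg ihk =>
    change g (k y) = y
    rw [ihk, ihg]
  | inv g _ ih =>
    change g.symm y = y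
    rw [LinearEquiv.symm_apply_eq, ih]

theorem Kc_sub_mem {a : V} {h : V ≃ₗ[K] V} (hh : h ∈ Kc H a) (y : V) : h y - y ∈ Wc H a := by
  induction hh using Subgroup.closure_induction generalizing y with
  | mem t ht =>
    obtain ⟨h1, x, φ, h2, h3, h4⟩ := ht
    rw [h4, add_sub_cancel_left]
    exact Submodule.smul_mem _ _ (Submodule.subset_span h2)
  | one =>
    change y - y ∈ _
    rw [sub_self]
    exact Submodule.zero_mem _
  | mul g k _ _ ihg ihk =>
    change g (k y) - y ∈ _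
    rw [show g (k y) - y = (g (k y) - k y) + (k y - y) by abel]
    exact Submodule.add_mem _ (ihg _) (ihk _)
  | inv g _ ih =>
    change g.symm y - y ∈ _
    have := ih (g.symm y)
    rw [LinearEquiv.apply_symm_apply] at this
    rw [show g.symm y - y = -(y - g.symm y) by abel]
    exact Submodule.neg_mem _ this

theorem WW_eq (hF : Full H) {a : V} (ha : Ctr H a) (hA : AddC H a) : WW hF ha hA = Wc H a := by
  apply le_antisymm
  · rintro x (rfl | hx)
    · exact Submodule.zero_mem _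
    · exact Submodule.subset_span hx
  · rw [Wc, Submodule.span_le]
    intro x hx
    exact Or.inr hx

/-- Transfer of generators under a relation compatible with the group operations. -/
theorem restrict_of_closure {W : Submodule K V} {X : Set (V ≃ₗ[K] V)} (Y : Subgroup (W ≃ₗ[K] W))
    (h : ∀ x ∈ X, ∃ y ∈ Y, ∀ w : W, ((y w : W) : V) = x w) {g : V ≃ₗ[K] V}
    (hg : g ∈ Subgroup.closure X) : ∃ y ∈ Y, ∀ w : W, ((y w : W) : V) = g w := by
  induction hg using Subgroup.closure_induction with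
  | mem x hx => exact h x hx
  | one => exact ⟨1, Y.one_mem, fun w => rfl⟩
  | mul g k _ _ ihg ihk =>
    obtain ⟨y, hy, h1⟩ := ihg
    obtain ⟨z, hz, h2⟩ := ihk
    refine ⟨y * z, Y.mul_mem hy hz, fun w => ?_⟩
    change ((y (z w) : W) : V) = g (k w)
    rw [h1, h2]
  | inv g _ ih =>
    obtain ⟨y, hy, h1⟩ := ih
    refine ⟨y⁻¹, Y.inv_mem hy, fun w => ?_⟩
    change ((y.symm w : W) : V) = g.symm w
    rw [LinearEquiv.eq_symm_apply, ← h1, LinearEquiv.apply_symm_apply]

/-- The elements of `GL(W)` induced by elements of a subgroup of `GL(V)` form a subgroup. -/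
def Ind (W : Submodule K V) (X : Subgroup (V ≃ₗ[K] V)) : Subgroup (W ≃ₗ[K] W) where
  carrier := {f | ∃ h ∈ X, ∀ w : W, ((f w : W) : V) = h w}
  one_mem' := ⟨1, X.one_mem, fun w => rfl⟩
  mul_mem' := by
    rintro f g ⟨h, hh, h1⟩ ⟨k, hk, h2⟩
    refine ⟨h * k, X.mul_mem hh hk, fun w => ?_⟩
    change ((f (g w) : W) : V) = h (k w)
    rw [h1, h2]
  inv_mem' := by
    rintro f ⟨h, hh, h1⟩
    refine ⟨h⁻¹, X.inv_mem hh, fun w => ?_⟩
    change ((f.symm w : W) : V) = h.symm w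
    rw [LinearEquiv.eq_symm_apply, ← h1, LinearEquiv.apply_symm_apply]

theorem mem_Ind {W : Submodule K V} {X : Subgroup (V ≃ₗ[K] V)} {f : W ≃ₗ[K] W} :
    f ∈ Ind W X ↔ ∃ h ∈ X, ∀ w : W, ((f w : W) : V) = h w := Iff.rfl

/-- The group of elements of determinant one. -/
def detOne (K W : Type*) [Field K] [AddCommGroup W] [Module K W] : Subgroup (W ≃ₗ[K] W) where
  carrier := {f | LinearMap.det (f : W →ₗ[K] W) = 1}
  one_mem' := LinearMap.det_id
  mul_mem' := by
    intro f g hf hg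
    change LinearMap.det ((f : W →ₗ[K] W) ∘ₗ (g : W →ₗ[K] W)) = 1
    rw [LinearMap.det_comp]
    rw [show LinearMap.det (f : W →ₗ[K] W) = 1 from hf, show LinearMap.det (g : W →ₗ[K] W) = 1 from hg,
      one_mul]
  inv_mem' := by
    intro f hf
    have h1 : LinearMap.det ((f⁻¹ : W ≃ₗ[K] W) : W →ₗ[K] W) * LinearMap.det (f : W →ₗ[K] W) = 1 := by
      rw [← LinearMap.det_comp]
      have : ((f⁻¹ : W ≃ₗ[K] W) : W →ₗ[K] W) ∘ₗ (f : W →ₗ[K] W) = LinearMap.id := by
        ext x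
        exact f.symm_apply_apply x
      rw [this, LinearMap.det_id]
    rw [show LinearMap.det (f : W →ₗ[K] W) = 1 from hf, mul_one] at h1
    exact h1

/-- The isometries of a form. -/
def isoG {W : Type*} [AddCommGroup W] [Module K W] (B : LinearMap.BilinForm K W) :
    Subgroup (W ≃ₗ[K] W) where
  carrier := {f | ∀ x y, B (f x) (f y) = B x y}
  one_mem' := fun _ _ => rfl
  mul_mem' := by
    intro f g hf hg x y
    change B (f (g x)) (f (g y)) = _
    rw [hf, hg]
  inv_mem' := by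
    intro f hf x y
    change B (f.symm x) (f.symm y) = _
    rw [← hf, LinearEquiv.apply_symm_apply, LinearEquiv.apply_symm_apply]

section FD
variable [FiniteDimensional K V]

/-- The linear case on the level of groups. -/
theorem sl_group (hF : Full H) (hN : NI H) {a : V} (ha : Ctr H a) (hm : 2 ≤ finrank K (Phi hF a)) :
    IsCompl (Wc H a) (CC H a) ∧
    (∀ h ∈ Kc H a, ∃ f ∈ detOne K (Wc H a), ∀ w : Wc H a, ((f w : Wc H a) : V) = h w) ∧
    (∀ f : Wc H a ≃ₗ[K] Wc H a, LinearMap.det (f : Wc H a →ₗ[K] Wc H a) = 1 → f ∈ Ind (Wc H a) (Kc H a)) := by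
  have hW := WW_eq hF ha (addC_of_two_le hF hN ha hm)
  have hcompl := sl_isCompl hF hN ha hm
  have hex : ∀ (x : Wc H a) (g : Dual K (Wc H a)), g x = 0 →
      ∃ φ : Dual K V, Tv H (x : V) φ ∧ ∀ w : Wc H a, φ (w : V) = g w := by
    rw [← hW]
    intro x g hg
    rcases x.2 with h0 | h0
    · have hx : x = 0 := Subtype.ext h0
      subst hx
      -- any extension
      obtain ⟨φ, hφ⟩ := LinearMap.exists_extend g
      exact ⟨φ, tv_zero_left φ, fun w => LinearMap.congr_fun hφ w⟩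
    · exact sl_exists hF hN ha hm h0 g hg
  rw [hW] at hcompl
  have hcmp : ∀ x : Wc H a, x ≠ 0 → Cmp H a (x : V) := by
    rw [← hW]
    intro x hx
    rcases x.2 with h0 | h0
    · exact absurd (Subtype.ext h0) hx
    · exact h0
  refine ⟨hcompl, ?_, ?_⟩
  · intro h hh
    refine restrict_of_closure (detOne K (Wc H a)) ?_ hh
    rintro t ⟨h1, x, φ, h2, h3, h4⟩
    have hx : x ∈ Wc H a := Submodule.subset_span h2
    let φ' : Dual K (Wc H a) := φ.domRestrict (Wc H a)
    have h5 : φ' ⟨x, hx⟩ = 0 := h3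
    refine ⟨LinearEquiv.transvection h5, ?_, ?_⟩
    · change LinearMap.det ((LinearEquiv.transvection h5 : Wc H a ≃ₗ[K] Wc H a) : Wc H a →ₗ[K] Wc H a) = 1
      rw [← LinearEquiv.coe_det, LinearEquiv.transvection.det_eq_one h5, Units.val_one]
    · intro w
      rw [LinearEquiv.transvection.apply, h4]
      rfl
  · intro f hf
    obtain ⟨b, hb⟩ := id ha
    have h2 : 2 ≤ finrank K (Wc H a) := by
      by_contra hlt
      have ha' : a ∈ Wc H a := Submodule.subset_span (Cmp.refl a)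
      have hb' : b ∈ Wc H a := Submodule.subset_span hb.cmp
      have h3 : finrank K (Wc H a) ≤ 1 := by omega
      rw [finrank_le_one_iff] at h3
      obtain ⟨v, hv⟩ := h3
      obtain ⟨c, hc⟩ := hv ⟨a, ha'⟩
      obtain ⟨d, hd⟩ := hv ⟨b, hb'⟩
      obtain ⟨φ, ψ, k1, k2, k3, k4⟩ := hb
      have hc' : c • (v : V) = a := congrArg Subtype.val hc
      have hd' : d • (v : V) = b := congrArg Subtype.val hd
      have hc0 : c ≠ 0 := by
        rintro rfl
        rw [zero_smul] at hc'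
        exact ha.ne_zero hc'.symm
      have h5 : φ a = 0 := k1.1
      rw [← hc', map_smul, smul_eq_mul] at h5
      have h6 : φ (v : V) = 0 := (mul_eq_zero.1 h5).resolve_left hc0
      apply k3
      rw [← hd', map_smul, h6, smul_zero]
    refine mem_of_det_eq_one h2 (Ind (Wc H a) (Kc H a)) ?_ f hf
    intro x g hg
    obtain ⟨φ, k1, k2⟩ := hex x g hg
    by_cases hx : x = 0
    · refine ⟨1, Subgroup.one_mem _, fun w => ?_⟩
      rw [hx, smul_zero, add_zero]
      rfl
    · refine ⟨LinearEquiv.transvection hg, ?_, fun w => LinearEquiv.transvection.apply hg w⟩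
      obtain ⟨k3, t, k4, k5⟩ := k1
      refine ⟨t, Subgroup.subset_closure ⟨k4, x, φ, hcmp x hx, k3, k5⟩, fun w => ?_⟩
      rw [LinearEquiv.transvection.apply, k5, k2]
      rfl

/-- The symplectic case on the level of groups. -/
theorem sp_group {hF : Full H} (hN : NI H) {a : V} (ha : SpH hF a) (hE : SepC H a) :
    IsCompl (Wc H a) (CC H a) ∧
    ∃ B : LinearMap.BilinForm K (Wc H a), B.IsAlt ∧ (∀ x, (∀ y, B x y = 0) → x = 0) ∧
    (∀ h ∈ Kc H a, ∃ f ∈ isoG B, ∀ w : Wc H a, ((f w : Wc H a) : V) = h w) ∧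
    (∀ f : Wc H a ≃ₗ[K] Wc H a, (∀ x y, B (f x) (f y) = B x y) → f ∈ Ind (Wc H a) (Kc H a)) := by
  have hW := WW_eq hF ha.ctr (ha.addC hE)
  have hcompl := ha.isCompl hN hE
  have hmain := ha.main hN hE
  rw [hW] at hcompl hmain
  have hcmp : ∀ x : Wc H a, x ≠ 0 → Cmp H a (x : V) := by
    rw [← hW]
    intro x hx
    rcases x.2 with h0 | h0
    · exact absurd (Subtype.ext h0) hx
    · exact h0
  obtain ⟨F, h1, h2, h3, h4⟩ := hmain
  let B : LinearMap.BilinForm K (Wc H a) := (Wc H a).subtype.dualMap ∘ₗ F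
  have hBdef : ∀ x y : Wc H a, B x y = F x (y : V) := fun x y => rfl
  have halt : B.IsAlt := fun x => (h1 x).1
  have hnd : ∀ x, (∀ y, B x y = 0) → x = 0 := by
    intro x hx
    by_contra h0
    refine h2 x h0 (eq_zero_of_WW hF hN ha.ctr (ha.addC hE) (hcmp x h0) (h1 x) fun w hw => ?_)
    rw [hW] at hw
    exact hx ⟨w, hw⟩
  refine ⟨hcompl, B, halt, hnd, ?_, ?_⟩
  · intro h hh
    refine restrict_of_closure (isoG B) ?_ hh
    rintro t ⟨k1, x, φ, k2, k3, k4⟩
    have hx : x ∈ Wc H a := Submodule.subset_span k2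
    have hx0 : (⟨x, hx⟩ : Wc H a) ≠ 0 := fun e => (ha.ctr.of_cmp k2).ne_zero (congrArg Subtype.val e)
    obtain ⟨c, rfl⟩ := h4 ⟨x, hx⟩ hx0 φ ⟨k3, t, k1, k4⟩
    let φ' : Dual K (Wc H a) := (c • F ⟨x, hx⟩).domRestrict (Wc H a)
    have h5 : φ' ⟨x, hx⟩ = 0 := k3
    have hφ' : ∀ w : Wc H a, φ' w = c * B ⟨x, hx⟩ w := fun w => rfl
    refine ⟨LinearEquiv.transvection h5, ?_, ?_⟩
    · intro y z
      rw [LinearEquiv.transvection.apply, LinearEquiv.transvection.apply, hφ', hφ']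
      simp only [map_add, map_smul, LinearMap.add_apply, LinearMap.smul_apply, smul_eq_mul]
      have e1 : B ⟨x, hx⟩ ⟨x, hx⟩ = 0 := halt _
      have e2 : B y ⟨x, hx⟩ = - B ⟨x, hx⟩ y := (halt.neg_eq _ _).symm
      rw [e1, e2]
      ring
    · intro w
      rw [LinearEquiv.transvection.apply, k4]
      rfl
  · intro f hf
    refine mem_of_isometry B halt hnd (Ind (Wc H a) (Kc H a)) ?_ f hf
    intro x c
    by_cases hx : x = 0
    · refine ⟨1, Subgroup.one_mem _, fun w => ?_⟩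
      rw [hx, smul_zero, add_zero]
      rfl
    · have k1 : Tv H (x : V) (c • F x) := hF _ _ c (h1 x)
      let φ' : Dual K (Wc H a) := (c • F x).domRestrict (Wc H a)
      have hφ' : ∀ w : Wc H a, φ' w = c * B x w := fun w => rfl
      have h5 : φ' x = 0 := k1.1
      refine ⟨LinearEquiv.transvection h5, ?_, fun w => ?_⟩
      · obtain ⟨k3, t, k4, k5⟩ := k1
        refine ⟨t, Subgroup.subset_closure ⟨k4, x, _, hcmp x hx, k3, k5⟩, fun w => ?_⟩
        rw [LinearEquiv.transvection.apply, k5]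
        rfl
      · rw [LinearEquiv.transvection.apply, hφ']

/-- Members of a component are mapped into the component by transvections of `H`. -/
theorem cmp_tv (hF : Full H) (hN : NI H) {a x : V} (ha : Ctr H a) (hx : Cmp H a x) {b : V} {ψ : Dual K V}
    (hb : Tv H b ψ) : Cmp H a (x + ψ x • b) := by
  by_cases h0 : ψ x = 0
  · simpa [h0] using hx
  have hψ : ψ ≠ 0 := ne_zero_of_apply h0
  by_cases hb0 : b = 0
  · simpa [hb0] using hx
  have hxc := ha.of_cmp hx
  have h1 : NP H b x := ⟨ψ, hb, h0⟩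
  obtain ⟨y, hy⟩ := hxc
  obtain ⟨φ, χ, k1, k2, k3, k4⟩ := hy
  have h2 : Cmp H b x := cmp_of_np hF hN hb0 k1 (ne_zero_of_apply k3) h1
  have h3 : Rel H b x := h2.rel_of_np hF h1
  exact hx.trans (h2.symm.trans (h3.line hF (ψ x)).cmp)

theorem cmp_iff_of_gen (hF : Full H) (hN : NI H)
    (hgen : H = Subgroup.closure {t | t ∈ H ∧ ∃ x φ, (φ : Dual K V) x = 0 ∧ ∀ y, t y = y + φ y • x})
    {a : V} (ha : Ctr H a) {h : V ≃ₗ[K] V} (hh : h ∈ H) (x : V) : Cmp H a (h x) ↔ Cmp H a x := by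
  have key : ∀ t ∈ H, ∀ b (ψ : Dual K V), ψ b = 0 → (∀ y, t y = y + ψ y • b) →
      ∀ x, Cmp H a x → Cmp H a (t x) := by
    intro t ht b ψ h1 h2 x hx
    rw [h2]
    exact cmp_tv hF hN ha hx ⟨h1, t, ht, h2⟩
  rw [hgen] at hh
  induction hh using Subgroup.closure_induction generalizing x with
  | mem t ht =>
    obtain ⟨h1, b, ψ, h2, h3⟩ := ht
    refine ⟨fun hx => ?_, key t h1 b ψ h2 h3 x⟩
    have h4 : ∀ y, t⁻¹ y = y + (-ψ) y • b := by
      intro y
      rw [show (t⁻¹ : V ≃ₗ[K] V) y = t.symm y from rfl, LinearEquiv.symm_apply_eq, h3]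
      simp [h2]
    have := key t⁻¹ (H.inv_mem h1) b (-ψ) (by simp [h2]) h4 _ hx
    rwa [show (t⁻¹ : V ≃ₗ[K] V) (t x) = x from t.symm_apply_apply x] at this
  | one => exact Iff.rfl
  | mul g k _ _ ihg ihk =>
    exact (ihg (k x)).trans (ihk x)
  | inv g _ ih =>
    have h1 := ih (g.symm x)
    rw [LinearEquiv.apply_symm_apply] at h1
    exact h1.symm

variable (H) in
/-- `H` is generated by transvections. -/
def Gen : Prop :=
  H = Subgroup.closure {t | t ∈ H ∧ ∃ x φ, (φ : Dual K V) x = 0 ∧ ∀ y, t y = y + φ y • x}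

theorem Wc_map (hF : Full H) (hN : NI H) (hgen : Gen H) {a : V} (ha : Ctr H a) {h : V ≃ₗ[K] V}
    (hh : h ∈ H) : (Wc H a).map (h : V →ₗ[K] V) = Wc H a := by
  have key : ∀ h ∈ H, (Wc H a).map ((h : V ≃ₗ[K] V) : V →ₗ[K] V) ≤ Wc H a := by
    intro h hh
    rw [Wc, Submodule.map_span, Submodule.span_le]
    rintro _ ⟨x, hx, rfl⟩
    exact Submodule.subset_span ((cmp_iff_of_gen hF hN hgen ha hh x).2 hx)
  apply le_antisymm (key h hh)
  intro x hx
  refine ⟨h⁻¹ x, key h⁻¹ (H.inv_mem hh) ⟨x, hx, rfl⟩, ?_⟩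
  exact h.apply_symm_apply x

theorem CC_map (hF : Full H) (hN : NI H) (hgen : Gen H) {a : V} (ha : Ctr H a) {h : V ≃ₗ[K] V}
    (hh : h ∈ H) : (CC H a).map (h : V →ₗ[K] V) = CC H a := by
  have key : ∀ h ∈ H, (CC H a).map ((h : V ≃ₗ[K] V) : V →ₗ[K] V) ≤ CC H a := by
    rintro h hh _ ⟨x, hx, rfl⟩ y φ hy hφ
    have h1 := hφ.conj (H.inv_mem hh)
    have h2 := hx _ _ ((cmp_iff_of_gen hF hN hgen ha (H.inv_mem hh) y).2 hy) h1
    change φ ((h⁻¹ : V ≃ₗ[K] V).symm x) = 0 at h2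
    exact h2
  apply le_antisymm (key h hh)
  intro x hx
  refine ⟨h⁻¹ x, key h⁻¹ (H.inv_mem hh) ⟨x, hx, rfl⟩, ?_⟩
  exact h.apply_symm_apply x

theorem Kc_conj (hF : Full H) (hN : NI H) (hgen : Gen H) {a : V} (ha : Ctr H a) {h k : V ≃ₗ[K] V}
    (hh : h ∈ H) (hk : k ∈ Kc H a) : h * k * h⁻¹ ∈ Kc H a := by
  induction hk using Subgroup.closure_induction with
  | mem t ht =>
    obtain ⟨h1, x, φ, h2, h3, h4⟩ := ht
    refine Subgroup.subset_closure ⟨H.mul_mem (H.mul_mem hh h1) (H.inv_mem hh), h x,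
      φ ∘ₗ (h.symm : V →ₗ[K] V), (cmp_iff_of_gen hF hN hgen ha hh x).2 h2, by simp [h3], ?_⟩
    intro y
    change h (t (h.symm y)) = _
    rw [h4]
    simp
  | one => simp only [mul_one, mul_inv_cancel]; exact Subgroup.one_mem _
  | mul g k _ _ ihg ihk =>
    have := Subgroup.mul_mem _ ihg ihk
    rwa [show h * g * h⁻¹ * (h * k * h⁻¹) = h * (g * k) * h⁻¹ by group] at this
  | inv g _ ih =>
    have := Subgroup.inv_mem _ ih
    rwa [show (h * g * h⁻¹)⁻¹ = h * g⁻¹ * h⁻¹ by group] at this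

/-- Different components are orthogonal. -/
theorem Wc_le_CC (hF : Full H) (hN : NI H) {a b : V} (ha : Ctr H a) (hb : Ctr H b)
    (h : ¬ Cmp H a b) : Wc H a ≤ CC H b := by
  rw [Wc, Submodule.span_le]
  intro x hx y φ hy hφ
  by_contra h0
  obtain ⟨z, ψ, χ, k1, k2, k3, k4⟩ := ha.of_cmp hx
  have h1 : Cmp H y x := cmp_of_np hF hN (hb.of_cmp hy).ne_zero k1 (ne_zero_of_apply k3) ⟨φ, hφ, h0⟩
  exact h (Cmp.trans hx (hy.trans h1).symm)

theorem Kc_commute (hF : Full H) (hN : NI H) {a b : V} (ha : Ctr H a) (hb : Ctr H b)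
    (h : ¬ Cmp H a b) (hcompl : IsCompl (Wc H b) (CC H b)) {g k : V ≃ₗ[K] V} (hg : g ∈ Kc H a)
    (hk : k ∈ Kc H b) : g * k = k * g := by
  have h' : ¬ Cmp H b a := fun e => h e.symm
  have e1 : ∀ w ∈ Wc H b, g w = w := fun w hw => Kc_fix hg (Wc_le_CC hF hN hb ha h' hw)
  have e2 : ∀ w ∈ Wc H a, k w = w := fun w hw => Kc_fix hk (Wc_le_CC hF hN ha hb h hw)
  ext x
  change g (k x) = k (g x)
  have h1 : k x = x + (k x - x) := by abel
  have h2 : g x = x + (g x - x) := by abel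
  have h3 : g (k x) = g x + (k x - x) := by
    nth_rewrite 1 [h1]
    rw [map_add, e1 _ (Kc_sub_mem hk x)]
  have h4 : k (g x) = k x + (g x - x) := by
    nth_rewrite 1 [h2]
    rw [map_add, e2 _ (Kc_sub_mem hg x)]
  rw [h3, h4]
  abel

end FD

end Cfsg.Agent.H743.McL
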