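import Cfsg.Agent.H743.TvPrime

/-!
# Assembly lemmas for McLaughlin's theorem over `ZMod p`
-/

set_option autoImplicit false
set_option linter.unusedVariables false
set_option linter.unusedSimpArgs false
set_option linter.unusedSectionVars false

namespace Cfsg.Agent.H743.McL

open Module

section general
variable {K V : Type*} [Field K] [AddCommGroup V] [Module K V]

/-- An internal direct sum from a family of complemented, mutually orthogonal subspaces. -/
theorem isInternal_cons {n : ℕ} (A C : Fin n → Submodule K V) (h : ∀ j, IsCompl (A j) (C j))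
    (h' : ∀ i j, i ≠ j → A i ≤ C j) :
    DirectSum.IsInternal (Fin.cons (⨅ j, C j) A : Fin (n + 1) → Submodule K V) := by
  rw [DirectSum.isInternal_submodule_iff_iSupIndep_and_iSup_eq_top]
  set W : Fin (n + 1) → Submodule K V := Fin.cons (⨅ j, C j) A with hW
  have W0 : W 0 = ⨅ j, C j := rfl
  have Ws : ∀ j : Fin n, W j.succ = A j := fun j => rfl
  let P : Fin n → V →ₗ[K] V := fun j => (A j).projection (C j) (h j)
  have P1 : ∀ j x, P j x ∈ A j := fun j x => Submodule.projection_apply_mem (h j) x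
  have P2 : ∀ j x, x ∈ A j → P j x = x := fun j x hx => Submodule.projection_apply_of_mem_left (h j) hx
  have P3 : ∀ j x, P j x = 0 ↔ x ∈ C j := by
    intro j x
    change (A j).projection (C j) (h j) x = 0 ↔ _
    rw [← Submodule.projectionOnto_apply_eq_zero_iff (h j), Submodule.projection_apply]
    simp
  let Q : V →ₗ[K] V := ∑ j, P j
  have Qap : ∀ x, Q x = ∑ j, P j x := fun x => by simp [Q]
  constructor
  · intro i
    refine Fin.cases ?_ (fun j => ?_) i
    · rw [Submodule.disjoint_def]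
      intro x hx hx'
      rw [W0, Submodule.mem_iInf] at hx
      have h1 : Q x = 0 := by
        rw [Qap]
        exact Finset.sum_eq_zero fun j _ => (P3 j x).2 (hx j)
      have h2 : (⨆ k, ⨆ (_ : k ≠ (0 : Fin (n + 1))), W k) ≤ LinearMap.ker (Q - LinearMap.id) := by
        refine iSup_le fun k => iSup_le fun hk => ?_
        obtain ⟨k, rfl⟩ := Fin.exists_succ_eq.2 hk
        intro y hy
        rw [Ws] at hy
        rw [LinearMap.mem_ker, LinearMap.sub_apply, LinearMap.id_apply, Qap,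
          Finset.sum_eq_single k, P2 k y hy, sub_self]
        · intro j _ hj
          exact (P3 j y).2 (h' k j (Ne.symm hj) hy)
        · intro hk'
          exact absurd (Finset.mem_univ k) hk'
      have h3 := h2 hx'
      rw [LinearMap.mem_ker, LinearMap.sub_apply, LinearMap.id_apply, h1, zero_sub, neg_eq_zero] at h3
      exact h3
    · rw [Ws]
      refine (h j).disjoint.mono_right ?_
      refine iSup_le fun k => iSup_le fun hk => ?_
      revert hk
      refine Fin.cases ?_ (fun k => ?_) k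
      · intro _
        rw [W0]
        exact iInf_le _ j
      · intro hk
        rw [Ws]
        exact h' k j fun e => hk (by rw [e])
  · rw [Submodule.eq_top_iff']
    intro x
    have h1 : Q x ∈ ⨆ i, W i := by
      rw [Qap]
      refine Submodule.sum_mem _ fun j _ => ?_
      exact Submodule.mem_iSup_of_mem j.succ (P1 j x)
    have h2 : x - Q x ∈ ⨆ i, W i := by
      refine Submodule.mem_iSup_of_mem 0 ?_
      rw [W0, Submodule.mem_iInf]
      intro j
      rw [← P3, map_sub, Qap, map_sum, Finset.sum_eq_single j, P2 j _ (P1 j x), sub_self]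
      · intro k _ hk
        exact (P3 j _).2 (h' k j hk (P1 k x))
      · intro hk'
        exact absurd (Finset.mem_univ j) hk'
    have := Submodule.add_mem _ h1 h2
    rwa [add_sub_cancel] at this

/-- The restriction homomorphism. -/
theorem exists_rho {U : Submodule K V} {X : Subgroup (V ≃ₗ[K] V)}
    (h : ∀ g ∈ X, ∃ f : U ≃ₗ[K] U, ∀ w : U, ((f w : U) : V) = g w) :
    ∃ ρ : X →* (U ≃ₗ[K] U), ∀ (g : X) (w : U), ((ρ g w : U) : V) = (g : V ≃ₗ[K] V) w := by
  choose F hF using h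
  refine ⟨⟨⟨fun g => F g g.2, ?_⟩, ?_⟩, fun g w => hF _ _ _⟩
  · ext w
    rw [hF]
    rfl
  · intro g k
    ext w
    change ((F (g * k : X) _ w : U) : V) = ((F g g.2 (F k k.2 w) : U) : V)
    rw [hF, hF, hF]
    rfl

theorem range_rho {U : Submodule K V} {X : Subgroup (V ≃ₗ[K] V)} (ρ : X →* (U ≃ₗ[K] U))
    (hρ : ∀ (g : X) (w : U), ((ρ g w : U) : V) = (g : V ≃ₗ[K] V) w) (Y : Subgroup (U ≃ₗ[K] U))
    (h1 : ∀ g ∈ X, ∃ f ∈ Y, ∀ w : U, ((f w : U) : V) = g w)
    (h2 : ∀ f ∈ Y, f ∈ Ind U X) : ρ.range = Y := by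
  apply le_antisymm
  · rintro _ ⟨g, rfl⟩
    obtain ⟨f, hf, hfw⟩ := h1 g g.2
    have : ρ g = f := by
      ext w
      rw [hρ, hfw]
    rw [this]
    exact hf
  · intro f hf
    obtain ⟨g, hg, hgw⟩ := h2 f hf
    refine ⟨⟨g, hg⟩, ?_⟩
    ext w
    rw [hρ, hgw]

theorem exists_enum (H : Subgroup (V ≃ₗ[K] V)) [Finite V] :
    ∃ (n : ℕ) (r : Fin n → V), (∀ j, Ctr H (r j)) ∧ (∀ i j, i ≠ j → ¬ Cmp H (r i) (r j)) ∧
      ∀ x, Ctr H x → ∃ j, Cmp H (r j) x := by
  classical
  let S : Setoid {x : V // Ctr H x} :=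
    ⟨fun x y => Cmp H x.1 y.1, ⟨fun x => Cmp.refl _, fun h => h.symm, fun h h' => h.trans h'⟩⟩
  obtain ⟨n, ⟨e⟩⟩ := Finite.exists_equiv_fin (Quotient S)
  refine ⟨n, fun j => (e.symm j).out.1, fun j => (e.symm j).out.2, ?_, ?_⟩
  · intro i j hij h
    apply hij
    have h1 : (e.symm i).out ≈ (e.symm j).out := h
    have h2 := Quotient.sound h1
    rw [Quotient.out_eq, Quotient.out_eq] at h2
    exact e.symm.injective h2
  · intro x hx
    refine ⟨e (Quotient.mk S ⟨x, hx⟩), ?_⟩
    have h1 : (e.symm (e (Quotient.mk S ⟨x, hx⟩))).out ≈ ⟨x, hx⟩ := by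
      rw [Equiv.symm_apply_apply]
      exact Quotient.mk_out (s := S) ⟨x, hx⟩
    exact h1

/-- An endomorphism of rank one. -/
theorem exists_rank_one [FiniteDimensional K V] (N : V →ₗ[K] V)
    (h : finrank K (LinearMap.ker N) + 1 = finrank K V) :
    ∃ (a : V) (φ : Dual K V), ∀ x, N x = φ x • a := by
  have h1 := LinearMap.finrank_range_add_finrank_ker N
  have h2 : finrank K (LinearMap.range N) = 1 := by omega
  let e : LinearMap.range N ≃ₗ[K] K := LinearEquiv.ofFinrankEq _ _ (by rw [h2, finrank_self])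
  refine ⟨(e.symm 1 : LinearMap.range N), (e : LinearMap.range N →ₗ[K] K) ∘ₗ N.rangeRestrict, fun x => ?_⟩
  have h3 : e.symm (e (N.rangeRestrict x)) = N.rangeRestrict x := e.symm_apply_apply _
  have h4 : e.symm (e (N.rangeRestrict x)) = e (N.rangeRestrict x) • e.symm 1 := by
    rw [← map_smul, smul_eq_mul, mul_one]
  rw [h4] at h3
  exact (congrArg Subtype.val h3).symm

end general

variable {p : ℕ} [hpf : Fact p.Prime] {V : Type*} [AddCommGroup V] [Module (ZMod p) V]

theorem transvection_of_mem [FiniteDimensional (ZMod p) V] {t : V ≃ₗ[ZMod p] V} (h1 : orderOf t = p)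
    (h2 : finrank (ZMod p) (LinearMap.ker ((t : V →ₗ[ZMod p] V) - LinearMap.id)) + 1 =
      finrank (ZMod p) V) :
    ∃ (a : V) (φ : Dual (ZMod p) V), φ a = 0 ∧ a ≠ 0 ∧ φ ≠ 0 ∧ ∀ x, t x = x + φ x • a := by
  obtain ⟨a, φ, h⟩ := exists_rank_one _ h2
  have ht : ∀ x, t x = x + φ x • a := by
    intro x
    have := h x
    rw [LinearMap.sub_apply, LinearMap.id_apply] at this
    rw [← this]
    change t x = x + (t x - x)
    abel
  have hne : t ≠ 1 := by
    rintro rfl
    rw [orderOf_one] at h1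
    exact hpf.out.one_lt.ne h1
  have ha : a ≠ 0 := by
    rintro rfl
    apply hne
    ext x
    rw [ht, smul_zero, add_zero]
    rfl
  have hφ : φ ≠ 0 := by
    rintro rfl
    apply hne
    ext x
    rw [ht, LinearMap.zero_apply, zero_smul, add_zero]
    rfl
  refine ⟨a, φ, ?_, ha, hφ, ht⟩
  have h3 : ∀ (n : ℕ) (x : V), φ ((t ^ n) x) = (1 + φ a) ^ n * φ x := by
    intro n x
    induction n with
    | zero => simp
    | succ n ih =>
      rw [pow_succ']
      change φ (t ((t ^ n) x)) = _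
      rw [ht, map_add, map_smul, ih, smul_eq_mul]
      ring
  obtain ⟨x, hx⟩ : ∃ x, φ x ≠ 0 := by
    by_contra hcon
    push Not at hcon
    exact hφ (LinearMap.ext hcon)
  have h4 := h3 p x
  have hp1 : t ^ p = 1 := by
    have := pow_orderOf_eq_one t
    rwa [h1] at this
  rw [hp1, ZMod.pow_card] at h4
  have h5 : φ a * φ x = 0 := by
    have : φ x = (1 + φ a) * φ x := h4
    linear_combination -this
  exact (mul_eq_zero.1 h5).resolve_right hx

/-- Everything about one component. -/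
theorem comp_main [Finite V] (hp : Odd p) {H : Subgroup (V ≃ₗ[ZMod p] V)}
    (hO : Cfsg.pCore p H = ⊥) (hgen : Gen H) {a : V} (ha : Ctr H a) :
    IsCompl (Wc H a) (CC H a) ∧
    ∃ ρ : Kc H a →* (Wc H a ≃ₗ[ZMod p] Wc H a),
      (∀ (h : Kc H a) (v : Wc H a), ((ρ h v : Wc H a) : V) = (h : V ≃ₗ[ZMod p] V) (v : V)) ∧
      ((ρ.range : Set (Wc H a ≃ₗ[ZMod p] Wc H a)) =
          {f : Wc H a ≃ₗ[ZMod p] Wc H a | LinearMap.det (f : Wc H a →ₗ[ZMod p] Wc H a) = 1} ∨
        ∃ B : LinearMap.BilinForm (ZMod p) (Wc H a), B.IsAlt ∧ B.Nondegenerate ∧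
          (ρ.range : Set (Wc H a ≃ₗ[ZMod p] Wc H a)) =
            {f : Wc H a ≃ₗ[ZMod p] Wc H a | ∀ x y, B (f x) (f y) = B x y}) := by
  have hF : Full H := full_of_prime H
  have hN : NI H := ni_of_pCore hp hO
  by_cases hm : 2 ≤ finrank (ZMod p) (Phi hF a)
  · obtain ⟨h1, h2, h3⟩ := sl_group hF hN ha hm
    refine ⟨h1, ?_⟩
    obtain ⟨ρ, hρ⟩ := exists_rho (fun g hg => by
      obtain ⟨f, -, hf⟩ := h2 g hg
      exact ⟨f, hf⟩)
    refine ⟨ρ, hρ, Or.inl ?_⟩
    rw [range_rho ρ hρ (detOne (ZMod p) (Wc H a)) h2 (fun f hf => h3 f hf)]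
    rfl
  · have hp3 : 2 < p := by
      have := hpf.out.two_le
      rcases this.eq_or_lt with h | h
      · rw [← h] at hp
        exact absurd hp (by decide)
      · exact h
    have hone : finrank (ZMod p) (Phi hF a) = 1 := by
      obtain ⟨b, hb⟩ := id ha
      obtain ⟨φ, k1, k2⟩ := hb.np
      have : 0 < finrank (ZMod p) (Phi hF a) := by
        rw [finrank_pos_iff]
        exact ⟨⟨⟨φ, k1⟩, 0, fun e => ne_zero_of_apply k2 (congrArg Subtype.val e)⟩⟩
      omega
    have hbig : ∃ c : ZMod p, c ≠ 0 ∧ c ≠ 1 := by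
      refine ⟨2, ?_, ?_⟩
      · have : ((2 : ℕ) : ZMod p) ≠ 0 := by
          rw [Ne, ZMod.natCast_eq_zero_iff]
          exact Nat.not_dvd_of_pos_of_lt (by norm_num) hp3
        simpa using this
      · intro e
        have h1 : (1 : ZMod p) = 0 := by linear_combination e
        exact one_ne_zero h1
    have hS : SpH hF a := ⟨ha, hone, hbig⟩
    obtain ⟨h1, B, h2, h3, h4, h5⟩ := sp_group hN hS (sepC_of_pCore hp hO hgen hS)
    refine ⟨h1, ?_⟩
    obtain ⟨ρ, hρ⟩ := exists_rho (fun g hg => by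
      obtain ⟨f, -, hf⟩ := h4 g hg
      exact ⟨f, hf⟩)
    refine ⟨ρ, hρ, Or.inr ⟨B, h2, ?_, ?_⟩⟩
    · refine ⟨h3, fun y hy => h3 y fun x => ?_⟩
      rw [← h2.neg_eq, hy, neg_zero]
    · rw [range_rho ρ hρ (isoG B) h4 (fun f hf => h5 f hf)]
      rfl

end Cfsg.Agent.H743.McL
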