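import Cfsg.Agent.H743.TvComp
import Cfsg.Agent.Involutions.BaerSuzuki

/-!
# Transvection groups over `ZMod p`, `p` odd, with trivial `p`-core

The hypotheses `Full`, `NI`, `SepC` of the general theory hold.
-/

set_option autoImplicit false
set_option linter.unusedVariables false
set_option linter.unusedSimpArgs false
set_option linter.unusedSectionVars false

namespace Cfsg.Agent.H743.McL

open Module

section chain
variable {K V : Type*} [Field K] [AddCommGroup V] [Module K V]

/-- The group of all elements stabilising the chain `0 ≤ R ≤ W ≤ V`. -/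
def Qs (W R : Submodule K V) (hRW : R ≤ W) : Subgroup (V ≃ₗ[K] V) where
  carrier := {h | (∀ v, h v - v ∈ W) ∧ (∀ w ∈ W, h w - w ∈ R) ∧ ∀ r ∈ R, h r = r}
  one_mem' := by
    refine ⟨fun v => ?_, fun w _ => ?_, fun r _ => rfl⟩
    · change v - v ∈ W
      rw [sub_self]; exact W.zero_mem
    · change w - w ∈ R
      rw [sub_self]; exact R.zero_mem
  mul_mem' := by
    rintro g h ⟨g1, g2, g3⟩ ⟨h1, h2, h3⟩
    refine ⟨fun v => ?_, fun w hw => ?_, fun r hr => ?_⟩
    · change g (h v) - v ∈ W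
      rw [show g (h v) - v = (g (h v) - h v) + (h v - v) by abel]
      exact W.add_mem (g1 _) (h1 _)
    · change g (h w) - w ∈ R
      rw [show g (h w) - w = (g (h w) - h w) + (h w - w) by abel]
      refine R.add_mem (g2 _ ?_) (h2 _ hw)
      have := W.add_mem (hRW (h2 w hw)) hw
      rwa [sub_add_cancel] at this
    · change g (h r) = r
      rw [h3 r hr, g3 r hr]
  inv_mem' := by
    rintro g ⟨g1, g2, g3⟩
    have hW : ∀ w ∈ W, g.symm w ∈ W := by
      intro w hw
      have h1 := g1 (g.symm w)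
      rw [LinearEquiv.apply_symm_apply] at h1
      have := W.sub_mem hw h1
      rwa [sub_sub_cancel] at this
    refine ⟨fun v => ?_, fun w hw => ?_, fun r hr => ?_⟩
    · change g.symm v - v ∈ W
      have h1 := g1 (g.symm v)
      rw [LinearEquiv.apply_symm_apply] at h1
      rw [← neg_sub]
      exact W.neg_mem h1
    · change g.symm w - w ∈ R
      have h1 := g2 (g.symm w) (hW w hw)
      rw [LinearEquiv.apply_symm_apply] at h1
      rw [← neg_sub]
      exact R.neg_mem h1
    · change g.symm r = r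
      rw [LinearEquiv.symm_apply_eq, g3 r hr]

theorem mem_Qs {W R : Submodule K V} {hRW : R ≤ W} {h : V ≃ₗ[K] V} :
    h ∈ Qs W R hRW ↔ (∀ v, h v - v ∈ W) ∧ (∀ w ∈ W, h w - w ∈ R) ∧ ∀ r ∈ R, h r = r := Iff.rfl

theorem Qs_pow {W R : Submodule K V} {hRW : R ≤ W} {h : V ≃ₗ[K] V} (hh : h ∈ Qs W R hRW) (v : V)
    (n : ℕ) : (h ^ n) v = v + (n : K) • (h v - v) + (Nat.choose n 2 : K) • (h (h v - v) - (h v - v)) := by
  induction n with
  | zero => simp
  | succ n ih =>
    rw [pow_succ']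
    change h ((h ^ n) v) = _
    rw [ih]
    obtain ⟨h1, h2, h3⟩ := hh
    have k1 : h (h (h v - v) - (h v - v)) = h (h v - v) - (h v - v) := h3 _ (h2 _ (h1 v))
    simp only [map_add, map_smul]
    rw [k1]
    have k2 : h (h v - v) = (h v - v) + (h (h v - v) - (h v - v)) := by abel
    set u := h v - v with hu
    set w := h u - u with hw
    have k3 : h v = v + u := by rw [hu]; abel
    rw [k3, k2]
    rw [Nat.choose_succ_succ' n 1, Nat.choose_one_right]
    push_cast
    module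

end chain

variable {p : ℕ} [hpf : Fact p.Prime] {V : Type*} [AddCommGroup V] [Module (ZMod p) V]

theorem Qs_pow_p (hp : Odd p) {W R : Submodule (ZMod p) V} {hRW : R ≤ W} {h : V ≃ₗ[ZMod p] V}
    (hh : h ∈ Qs W R hRW) : h ^ p = 1 := by
  ext v
  rw [Qs_pow hh]
  have h1 : ((p : ℕ) : ZMod p) = 0 := ZMod.natCast_self p
  have h2 : ((Nat.choose p 2 : ℕ) : ZMod p) = 0 := by
    rw [ZMod.natCast_eq_zero_iff]
    have hp3 : 2 < p := by
      rcases hpf.out.eq_two_or_odd' with e | e
      · rw [e] at hp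
        exact absurd hp (by decide)
      · have := hpf.out.two_le
        rcases this.eq_or_lt with h | h
        · rw [← h] at e
          exact absurd e (by decide)
        · exact h
    exact hpf.out.dvd_choose_self (by norm_num) hp3
  rw [h1, h2]
  simp

theorem full_of_prime (H : Subgroup (V ≃ₗ[ZMod p] V)) : Full H := by
  intro a φ c h
  have : ∀ n : ℕ, Tv H a ((n : ZMod p) • φ) := by
    intro n
    induction n with
    | zero =>
      have e : (((0 : ℕ) : ZMod p) • φ) = 0 := by rw [Nat.cast_zero, zero_smul]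
      rw [e]
      exact tv_zero_right a
    | succ n ih =>
      have e : (((n + 1 : ℕ) : ZMod p) • φ) = (n : ZMod p) • φ + φ := by
        rw [Nat.cast_succ, add_smul, one_smul]
      rw [e]
      exact ih.add_right h
  have h1 := this c.val
  rwa [ZMod.natCast_zmod_val] at h1

variable {H : Subgroup (V ≃ₗ[ZMod p] V)}

theorem isPGroup_of_le_Qs (hp : Odd p) {W R : Submodule (ZMod p) V} {hRW : R ≤ W} {N : Subgroup H}
    (hN : ∀ x ∈ N, (x : V ≃ₗ[ZMod p] V) ∈ Qs W R hRW) : IsPGroup p N := by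
  intro g
  refine ⟨1, ?_⟩
  rw [pow_one]
  apply Subtype.ext
  apply Subtype.ext
  have := Qs_pow_p hp (hN g g.2)
  simpa using this

theorem ni_of_pCore [Finite V] (hp : Odd p) (hO : Cfsg.pCore p H = ⊥) : NI H := by
  intro a φ h ha hφ
  by_contra hcon
  push Not at hcon
  obtain ⟨h1, t, ht, h2⟩ := id h
  have hfin : Finite (V ≃ₗ[ZMod p] V) := Finite.of_injective (fun f => (f : V → V)) DFunLike.coe_injective
  have key : (⟨t, ht⟩ : H) ∈ Cfsg.pCore p H := by
    apply Cfsg.Agent.Involutions.BaerSuzuki.mem_pCore_of_conj_pairs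
    intro g
    have hs : Tv H ((g : V ≃ₗ[ZMod p] V) a) (φ ∘ₗ ((g : V ≃ₗ[ZMod p] V).symm : V →ₗ[ZMod p] V)) :=
      h.conj g.2
    set b := (g : V ≃ₗ[ZMod p] V) a with hb
    set ψ := φ ∘ₗ ((g : V ≃ₗ[ZMod p] V).symm : V →ₗ[ZMod p] V) with hψ
    have hsf : ∀ y, ((g : V ≃ₗ[ZMod p] V) * t * (g : V ≃ₗ[ZMod p] V)⁻¹) y = y + ψ y • b := by
      intro y
      change (g : V ≃ₗ[ZMod p] V) (t ((g : V ≃ₗ[ZMod p] V).symm y)) = _
      rw [h2, map_add, map_smul, LinearEquiv.apply_symm_apply]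
      rfl
    have main : ∀ (R : Submodule (ZMod p) V) (hR : R ≤ Submodule.span (ZMod p) {a, b}),
        t ∈ Qs (Submodule.span (ZMod p) {a, b}) R hR →
        (g : V ≃ₗ[ZMod p] V) * t * (g : V ≃ₗ[ZMod p] V)⁻¹ ∈ Qs (Submodule.span (ZMod p) {a, b}) R hR →
        IsPGroup p (Subgroup.closure {(⟨t, ht⟩ : H), g * ⟨t, ht⟩ * g⁻¹}) := by
      intro R hR k1 k2
      refine isPGroup_of_le_Qs hp (W := Submodule.span (ZMod p) {a, b}) (R := R) (hRW := hR) ?_
      intro x hx
      have : Subgroup.closure {(⟨t, ht⟩ : H), g * ⟨t, ht⟩ * g⁻¹} ≤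
          (Qs (Submodule.span (ZMod p) {a, b}) R hR).comap H.subtype := by
        rw [Subgroup.closure_le]
        rintro y (rfl | rfl)
        · exact k1
        · exact k2
      exact this hx
    have ha' : a ∈ Submodule.span (ZMod p) {a, b} := Submodule.subset_span (by simp)
    have hb' : b ∈ Submodule.span (ZMod p) {a, b} := Submodule.subset_span (by simp)
    have hspan : ∀ (χ : Dual (ZMod p) V), χ a = 0 → χ b = 0 → ∀ w ∈ Submodule.span (ZMod p) {a, b}, χ w = 0 := by
      intro χ e1 e2 w hw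
      obtain ⟨c, d, rfl⟩ := Submodule.mem_span_pair.1 hw
      rw [map_add, map_smul, map_smul, e1, e2, smul_zero, smul_zero, add_zero]
    by_cases e : φ b = 0
    · have hR : Submodule.span (ZMod p) {b} ≤ Submodule.span (ZMod p) {a, b} :=
        Submodule.span_mono (by simp)
      refine main _ hR ⟨fun v => ?_, fun w hw => ?_, fun r hr => ?_⟩
        ⟨fun v => ?_, fun w hw => ?_, fun r hr => ?_⟩
      · rw [h2, add_sub_cancel_left]
        exact Submodule.smul_mem _ _ ha'
      · rw [h2, hspan φ h1 e w hw, zero_smul, add_zero, sub_self]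
        exact Submodule.zero_mem _
      · rw [h2, hspan φ h1 e r (hR hr), zero_smul, add_zero]
      · rw [hsf, add_sub_cancel_left]
        exact Submodule.smul_mem _ _ hb'
      · rw [hsf, add_sub_cancel_left]
        exact Submodule.smul_mem _ _ (Submodule.mem_span_singleton_self b)
      · obtain ⟨c, rfl⟩ := Submodule.mem_span_singleton.1 hr
        rw [hsf, map_smul, hs.1, smul_zero, zero_smul, add_zero]
    · have e' : ψ a = 0 := hcon b ψ hs e
      have hR : Submodule.span (ZMod p) {a} ≤ Submodule.span (ZMod p) {a, b} :=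
        Submodule.span_mono (by simp)
      refine main _ hR ⟨fun v => ?_, fun w hw => ?_, fun r hr => ?_⟩
        ⟨fun v => ?_, fun w hw => ?_, fun r hr => ?_⟩
      · rw [h2, add_sub_cancel_left]
        exact Submodule.smul_mem _ _ ha'
      · rw [h2, add_sub_cancel_left]
        exact Submodule.smul_mem _ _ (Submodule.mem_span_singleton_self a)
      · obtain ⟨c, rfl⟩ := Submodule.mem_span_singleton.1 hr
        rw [h2, map_smul, h1, smul_zero, zero_smul, add_zero]
      · rw [hsf, add_sub_cancel_left]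
        exact Submodule.smul_mem _ _ hb'
      · rw [hsf, hspan ψ e' hs.1 w hw, zero_smul, add_zero, sub_self]
        exact Submodule.zero_mem _
      · rw [hsf, hspan ψ e' hs.1 r (hR hr), zero_smul, add_zero]
  rw [hO, Subgroup.mem_bot] at key
  have ht1 : t = 1 := congrArg Subtype.val key
  apply hφ
  ext x
  have := h2 x
  rw [ht1] at this
  have h3 : φ x • a = 0 := by
    have h4 : x = x + φ x • a := this
    exact (left_eq_add.1 h4)
  exact (smul_eq_zero.1 h3).resolve_right ha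

theorem sepC_of_pCore [Finite V] (hp : Odd p) (hO : Cfsg.pCore p H = ⊥) (hgen : Gen H)
    {hF : Full H} {a : V} (ha : SpH hF a) : SepC H a := by
  have hN : NI H := ni_of_pCore hp hO
  intro x y hx hy hxy
  obtain ⟨f, hf1, hf2⟩ := ha.exists_form
  have hf : Frm hF a f := ⟨fun x hx => (hf1 x hx).1, fun x hx => (hf1 x hx).2, hf2⟩
  obtain ⟨k1, t, ht, k2⟩ := hf.tv x hx
  obtain ⟨k3, s, hs, k4⟩ := hf.tv y hy
  -- `f y` and `f x` agree on `Wc`
  have hfW : ∀ w ∈ Wc H a, f y w = f x w := by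
    intro w hw
    have : ∀ w ∈ {x | Cmp H a x}, (f y - f x) w = 0 := by
      intro w hw
      have h1 : f w (y - x) = 0 := hxy w (f w) hw (hf.tv w hw)
      rw [map_sub] at h1
      rw [LinearMap.sub_apply, hf.skew y w hy hw, hf.skew x w hx hw]
      linear_combination -h1
    have h2 : Wc H a ≤ (f y - f x).ker := by
      rw [Wc, Submodule.span_le]
      exact this
    have h3 : (f y - f x) w = 0 := h2 hw
    rw [LinearMap.sub_apply, sub_eq_zero] at h3
    exact h3
  have hxW : x ∈ Wc H a := Submodule.subset_span hx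
  have hyW : y ∈ Wc H a := Submodule.subset_span hy
  have htinv : ∀ v, t.symm v = v - f x v • x := by
    intro v
    rw [LinearEquiv.symm_apply_eq, k2, map_sub, map_smul, k1, smul_zero, sub_zero]
    abel
  let R : Submodule (ZMod p) V := Wc H a ⊓ CC H a
  have hRW : R ≤ Wc H a := inf_le_left
  have hq : s * t⁻¹ ∈ Qs (Wc H a) R hRW := by
    refine ⟨fun v => ?_, fun w hw => ?_, fun r hr => ?_⟩
    · change s (t.symm v) - v ∈ _
      rw [htinv, k4]
      have : v - f x v • x + f y (v - f x v • x) • y - v = f y (v - f x v • x) • y - f x v • x := by abel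
      rw [this]
      exact Submodule.sub_mem _ (Submodule.smul_mem _ _ hyW) (Submodule.smul_mem _ _ hxW)
    · change s (t.symm w) - w ∈ _
      rw [htinv, k4, map_sub, map_smul, hfW x hxW, k1, smul_zero, sub_zero, hfW w hw]
      have : w - f x w • x + f x w • y - w = f x w • (y - x) := by module
      rw [this]
      exact ⟨Submodule.smul_mem _ _ (Submodule.sub_mem _ hyW hxW), Submodule.smul_mem _ _ hxy⟩
    · change s (t.symm r) = r
      have e1 : f x r = 0 := hr.2 x _ hx (hf.tv x hx)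
      have e2 : f y r = 0 := hr.2 y _ hy (hf.tv y hy)
      rw [htinv, e1, zero_smul, sub_zero, k4, e2, zero_smul, add_zero]
  let N : Subgroup H := (Qs (Wc H a) R hRW).comap H.subtype
  have hNn : N.Normal := by
    refine ⟨fun n hn g => ?_⟩
    have hmapW : ∀ h ∈ H, ∀ w ∈ Wc H a, (h : V ≃ₗ[ZMod p] V) w ∈ Wc H a := by
      intro h hh w hw
      have e := Wc_map hF hN hgen ha.ctr hh
      rw [← e]
      exact ⟨w, hw, rfl⟩
    have hmapC : ∀ h ∈ H, ∀ w ∈ CC H a, (h : V ≃ₗ[ZMod p] V) w ∈ CC H a := by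
      intro h hh w hw
      have e := CC_map hF hN hgen ha.ctr hh
      rw [← e]
      exact ⟨w, hw, rfl⟩
    obtain ⟨n1, n2, n3⟩ := (hn : (n : V ≃ₗ[ZMod p] V) ∈ Qs (Wc H a) R hRW)
    have hg' : ((g : V ≃ₗ[ZMod p] V)⁻¹) ∈ H := H.inv_mem g.2
    change ((g : V ≃ₗ[ZMod p] V) * (n : V ≃ₗ[ZMod p] V) * (g : V ≃ₗ[ZMod p] V)⁻¹) ∈ Qs (Wc H a) R hRW
    refine ⟨fun v => ?_, fun w hw => ?_, fun r hr => ?_⟩
    · change (g : V ≃ₗ[ZMod p] V) ((n : V ≃ₗ[ZMod p] V) ((g : V ≃ₗ[ZMod p] V).symm v)) - v ∈ _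
      have e := n1 ((g : V ≃ₗ[ZMod p] V).symm v)
      have e2 := hmapW _ g.2 _ e
      rwa [map_sub, LinearEquiv.apply_symm_apply] at e2
    · change (g : V ≃ₗ[ZMod p] V) ((n : V ≃ₗ[ZMod p] V) ((g : V ≃ₗ[ZMod p] V).symm w)) - w ∈ _
      have e := n2 ((g : V ≃ₗ[ZMod p] V).symm w) (hmapW _ hg' w hw)
      have e2 := hmapW _ g.2 _ e.1
      have e3 := hmapC _ g.2 _ e.2
      rw [map_sub, LinearEquiv.apply_symm_apply] at e2 e3
      exact ⟨e2, e3⟩
    · change (g : V ≃ₗ[ZMod p] V) ((n : V ≃ₗ[ZMod p] V) ((g : V ≃ₗ[ZMod p] V).symm r)) = _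
      have e : (n : V ≃ₗ[ZMod p] V) ((g : V ≃ₗ[ZMod p] V).symm r) = (g : V ≃ₗ[ZMod p] V).symm r :=
        n3 ((g : V ≃ₗ[ZMod p] V).symm r) ⟨hmapW _ hg' r hr.1, hmapC _ hg' r hr.2⟩
      rw [e, LinearEquiv.apply_symm_apply]
  have hNp : IsPGroup p N := isPGroup_of_le_Qs (hRW := hRW) hp (fun x hx => hx)
  have hle : N ≤ Cfsg.pCore p H := le_sSup ⟨hNn, hNp⟩
  have hst : (⟨s * t⁻¹, H.mul_mem hs (H.inv_mem ht)⟩ : H) ∈ N := hq
  have h1 := hle hst
  rw [hO, Subgroup.mem_bot] at h1
  have h2 : s * t⁻¹ = 1 := congrArg Subtype.val h1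
  have h3 : s = t := mul_inv_eq_one.1 h2
  have h4 : ∀ v, f y v • y = f x v • x := by
    intro v
    have e1 := k4 v
    have e2 := k2 v
    rw [h3, e2] at e1
    exact (add_left_cancel e1).symm
  -- hence `y` is a multiple of `x`
  obtain ⟨b, hb⟩ := ha.ctr.of_cmp hy
  have h5 : f y b ≠ 0 := ha.np hy (hf.tv y hy) (hf.ne y hy) hb.np
  have h6 : y = ((f y b)⁻¹ * f x b) • x := by
    rw [← smul_smul, ← h4 b, smul_smul, inv_mul_cancel₀ h5, one_smul]
  set μ := (f y b)⁻¹ * f x b with hμ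
  by_cases hμ1 : μ = 1
  · rw [h6, hμ1, one_smul]
  exfalso
  have h7 : y - x = (μ - 1) • x := by rw [h6]; module
  rw [h7] at hxy
  have h8 : x ∈ CC H a := by
    have := Submodule.smul_mem _ (μ - 1)⁻¹ hxy
    rwa [smul_smul, inv_mul_cancel₀ (sub_ne_zero.2 hμ1), one_smul] at this
  obtain ⟨c, hc⟩ := ha.ctr.of_cmp hx
  obtain ⟨φ, j1, j2⟩ := hc.symm.np
  exact j2 (h8 c φ (hx.trans hc.cmp) j1)

end Cfsg.Agent.H743.McL
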