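import Cfsg.Agent.H743.Tv

/-!
# Components of transvection groups: the linear case

In a component in which `Phi a` has dimension at least two, the centres and `0` form a subspace `W`,
`V = W ⊕ C` with `C` the common kernel of all functionals of the component, and every transvection
of `W` is induced by a transvection of `H` with the same centre.
-/

set_option autoImplicit false
set_option linter.unusedVariables false
set_option linter.unusedSimpArgs false
set_option linter.unusedSectionVars false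

namespace Cfsg.Agent.H743.McL

open Module

variable {K V : Type*} [Field K] [AddCommGroup V] [Module K V] {H : Subgroup (V ≃ₗ[K] V)}

/-- `a` is a non-isolated centre. -/
def Ctr (H : Subgroup (V ≃ₗ[K] V)) (a : V) : Prop := ∃ b, Rel H a b

theorem Ctr.ne_zero {a : V} (h : Ctr H a) : a ≠ 0 := by
  obtain ⟨b, hb⟩ := h
  exact hb.symm.np.ne_zero

theorem Ctr.of_cmp {a b : V} (h : Ctr H a) (h' : Cmp H a b) : Ctr H b := by
  induction h' with
  | refl => exact h
  | tail _ h2 _ => exact ⟨_, h2.symm⟩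

theorem Ctr.cmp_smul (hF : Full H) {a : V} (h : Ctr H a) {c : K} (hc : c ≠ 0) : Cmp H a (c • a) := by
  obtain ⟨b, hb⟩ := h
  have hb' := hb
  obtain ⟨φ, ψ, h1, h2, h3, h4⟩ := hb
  have : Rel H (c • a) b := ⟨φ, ψ, hF.smul_left c h1, h2, h3, by simp [hc, h4]⟩
  exact hb'.cmp.trans this.symm.cmp

/-- All `b + l • a` are centres if `a`, `b` are adjacent. -/
theorem Rel.line (hF : Full H) {a b : V} (h : Rel H a b) (l : K) : Rel H a (b + l • a) := by
  obtain ⟨φ, ψ, h1, h2, h3, h4⟩ := h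
  have h5 := hF.conj_tv h1 h2 (l * (φ b)⁻¹)
  rw [show l * (φ b)⁻¹ * φ b = l by field_simp] at h5
  exact ⟨φ, _, h1, h5, by simpa [h1.1] using h3, by simpa [h1.1] using h4⟩

section FD
variable [FiniteDimensional K V]

/-- The graph of a component has diameter at most two. -/
theorem Ctr.exists_mid (hF : Full H) {a c : V} (h : Ctr H a) (h' : Cmp H a c) :
    ∃ b, Rel H a b ∧ Rel H b c := by
  induction h' with
  | refl => obtain ⟨b, hb⟩ := h; exact ⟨b, hb, hb.symm⟩
  | @tail c' c h1 h2 ih =>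
    obtain ⟨b, h3, h4⟩ := ih
    by_cases e1 : NP H b c
    · exact ⟨b, h3, (h4.cmp.trans h2.cmp).rel_of_np hF e1⟩
    by_cases e2 : NP H a c'
    · exact ⟨c', Cmp.rel_of_np hF h1 e2, h2⟩
    have h5 : Rel H b (c' + (1 : K) • b) := h4.line hF 1
    rw [one_smul] at h5
    have h6 : Cmp H a (c' + b) := h3.cmp.trans h5.cmp
    have h7 : Cmp H c (c' + b) := (Cmp.trans h1 h2.cmp).symm.trans h6
    refine ⟨c' + b, h6.rel_of_np hF ?_, (h7.rel_of_np hF ?_).symm⟩
    · obtain ⟨φ, k1, k2⟩ := h3.np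
      refine ⟨φ, k1, ?_⟩
      have : φ c' = 0 := by
        by_contra h0
        exact e2 ⟨φ, k1, h0⟩
      simpa [this] using k2
    · obtain ⟨χ, k1, k2⟩ := h2.symm.np
      refine ⟨χ, k1, ?_⟩
      have : χ b = 0 := by
        by_contra h0
        exact e1 ((h4.cmp.trans h2.cmp).symm.np_symm hF ⟨χ, k1, h0⟩)
      simpa [this] using k2

theorem exists_ne_zero_of_two_le {E : Submodule K (Dual K V)} (h : 2 ≤ finrank K E) (x : V) :
    ∃ θ ∈ E, θ ≠ 0 ∧ θ x = 0 := by
  let ev : E →ₗ[K] K := (Module.Dual.eval K V x).domRestrict E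
  have h1 : ¬ Function.Injective ev := by
    intro h0
    have := LinearMap.finrank_le_finrank_of_injective h0
    rw [finrank_self] at this
    omega
  have h2 : ∃ θ : E, θ ≠ 0 ∧ ev θ = 0 := by
    by_contra hcon
    push Not at hcon
    apply h1
    rw [injective_iff_map_eq_zero]
    intro a ha
    by_contra h3
    exact hcon a h3 ha
  obtain ⟨θ, h3, h4⟩ := h2
  exact ⟨θ, θ.2, fun h0 => h3 (Subtype.ext h0), h4⟩

/-- Two orthogonal centres of a component with `dim Phi ≥ 2` have a common functional. -/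
theorem exists_common (hF : Full H) {x y : V} (hx : Ctr H x) (hxy : Cmp H x y)
    (hm : 2 ≤ finrank K (Phi hF x)) (hn : ¬ NP H x y) : ∃ θ : Dual K V, θ ≠ 0 ∧ Tv H x θ ∧ Tv H y θ := by
  obtain ⟨c, h1, h2⟩ := hx.exists_mid hF hxy
  rw [h1.cmp.finrank_eq hF] at hm
  obtain ⟨θ, k1, k2, k3⟩ := exists_ne_zero_of_two_le hm x
  obtain ⟨φ, k4, k5⟩ := h1.np
  have k6 : Tv H x θ := hF.key k4 k1 k5 k3
  obtain ⟨φ', k7, k8⟩ := h2.symm.np
  have k9 : θ y = 0 := by
    by_contra h0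
    exact hn ⟨θ, k6, h0⟩
  exact ⟨θ, k2, k6, hF.key k7 k1 k8 k9⟩

theorem add_cmp_of_common (hF : Full H) (hN : NI H) {x y : V} {θ : Dual K V} (hθ : θ ≠ 0)
    (h1 : Tv H x θ) (h2 : Tv H y θ) (hx : x ≠ 0) (h0 : x + y ≠ 0) : Cmp H x (x + y) :=
  cmp_of_common hN hθ hx h0 h1 (h1.add_left h2)

theorem add_cmp (hF : Full H) (hN : NI H) {x y : V} (hx : Ctr H x) (hxy : Cmp H x y)
    (hm : 2 ≤ finrank K (Phi hF x)) (h0 : x + y ≠ 0) : Cmp H x (x + y) := by
  by_cases hn : NP H x y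
  · have := (hxy.rel_of_np hF hn).line hF 1
    rw [one_smul, add_comm] at this
    exact this.cmp
  · obtain ⟨θ, h1, h2, h3⟩ := exists_common hF hx hxy hm hn
    exact add_cmp_of_common hF hN h1 h2 h3 hx.ne_zero h0

theorem Phi_le_of_not_np (hF : Full H) (hN : NI H) {x y : V} (hx : Ctr H x) (hxy : Cmp H x y)
    (hm : 2 ≤ finrank K (Phi hF x)) (hn : ¬ NP H x y) : Phi hF x ≤ Phi hF y := by
  obtain ⟨θ, h1, h2, h3⟩ := exists_common hF hx hxy hm hn
  obtain ⟨c, χ, h4, h5, h6⟩ := hN x θ h2 hx.ne_zero h1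
  intro φ hφ
  have k1 : Tv H x (φ - (φ c * (θ c)⁻¹) • θ) := hF.sub_smul_right hφ h2 _
  have k2 : (φ - (φ c * (θ c)⁻¹) • θ) c = 0 := by
    simp only [LinearMap.sub_apply, LinearMap.smul_apply, smul_eq_mul]
    field_simp
    ring
  have k3 : Tv H c (φ - (φ c * (θ c)⁻¹) • θ) := hF.key h4 k1 h6 k2
  have k4 : (φ - (φ c * (θ c)⁻¹) • θ) y = 0 := by
    by_contra h0
    exact hn ⟨_, k1, h0⟩
  have k5 : Tv H y (φ - (φ c * (θ c)⁻¹) • θ) := hF.key h3 k3 h5 k4
  have := Tv.add_right k5 (hF _ _ (φ c * (θ c)⁻¹) h3)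
  rw [sub_add_cancel] at this
  exact this

theorem eq_smul_of_not_np (hF : Full H) (hN : NI H) {x y : V} (hx : Ctr H x) (hxy : Cmp H x y)
    (hm : 2 ≤ finrank K (Phi hF x)) (hn : ¬ NP H x y) : ∃ l : K, y = l • x := by
  have hm' : ∀ z, Cmp H x z → 2 ≤ finrank K (Phi hF z) := fun z hz => by
    rwa [← hz.finrank_eq hF]
  have hy : Ctr H y := hx.of_cmp hxy
  have hn' : ¬ NP H y x := fun h => hn (hxy.symm.np_symm hF h)
  have hle := Phi_le_of_not_np hF hN hx hxy hm hn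
  have hge := Phi_le_of_not_np hF hN hy hxy.symm (hm' y hxy) hn'
  obtain ⟨z, hz⟩ := id hx
  have hzy : Rel H z y := by
    obtain ⟨φ, k1, k2⟩ := hz.np
    exact ((hxy.symm.trans hz.cmp).rel_of_np hF ⟨φ, hle k1, k2⟩).symm
  obtain ⟨φ, k1, k2⟩ := hz.symm.np
  have hker : ∀ ψ : Dual K V, Tv H z ψ → ψ x = 0 → ψ y = 0 := by
    intro ψ hψ h0
    obtain ⟨χ, j1, j2⟩ := hz.np
    have : Tv H x ψ := hF.key j1 hψ j2 h0
    by_contra h1
    exact hn ⟨ψ, this, h1⟩
  have hw : ∀ ψ : Dual K V, Tv H z ψ → ψ (y - (φ y * (φ x)⁻¹) • x) = 0 := by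
    intro ψ hψ
    have j1 : Tv H z (ψ - (ψ x * (φ x)⁻¹) • φ) := hF.sub_smul_right hψ k1 _
    have j2 := hker _ j1 (by
      simp only [LinearMap.sub_apply, LinearMap.smul_apply, smul_eq_mul]
      field_simp
      ring)
    simp only [LinearMap.sub_apply, LinearMap.smul_apply, smul_eq_mul] at j2
    simp only [map_sub, map_smul, smul_eq_mul]
    linear_combination j2
  set l := φ y * (φ x)⁻¹ with hl
  by_cases h0 : y - l • x = 0
  · exact ⟨l, sub_eq_zero.1 h0⟩
  exfalso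
  -- `w = y - l x` is a centre
  have hw1 : Cmp H x (y - l • x) := by
    by_cases hl0 : l = 0
    · simpa [hl0] using hxy
    · have h3 : Cmp H y (-l • x) := hxy.symm.trans (hx.cmp_smul hF (neg_ne_zero.2 hl0))
      have h4 := add_cmp hF hN hy h3 (hm' y hxy) (by rwa [neg_smul, ← sub_eq_add_neg])
      rw [neg_smul, ← sub_eq_add_neg] at h4
      exact hxy.trans h4
  have hw2 : ¬ NP H z (y - l • x) := by
    rintro ⟨ψ, j1, j2⟩
    exact j2 (hw ψ j1)
  have hw3 : ¬ NP H x (y - l • x) := by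
    rintro ⟨ψ, j1, j2⟩
    have j3 : ψ y = 0 := by
      by_contra h1
      exact hn ⟨ψ, j1, h1⟩
    exact j2 (by simp [j3, j1.1])
  have hz1 : Cmp H z (y - l • x) := hz.cmp.symm.trans hw1
  have hle1 := Phi_le_of_not_np hF hN (hx.of_cmp hz.cmp) hz1 (hm' z hz.cmp) hw2
  have hge1 := Phi_le_of_not_np hF hN (hx.of_cmp hw1) hw1.symm (hm' _ hw1)
    (fun h => hw3 (hw1.symm.np_symm hF h))
  obtain ⟨ψ, j1, j2⟩ := hz.symm.np
  exact j2 (hge1 (hle1 j1) : Tv H x ψ).1

theorem exists_vec {W F : Type*} [AddCommGroup W] [Module K W] [FiniteDimensional K W]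
    [AddCommGroup F] [Module K F] (r : F →ₗ[K] (W →ₗ[K] K)) (hr : Function.Injective r)
    (g : F →ₗ[K] K) : ∃ w : W, ∀ φ, r φ w = g φ := by
  obtain ⟨s, hs⟩ := LinearMap.exists_leftInverse_of_injective r
    (LinearMap.ker_eq_bot_of_injective hr)
  obtain ⟨w, hw⟩ := (Module.evalEquiv K W).surjective (g ∘ₗ s)
  refine ⟨w, fun φ => ?_⟩
  have h1 : (g ∘ₗ s) (r φ) = g φ := by
    change g (s (r φ)) = _
    rw [show s (r φ) = φ from LinearMap.congr_fun hs φ]
  rw [← hw] at h1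
  exact h1

/-- The closure property of a component needed for `WW`. -/
def AddC (H : Subgroup (V ≃ₗ[K] V)) (a₀ : V) : Prop :=
  ∀ x y, Cmp H a₀ x → Cmp H a₀ y → x + y ≠ 0 → Cmp H a₀ (x + y)

/-- The subspace formed by `0` and the members of a component. -/
def WW (hF : Full H) {a₀ : V} (h₀ : Ctr H a₀) (hA : AddC H a₀) : Submodule K V where
  carrier := {x | x = 0 ∨ Cmp H a₀ x}
  add_mem' := by
    rintro x y (rfl | hx) hy
    · simpa using hy
    · rcases hy with rfl | hy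
      · exact Or.inr (by simpa using hx)
      · by_cases h : x + y = 0
        · exact Or.inl h
        · exact Or.inr (hA x y hx hy h)
  zero_mem' := Or.inl rfl
  smul_mem' c x := by
    rintro (rfl | hx)
    · exact Or.inl (smul_zero c)
    · by_cases hc : c = 0
      · exact Or.inl (by simp [hc])
      · exact Or.inr (hx.trans ((h₀.of_cmp hx).cmp_smul hF hc))

theorem mem_WW (hF : Full H) {a₀ : V} (h₀ : Ctr H a₀) (hA : AddC H a₀) {x : V} :
    x ∈ WW hF h₀ hA ↔ x = 0 ∨ Cmp H a₀ x := Iff.rfl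

/-- The common kernel of the functionals of a component. -/
def CC (H : Subgroup (V ≃ₗ[K] V)) (a₀ : V) : Submodule K V where
  carrier := {x | ∀ a φ, Cmp H a₀ a → Tv H a φ → φ x = 0}
  add_mem' h h' a φ ha hφ := by rw [map_add, h a φ ha hφ, h' a φ ha hφ, add_zero]
  zero_mem' a φ _ _ := map_zero φ
  smul_mem' c x h a φ ha hφ := by rw [map_smul, h a φ ha hφ, smul_zero]

theorem mem_CC {a₀ x : V} : x ∈ CC H a₀ ↔ ∀ a φ, Cmp H a₀ a → Tv H a φ → φ x = 0 := Iff.rfl

theorem disjoint_WW_CC (hF : Full H) {a₀ : V} (h₀ : Ctr H a₀) (hA : AddC H a₀) :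
    Disjoint (WW hF h₀ hA) (CC H a₀) := by
  rw [Submodule.disjoint_def]
  rintro x (rfl | hx) h2
  · rfl
  · exfalso
    obtain ⟨b, hb⟩ := h₀.of_cmp hx
    obtain ⟨φ, k1, k2⟩ := hb.symm.np
    exact k2 (h2 b φ (hx.trans hb.cmp) k1)

/-- `phi x` vanishing on `W` is zero. -/
theorem eq_zero_of_WW (hF : Full H) (hN : NI H) {a₀ : V} (h₀ : Ctr H a₀) (hA : AddC H a₀) {x : V}
    {φ : Dual K V} (hx : Cmp H a₀ x) (hφ : Tv H x φ) (h : ∀ w ∈ WW hF h₀ hA, φ w = 0) : φ = 0 := by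
  by_contra h0
  obtain ⟨b, ψ, h1, h2, h3⟩ := hN x φ hφ (h₀.of_cmp hx).ne_zero h0
  have : Rel H x b := ⟨φ, ψ, hφ, h1, h2, h3⟩
  exact h2 (h b (Or.inr (hx.trans this.cmp)))

theorem addC_of_two_le (hF : Full H) (hN : NI H) {a₀ : V} (h₀ : Ctr H a₀)
    (hm : 2 ≤ finrank K (Phi hF a₀)) : AddC H a₀ := by
  intro x y hx hy h
  exact hx.trans (add_cmp hF hN (h₀.of_cmp hx) (hx.symm.trans hy) (by rwa [← hx.finrank_eq hF]) h)

/-- Linear case: all functionals of `W` vanishing on `x` are induced by members of `Phi x`. -/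
theorem sl_exists (hF : Full H) (hN : NI H) {a₀ : V} (h₀ : Ctr H a₀)
    (hm : 2 ≤ finrank K (Phi hF a₀)) {x : V} (hx : Cmp H a₀ x)
    (g : Dual K (WW hF h₀ (addC_of_two_le hF hN h₀ hm))) (hg : g ⟨x, Or.inr hx⟩ = 0) :
    ∃ φ : Dual K V, Tv H x φ ∧ ∀ w : WW hF h₀ (addC_of_two_le hF hN h₀ hm), φ (w : V) = g w := by
  let W := WW hF h₀ (addC_of_two_le hF hN h₀ hm)
  let E : Submodule K (Dual K W) := (Phi hF x).map (W.subtype.dualMap)
  have h1 : E.dualCoannihilator ≤ Submodule.span K {(⟨x, Or.inr hx⟩ : W)} := by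
    intro w hw
    rw [Submodule.mem_dualCoannihilator] at hw
    have hn : ¬ NP H x (w : V) := by
      rintro ⟨φ, k1, k2⟩
      exact k2 (hw _ ⟨φ, k1, rfl⟩)
    rcases w.2 with h0 | h2
    · rw [show w = 0 from Subtype.ext h0]
      exact Submodule.zero_mem _
    · obtain ⟨l, hl⟩ := eq_smul_of_not_np hF hN (h₀.of_cmp hx) (hx.symm.trans h2)
        (by rwa [← hx.finrank_eq hF]) hn
      exact Submodule.mem_span_singleton.2 ⟨l, Subtype.ext hl.symm⟩
  have h2 : g ∈ E := by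
    have h3 : (Submodule.dualCoannihilator E).dualAnnihilator = E :=
      Subspace.dualCoannihilator_dualAnnihilator_eq
    rw [← h3, Submodule.mem_dualAnnihilator]
    intro w hw
    obtain ⟨l, rfl⟩ := Submodule.mem_span_singleton.1 (h1 hw)
    refine (map_smul g l _).trans ?_
    refine (congrArg (l • ·) hg).trans (smul_zero l)
  obtain ⟨φ, k1, rfl⟩ := h2
  exact ⟨φ, k1, fun w => rfl⟩

theorem sl_isCompl (hF : Full H) (hN : NI H) {a₀ : V} (h₀ : Ctr H a₀)
    (hm : 2 ≤ finrank K (Phi hF a₀)) :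
    IsCompl (WW hF h₀ (addC_of_two_le hF hN h₀ hm)) (CC H a₀) := by
  refine ⟨disjoint_WW_CC hF h₀ _, ?_⟩
  rw [codisjoint_iff, Submodule.eq_top_iff']
  intro v
  let W := WW hF h₀ (addC_of_two_le hF hN h₀ hm)
  obtain ⟨b₀, hb⟩ := id h₀
  have hm' : ∀ z, Cmp H a₀ z → 2 ≤ finrank K (Phi hF z) := fun z hz => by
    rwa [← hz.finrank_eq hF]
  let F : Submodule K (Dual K V) := Phi hF a₀ ⊔ Phi hF b₀
  -- all functionals lie in `F`
  have hall : ∀ c, Cmp H a₀ c → Phi hF c ≤ F := by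
    intro c hc φ hφ
    by_cases e1 : NP H a₀ c
    swap
    · have hn : ¬ NP H c a₀ := fun h => e1 (hc.symm.np_symm hF h)
      exact Submodule.mem_sup_left (Phi_le_of_not_np hF hN (h₀.of_cmp hc) hc.symm (hm' c hc) hn hφ)
    have hac : Rel H a₀ c := hc.rel_of_np hF e1
    by_cases e2 : NP H b₀ c
    swap
    · have hbc : Cmp H b₀ c := hb.cmp.symm.trans hc
      have hn : ¬ NP H c b₀ := fun h => e2 (hbc.symm.np_symm hF h)
      exact Submodule.mem_sup_right
        (Phi_le_of_not_np hF hN (h₀.of_cmp hc) hbc.symm (hm' c hc) hn hφ)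
    have hbc : Rel H b₀ c := (hb.cmp.symm.trans hc).rel_of_np hF e2
    by_cases e3 : ∃ θ, Tv H c θ ∧ θ b₀ = 0 ∧ θ a₀ ≠ 0
    · obtain ⟨θ, k1, k2, k3⟩ := e3
      have k4 : Tv H b₀ θ := by
        obtain ⟨χ, j1, j2⟩ := hbc.np
        exact hF.key j1 k1 j2 k2
      have k5 : Tv H c (φ - (φ a₀ * (θ a₀)⁻¹) • θ) := hF.sub_smul_right hφ k1 _
      have k6 : Tv H a₀ (φ - (φ a₀ * (θ a₀)⁻¹) • θ) := by
        obtain ⟨χ, j1, j2⟩ := hac.np
        refine hF.key j1 k5 j2 ?_
        simp only [LinearMap.sub_apply, LinearMap.smul_apply, smul_eq_mul]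
        field_simp
        ring
      have := F.add_mem (Submodule.mem_sup_left k6 : _ ∈ F)
        (F.smul_mem (φ a₀ * (θ a₀)⁻¹) (Submodule.mem_sup_right k4 : θ ∈ F))
      rwa [sub_add_cancel] at this
    · -- now `c` is in the span of `a₀` and `b₀`
      push Not at e3
      have h1 : ∃ l m : K, c = l • a₀ + m • b₀ := by
        by_contra hcon
        let x : W := ⟨c, Or.inr hc⟩
        let xa : W := ⟨a₀, Or.inr (Cmp.refl a₀)⟩
        let xb : W := ⟨b₀, Or.inr hb.cmp⟩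
        have hnot : xa ∉ Submodule.span K {x, xb} := by
          intro hmem
          obtain ⟨l, m, hlm⟩ := Submodule.mem_span_pair.1 hmem
          have hlm' : l • c + m • b₀ = a₀ := congrArg Subtype.val hlm
          by_cases hl : l = 0
          · rw [hl, zero_smul, zero_add] at hlm'
            obtain ⟨φ, k1, k2⟩ := hb.symm.np
            apply k2
            rw [← hlm', map_smul, k1.1, smul_zero]
          · apply hcon
            refine ⟨l⁻¹, -(l⁻¹ * m), ?_⟩
            rw [← hlm', smul_add, smul_smul, inv_mul_cancel₀ hl, one_smul, neg_smul, smul_smul]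
            abel
        obtain ⟨g, hg1, hg2⟩ := Submodule.exists_dual_map_eq_bot_of_notMem hnot inferInstance
        have hg3 : ∀ w ∈ Submodule.span K {x, xb}, g w = 0 := by
          intro w hw
          have : g w ∈ (Submodule.span K {x, xb}).map g := ⟨w, hw, rfl⟩
          rw [hg2] at this
          exact this
        obtain ⟨θ, k1, k2⟩ := sl_exists hF hN h₀ hm hc g (hg3 x (Submodule.subset_span (by simp)))
        refine hg1 ?_
        rw [← k2 xa]
        refine e3 θ k1 ?_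
        have := k2 xb
        rw [hg3 xb (Submodule.subset_span (by simp))] at this
        exact this
      obtain ⟨l, m, hlm⟩ := h1
      have hm0 : m ≠ 0 := by
        rintro rfl
        rw [zero_smul, add_zero] at hlm
        obtain ⟨φ, k1, k2⟩ := hac.np
        apply k2
        rw [hlm, map_smul, k1.1, smul_zero]
      -- `c = m • (b₀ + (l/m) • a₀)`
      obtain ⟨α, β, j1, j2, j3, j4⟩ := hb
      have hφ2 : Tv H (b₀ + (m⁻¹ * l) • a₀) φ := by
        have h5 : b₀ + (m⁻¹ * l) • a₀ = m⁻¹ • c := by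
          rw [hlm, smul_add, smul_smul, smul_smul, inv_mul_cancel₀ hm0, one_smul, add_comm]
        rw [h5]
        exact hF.smul_left m⁻¹ hφ
      -- transport `φ` back to `b₀`
      have hcα : (b₀ + (m⁻¹ * l) • a₀) + ((-(m⁻¹ * l) * (α b₀)⁻¹) * α (b₀ + (m⁻¹ * l) • a₀)) • a₀ = b₀ := by
        rw [map_add, map_smul, j1.1, smul_zero, add_zero,
          show -(m⁻¹ * l) * (α b₀)⁻¹ * α b₀ = -(m⁻¹ * l) by field_simp, neg_smul]
        abel
      have h6 := hF.conj_tv j1 hφ2 (-(m⁻¹ * l) * (α b₀)⁻¹)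
      rw [hcα] at h6
      have h7 : (φ - ((-(m⁻¹ * l) * (α b₀)⁻¹) * φ a₀) • α) ∈ F := Submodule.mem_sup_right h6
      have h8 : α ∈ F := Submodule.mem_sup_left (j1 : α ∈ Phi hF a₀)
      have := F.add_mem h7 (F.smul_mem ((-(m⁻¹ * l) * (α b₀)⁻¹) * φ a₀) h8)
      rwa [sub_add_cancel] at this
  -- restriction is injective
  have hinj : ∀ ε ∈ F, (∀ w ∈ W, ε w = 0) → ε = 0 := by
    intro ε hε h0
    obtain ⟨α, hα, β, hβ, rfl⟩ := Submodule.mem_sup.1 hε
    have h1 : β a₀ = 0 := by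
      have := h0 a₀ (Or.inr (Cmp.refl a₀))
      rwa [LinearMap.add_apply, (hα : Tv H a₀ α).1, zero_add] at this
    have h2 : Tv H a₀ β := by
      obtain ⟨χ, j1, j2⟩ := hb.np
      exact hF.key j1 (hβ : Tv H b₀ β) j2 h1
    exact eq_zero_of_WW hF hN h₀ _ (Cmp.refl a₀) (Tv.add_right (hα : Tv H a₀ α) h2) h0
  let r : F →ₗ[K] Dual K W := W.subtype.dualMap.domRestrict F
  have hr : Function.Injective r := by
    rw [injective_iff_map_eq_zero]
    rintro ⟨ε, hε⟩ h0
    apply Subtype.ext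
    refine hinj ε hε fun w hw => ?_
    exact LinearMap.congr_fun h0 (⟨w, hw⟩ : W)
  obtain ⟨w, hw⟩ := exists_vec (K := K) (F := F) (W := W) r hr
    ((Module.Dual.eval K V v).domRestrict F)
  have hwv : ∀ φ ∈ F, φ (w : V) = φ v := fun φ hφ => hw ⟨φ, hφ⟩
  rw [show v = (w : V) + (v - w) by abel]
  refine Submodule.add_mem_sup w.2 ?_
  intro a φ ha hφ
  rw [map_sub, hwv φ (hall a ha hφ), sub_self]

end FD

end Cfsg.Agent.H743.McL
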