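import Cfsg.Agent.H743.TvSL

/-!
# Components of transvection groups: the symplectic case

A component in which `Phi a` has dimension one: the functionals can be normalised such that they
form a skew-symmetric family `f`; if no two different centres of the component agree modulo the
common kernel, the centres and `0` form a subspace `W`, `V = W ⊕ C` and `f` is given by a
nondegenerate alternating form on `W`.
-/

set_option autoImplicit false
set_option linter.unusedVariables false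
set_option linter.unusedSimpArgs false
set_option linter.unusedSectionVars false

namespace Cfsg.Agent.H743.McL

open Module

variable {K V : Type*} [Field K] [AddCommGroup V] [Module K V] {H : Subgroup (V ≃ₗ[K] V)}

theorem bad_eq {u v l m : K} (hlm : l ≠ m) (h1 : u + l * v = 0) (h2 : u + m * v = 0) :
    u = 0 ∧ v = 0 := by
  have h3 : (l - m) * v = 0 := by linear_combination h1 - h2
  rcases mul_eq_zero.1 h3 with h | h
  · exact absurd (sub_eq_zero.1 h) hlm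
  · subst h
    simp at h1
    exact ⟨h1, rfl⟩

/-- Avoiding two values in a field with at least three elements. -/
theorem exists_avoid {c : K} (hc0 : c ≠ 0) (hc1 : c ≠ 1) {u v u' v' : K} (h : u ≠ 0 ∨ v ≠ 0)
    (h' : u' ≠ 0 ∨ v' ≠ 0) : ∃ l : K, u + l * v ≠ 0 ∧ u' + l * v' ≠ 0 := by
  have key : ∀ l m : K, l ≠ m → ¬ (u + l * v = 0 ∧ u + m * v = 0) := by
    rintro l m hlm ⟨h1, h2⟩
    obtain ⟨h3, h4⟩ := bad_eq hlm h1 h2
    rcases h with h | h
    · exact h h3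
    · exact h h4
  have key' : ∀ l m : K, l ≠ m → ¬ (u' + l * v' = 0 ∧ u' + m * v' = 0) := by
    rintro l m hlm ⟨h1, h2⟩
    obtain ⟨h3, h4⟩ := bad_eq hlm h1 h2
    rcases h' with h | h
    · exact h h3
    · exact h h4
  by_contra hcon
  push Not at hcon
  have d : ∀ l : K, u + l * v = 0 ∨ u' + l * v' = 0 := by
    intro l
    by_cases e : u + l * v = 0
    · exact Or.inl e
    · exact Or.inr (hcon l e)
  have n01 : (0 : K) ≠ 1 := zero_ne_one
  rcases d 0 with e0 | e0 <;> rcases d 1 with e1 | e1 <;> rcases d c with e2 | e2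
  · exact key 0 1 n01 ⟨e0, e1⟩
  · exact key 0 1 n01 ⟨e0, e1⟩
  · exact key 0 c hc0.symm ⟨e0, e2⟩
  · exact key' 1 c hc1.symm ⟨e1, e2⟩
  · exact key 1 c hc1.symm ⟨e1, e2⟩
  · exact key' 0 c hc0.symm ⟨e0, e2⟩
  · exact key' 0 1 n01 ⟨e0, e1⟩
  · exact key' 0 1 n01 ⟨e0, e1⟩

section FD
variable [FiniteDimensional K V]

/-- The standing hypotheses of the symplectic case. -/
structure SpH (hF : Full H) (a₀ : V) : Prop where
  ctr : Ctr H a₀
  one : finrank K (Phi hF a₀) = 1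
  big : ∃ c : K, c ≠ 0 ∧ c ≠ 1

variable {hF : Full H} {a₀ : V}

theorem SpH.eq_smul (h : SpH hF a₀) {x : V} (hx : Cmp H a₀ x) {φ ψ : Dual K V} (h1 : Tv H x φ)
    (h2 : φ ≠ 0) (h3 : Tv H x ψ) : ∃ μ : K, ψ = μ • φ := by
  have h4 : finrank K (Phi hF x) = 1 := by rw [← hx.finrank_eq hF, h.one]
  obtain ⟨μ, hμ⟩ := (finrank_eq_one_iff_of_nonzero' (⟨φ, h1⟩ : Phi hF x)
    (fun h0 => h2 (congrArg Subtype.val h0))).1 h4 ⟨ψ, h3⟩
  exact ⟨μ, (congrArg Subtype.val hμ).symm⟩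

theorem SpH.np (h : SpH hF a₀) {x y : V} (hx : Cmp H a₀ x) {φ : Dual K V} (h1 : Tv H x φ)
    (h2 : φ ≠ 0) (hn : NP H x y) : φ y ≠ 0 := by
  obtain ⟨ψ, k1, k2⟩ := hn
  obtain ⟨μ, rfl⟩ := h.eq_smul hx h1 h2 k1
  intro h0
  exact k2 (by simp [h0])

theorem SpH.symm (h : SpH hF a₀) {x y : V} (hx : Cmp H a₀ x) (hy : Cmp H a₀ y) {φ ψ : Dual K V}
    (h1 : Tv H x φ) (h2 : Tv H y ψ) (h3 : ψ ≠ 0) (h4 : φ y ≠ 0) : ψ x ≠ 0 :=
  h.np hy h2 h3 ((hx.symm.trans hy).np_symm hF ⟨φ, h1, h4⟩)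

theorem ne_zero_of_apply {φ : Dual K V} {x : V} (h : φ x ≠ 0) : φ ≠ 0 := by
  rintro rfl
  exact h rfl

/-- Moving along a line. -/
theorem SpH.tv_line (h : SpH hF a₀) {x y : V} {ξ η : Dual K V} (h1 : Tv H x ξ) (h2 : Tv H y η)
    (h3 : ξ y = - η x) (h4 : ξ y ≠ 0) (l : K) : Tv H (y + l • x) (η + l • ξ) := by
  have h5 := hF.conj_tv h1 h2 (l * (ξ y)⁻¹)
  rw [show l * (ξ y)⁻¹ * ξ y = l by field_simp] at h5
  have h6 : l * (ξ y)⁻¹ * η x = -l := by
    have : η x = - ξ y := by rw [h3, neg_neg]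
    rw [this]
    field_simp
  rw [h6] at h5
  have h7 : η - (-l) • ξ = η + l • ξ := by module
  rwa [h7] at h5

theorem rel_of {x y : V} {ξ η : Dual K V} (h1 : Tv H x ξ) (h2 : Tv H y η)
    (h3 : ξ y = - η x) (h4 : ξ y ≠ 0) : Rel H x y :=
  ⟨ξ, η, h1, h2, h4, fun h0 => h4 (by rw [h3, h0, neg_zero])⟩

/-- The triangle lemma. -/
theorem SpH.tri (h : SpH hF a₀) {x y z : V} {ξ η ζ : Dual K V} (hx : Cmp H a₀ x)
    (h1 : Tv H x ξ) (h2 : Tv H y η) (h3 : Tv H z ζ) (h4 : ξ y = - η x) (h5 : ξ y ≠ 0)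
    (h6 : ξ z = - ζ x) (h7 : ξ z ≠ 0) : η z = - ζ y := by
  have hζx : ζ x ≠ 0 := fun h0 => h7 (by rw [h6, h0, neg_zero])
  have hxy := rel_of h1 h2 h4 h5
  have hxz := rel_of h1 h3 h6 h7
  set l := ζ y * (ζ x)⁻¹ with hl
  have k1 := h.tv_line h1 h2 h4 h5 (-l)
  have k2 : Rel H x (y + (-l) • x) := hxy.line hF (-l)
  have k3 : ζ (y + (-l) • x) = 0 := by
    rw [map_add, map_smul, smul_eq_mul, hl]
    field_simp
    ring
  have k4 : (η + (-l) • ξ) z = 0 := by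
    by_contra h0
    have hz : Cmp H a₀ z := hx.trans hxz.cmp
    have hw : Cmp H a₀ (y + (-l) • x) := hx.trans k2.cmp
    exact h.symm hw hz k1 h3 (ne_zero_of_apply hζx) h0 k3
  simp only [LinearMap.add_apply, LinearMap.smul_apply, smul_eq_mul] at k4
  rw [h6, hl] at k4
  have : ζ y * (ζ x)⁻¹ * ζ x = ζ y := by field_simp
  linear_combination k4 + (-1) * this

theorem SpH.normalise (h : SpH hF a₀) {φ₀ : Dual K V} (h0 : Tv H a₀ φ₀) {x : V} (hx : Cmp H a₀ x)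
    (h1 : φ₀ x ≠ 0) : ∃ ξ, Tv H x ξ ∧ ξ a₀ = - φ₀ x := by
  obtain ⟨ξ, k1, k2⟩ := hx.np_symm hF ⟨φ₀, h0, h1⟩
  refine ⟨(-(φ₀ x) * (ξ a₀)⁻¹) • ξ, hF _ _ _ k1, ?_⟩
  rw [LinearMap.smul_apply, smul_eq_mul]
  field_simp

/-- Normalised functionals, relative to `φ₀ ∈ Phi a₀`. -/
def PP (H : Subgroup (V ≃ₗ[K] V)) (a₀ : V) (φ₀ : Dual K V) (c : V) (χ : Dual K V) : Prop :=
  Tv H c χ ∧ ∃ b β, Cmp H a₀ b ∧ Tv H b β ∧ φ₀ b = - β a₀ ∧ φ₀ b ≠ 0 ∧ β c = - χ b ∧ β c ≠ 0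

theorem SpH.exists_PP (h : SpH hF a₀) {φ₀ : Dual K V} (h0 : Tv H a₀ φ₀) (h0' : φ₀ ≠ 0) {c : V}
    (hc : Cmp H a₀ c) : ∃ χ, PP H a₀ φ₀ c χ := by
  obtain ⟨b, h1, h2⟩ := h.ctr.exists_mid hF hc
  have k1 : φ₀ b ≠ 0 := h.np (Cmp.refl a₀) h0 h0' h1.np
  obtain ⟨β, k2, k3⟩ := h.normalise h0 h1.cmp k1
  have k3' : β a₀ ≠ 0 := by rw [k3]; exact neg_ne_zero.2 k1
  have k4 : β c ≠ 0 := h.np h1.cmp k2 (ne_zero_of_apply k3') h2.np
  obtain ⟨χ, k5, k6⟩ := h2.symm.np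
  refine ⟨(-(β c) * (χ b)⁻¹) • χ, hF _ _ _ k5, b, β, h1.cmp, k2, by rw [k3, neg_neg], k1, ?_, k4⟩
  rw [LinearMap.smul_apply, smul_eq_mul]
  field_simp

theorem SpH.PP_unique (h : SpH hF a₀) {φ₀ : Dual K V} (h0 : Tv H a₀ φ₀) {c : V} {χ : Dual K V}
    (hc : Cmp H a₀ c) (hχ : PP H a₀ φ₀ c χ) {b' : V} {β' : Dual K V} (hb' : Cmp H a₀ b')
    (h1' : Tv H b' β') (h2' : φ₀ b' = - β' a₀) (h3' : φ₀ b' ≠ 0) : β' c = - χ b' := by
  obtain ⟨c₀, hc0, hc1⟩ := h.big
  obtain ⟨g1, b, β, hb, g2, g3, g4, g5, g6⟩ := hχ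
  have hβa : β a₀ ≠ 0 := fun e => g4 (by rw [g3, e, neg_zero])
  have hβ'a : β' a₀ ≠ 0 := fun e => h3' (by rw [h2', e, neg_zero])
  have hχb : χ b ≠ 0 := fun e => g6 (by rw [g5, e, neg_zero])
  have k1 : φ₀ c = - χ a₀ := h.tri hb g2 h0 g1 (by rw [g3, neg_neg]) hβa g5 g6
  have k2 : β b' = - β' b := h.tri (Cmp.refl a₀) h0 g2 h1' g3 g4 h2' h3'
  obtain ⟨l, m1, m2⟩ := exists_avoid hc0 hc1 (u := β' b) (v := β' a₀) (u' := χ b) (v' := χ a₀)
    (Or.inr hβ'a) (Or.inl hχb)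
  have k3 := h.tv_line h0 g2 g3 g4 l
  have k4 : Cmp H a₀ (b + l • a₀) := ((rel_of h0 g2 g3 g4).line hF l).cmp
  have k5 : (β + l • φ₀) b' = - β' (b + l • a₀) := by
    simp only [LinearMap.add_apply, LinearMap.smul_apply, smul_eq_mul, map_add, map_smul]
    rw [k2, h2']
    ring
  have k6 : (β + l • φ₀) c = - χ (b + l • a₀) := by
    simp only [LinearMap.add_apply, LinearMap.smul_apply, smul_eq_mul, map_add, map_smul]
    rw [g5, k1]
    ring
  refine h.tri k4 k3 h1' g1 k5 ?_ k6 ?_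
  · rw [k5, map_add, map_smul, smul_eq_mul]
    exact neg_ne_zero.2 m1
  · rw [k6, map_add, map_smul, smul_eq_mul]
    exact neg_ne_zero.2 m2

/-- A skew-symmetric normalisation of the functionals. -/
theorem SpH.exists_form (h : SpH hF a₀) : ∃ f : V → Dual K V,
    (∀ x, Cmp H a₀ x → Tv H x (f x) ∧ f x ≠ 0) ∧
    ∀ x y, Cmp H a₀ x → Cmp H a₀ y → f x y = - f y x := by
  obtain ⟨c₀, hc0, hc1⟩ := h.big
  obtain ⟨b₀, hb⟩ := id h.ctr
  obtain ⟨φ₀, h0, h0b⟩ := hb.np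
  have h0' := ne_zero_of_apply h0b
  have hP : ∀ c, ∃ χ, Cmp H a₀ c → PP H a₀ φ₀ c χ := by
    intro c
    by_cases hc : Cmp H a₀ c
    · obtain ⟨χ, hχ⟩ := h.exists_PP h0 h0' hc
      exact ⟨χ, fun _ => hχ⟩
    · exact ⟨0, fun h => absurd h hc⟩
  choose f hf using hP
  have hf1 : ∀ x, Cmp H a₀ x → Tv H x (f x) := fun x hx => (hf x hx).1
  have hf2 : ∀ x, Cmp H a₀ x → f x ≠ 0 := by
    intro x hx
    obtain ⟨_, b, β, _, _, _, _, g5, g6⟩ := hf x hx
    exact ne_zero_of_apply (x := b) fun e => g6 (by rw [g5, e, neg_zero])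
  refine ⟨f, fun x hx => ⟨hf1 x hx, hf2 x hx⟩, ?_⟩
  have main : ∀ b c, Cmp H a₀ b → Cmp H a₀ c → f b c ≠ 0 → f b c = - f c b := by
    intro b c hb hc hbc
    have hcb : f c b ≠ 0 := h.symm hb hc (hf1 b hb) (hf1 c hc) (hf2 c hc) hbc
    obtain ⟨x, h1, h2⟩ := h.ctr.exists_mid hF hb
    have k1 : φ₀ x ≠ 0 := h.np (Cmp.refl a₀) h0 h0' h1.np
    obtain ⟨l, m1, m2⟩ := exists_avoid hc0 hc1 (u := φ₀ x) (v := φ₀ b) (u' := f c x) (v' := f c b)
      (Or.inl k1) (Or.inr hcb)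
    have k2 : Rel H b (x + l • b) := h2.symm.line hF l
    have k3 : Cmp H a₀ (x + l • b) := hb.trans k2.cmp
    have k4 : φ₀ (x + l • b) ≠ 0 := by rwa [map_add, map_smul, smul_eq_mul]
    obtain ⟨ξ, k5, k6⟩ := h.normalise h0 k3 k4
    have k6' : φ₀ (x + l • b) = - ξ a₀ := by rw [k6, neg_neg]
    have k7 := h.PP_unique h0 hb (hf b hb) k3 k5 k6' k4
    have k8 := h.PP_unique h0 hc (hf c hc) k3 k5 k6' k4
    refine h.tri k3 k5 (hf1 b hb) (hf1 c hc) k7 ?_ k8 ?_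
    · rw [k7]
      refine neg_ne_zero.2 ?_
      rw [map_add, map_smul, (hf1 b hb).1, smul_zero, add_zero]
      exact h.np hb (hf1 b hb) (hf2 b hb) h2.symm.np
    · rw [k8]
      refine neg_ne_zero.2 ?_
      rwa [map_add, map_smul, smul_eq_mul]
  intro b c hb hc
  by_cases e : f b c = 0
  · by_cases e' : f c b = 0
    · rw [e, e', neg_zero]
    · exact absurd e (h.symm hc hb (hf1 c hc) (hf1 b hb) (hf2 b hb) e')
  · exact main b c hb hc e

/-- A skew-symmetric normalisation. -/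
structure Frm (hF : Full H) (a₀ : V) (f : V → Dual K V) : Prop where
  tv : ∀ x, Cmp H a₀ x → Tv H x (f x)
  ne : ∀ x, Cmp H a₀ x → f x ≠ 0
  skew : ∀ x y, Cmp H a₀ x → Cmp H a₀ y → f x y = - f y x

variable {f : V → Dual K V}

theorem SpH.add_line (h : SpH hF a₀) (hf : Frm hF a₀ f) {x y : V} (hx : Cmp H a₀ x)
    (hy : Cmp H a₀ y) (hxy : f x y ≠ 0) (l : K) :
    Cmp H a₀ (y + l • x) ∧ f (y + l • x) = f y + l • f x := by
  have h1 := rel_of (hf.tv x hx) (hf.tv y hy) (hf.skew x y hx hy) hxy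
  have h2 : Cmp H a₀ (y + l • x) := hx.trans (h1.line hF l).cmp
  refine ⟨h2, ?_⟩
  have h3 := h.tv_line (hf.tv x hx) (hf.tv y hy) (hf.skew x y hx hy) hxy l
  obtain ⟨μ, hμ⟩ := h.eq_smul h2 (hf.tv _ h2) (hf.ne _ h2) h3
  have h4 : (f y + l • f x) x = (μ • f (y + l • x)) x := by rw [hμ]
  simp only [LinearMap.add_apply, LinearMap.smul_apply, smul_eq_mul, (hf.tv x hx).1, mul_zero,
    add_zero] at h4
  rw [hf.skew _ x h2 hx, map_add, map_smul, (hf.tv x hx).1, smul_zero, add_zero,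
    ← hf.skew y x hy hx] at h4
  have h5 : f y x ≠ 0 := fun e => hxy (by rw [hf.skew x y hx hy, e, neg_zero])
  have h6 : μ = 1 := by
    have : (μ - 1) * f y x = 0 := by linear_combination -h4
    rcases mul_eq_zero.1 this with h7 | h7
    · exact sub_eq_zero.1 h7
    · exact absurd h7 h5
  rw [hμ, h6, one_smul]

theorem SpH.f_smul (h : SpH hF a₀) (hf : Frm hF a₀ f) {x : V} (hx : Cmp H a₀ x) {c : K}
    (hc : c ≠ 0) : f (c • x) = c • f x := by
  have h1 : Cmp H a₀ (c • x) := hx.trans ((h.ctr.of_cmp hx).cmp_smul hF hc)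
  obtain ⟨μ, hμ⟩ := h.eq_smul hx (hf.tv x hx) (hf.ne x hx) (by
    have := Tv.of_smul_left hc (hf.tv _ h1)
    have h2 := hF _ _ c⁻¹ this
    have h3 : c⁻¹ • c • f (c • x) = f (c • x) := by rw [smul_smul, inv_mul_cancel₀ hc, one_smul]
    rwa [h3] at h2)
  obtain ⟨b, hb⟩ := h.ctr.of_cmp hx
  have hb' : Cmp H a₀ b := hx.trans hb.cmp
  have h4 : f x b ≠ 0 := h.np hx (hf.tv x hx) (hf.ne x hx) hb.np
  have h5 : f (c • x) b = c * f x b := by
    rw [hf.skew _ b h1 hb', map_smul, smul_eq_mul, hf.skew x b hx hb']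
    ring
  rw [hμ, LinearMap.smul_apply, smul_eq_mul] at h5
  rw [hμ, mul_right_cancel₀ h4 h5]

/-- Sums of orthogonal centres not in the common kernel. -/
theorem SpH.add_perp (h : SpH hF a₀) (hf : Frm hF a₀ f) {a b : V} (ha : Cmp H a₀ a)
    (hb : Cmp H a₀ b) (hab : f a b = 0) {c' : V} (hc' : Cmp H a₀ c') (hne : f c' (a + b) ≠ 0) :
    Cmp H a₀ (a + b) ∧ f (a + b) = f a + f b := by
  obtain ⟨c₀, hc0, hc1⟩ := h.big
  have hba : f b a = 0 := by rw [hf.skew b a hb ha, hab, neg_zero]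
  -- a good centre `c`
  have good : ∃ c, Cmp H a₀ c ∧ f c a ≠ 0 ∧ f c b ≠ 0 ∧ f c (a + b) ≠ 0 := by
    obtain ⟨c₁, h1, h2⟩ := (h.ctr.of_cmp ha).exists_mid hF (ha.symm.trans hb)
    have hc₁ : Cmp H a₀ c₁ := ha.trans h1.cmp
    have k1 : f c₁ a ≠ 0 := h.np hc₁ (hf.tv _ hc₁) (hf.ne _ hc₁) h1.symm.np
    have k2 : f c₁ b ≠ 0 := h.np hc₁ (hf.tv _ hc₁) (hf.ne _ hc₁) h2.np
    by_cases e : f c₁ (a + b) = 0
    swap
    · exact ⟨c₁, hc₁, k1, k2, e⟩
    by_cases ea : f c' a = 0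
    · have eb : f c' b ≠ 0 := by
        intro eb
        exact hne (by rw [map_add, ea, eb, add_zero])
      have ebc : f b c' ≠ 0 := by rw [hf.skew b c' hb hc']; exact neg_ne_zero.2 eb
      -- modify `c'` by `b`
      obtain ⟨ν, m1, -⟩ := exists_avoid hc0 hc1 (u := f c₁ c') (v := f c₁ b) (u' := 1) (v' := 0)
        (Or.inr k2) (Or.inl one_ne_zero)
      obtain ⟨j1, j2⟩ := h.add_line hf hb hc' ebc ν
      have j3 : f c₁ (c' + ν • b) ≠ 0 := by rwa [map_add, map_smul, smul_eq_mul]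
      have j4 : f (c' + ν • b) a = 0 := by
        rw [j2, LinearMap.add_apply, LinearMap.smul_apply, ea, hba, smul_zero, add_zero]
      have j5 : f (c' + ν • b) b = f c' b := by
        rw [j2, LinearMap.add_apply, LinearMap.smul_apply, (hf.tv b hb).1, smul_zero, add_zero]
      have j6 : f (c' + ν • b) c₁ ≠ 0 := by
        rw [hf.skew _ _ j1 hc₁]; exact neg_ne_zero.2 j3
      obtain ⟨l, m2, m3⟩ := exists_avoid hc0 hc1 (u := 0) (v := 1) (u' := f c₁ b)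
        (v' := f c' b) (Or.inr one_ne_zero) (Or.inl k2)
      obtain ⟨j7, j8⟩ := h.add_line hf j1 hc₁ j6 l
      have l0 : l ≠ 0 := by simpa using m2
      have j9 : f (c₁ + l • (c' + ν • b)) a = f c₁ a := by
        rw [j8, LinearMap.add_apply, LinearMap.smul_apply, j4, smul_zero, add_zero]
      have j10 : f (c₁ + l • (c' + ν • b)) b = f c₁ b + l * f c' b := by
        rw [j8, LinearMap.add_apply, LinearMap.smul_apply, j5, smul_eq_mul]
      refine ⟨_, j7, by rwa [j9], by rwa [j10], ?_⟩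
      rw [map_add, j9, j10]
      rw [map_add] at e
      rw [← add_assoc, e, zero_add]
      exact mul_ne_zero l0 eb
    by_cases eb : f c' b = 0
    · have eac : f a c' ≠ 0 := by rw [hf.skew a c' ha hc']; exact neg_ne_zero.2 ea
      obtain ⟨ν, m1, -⟩ := exists_avoid hc0 hc1 (u := f c₁ c') (v := f c₁ a) (u' := 1) (v' := 0)
        (Or.inr k1) (Or.inl one_ne_zero)
      obtain ⟨j1, j2⟩ := h.add_line hf ha hc' eac ν
      have j3 : f c₁ (c' + ν • a) ≠ 0 := by rwa [map_add, map_smul, smul_eq_mul]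
      have j4 : f (c' + ν • a) b = 0 := by
        rw [j2, LinearMap.add_apply, LinearMap.smul_apply, eb, hab, smul_zero, add_zero]
      have j5 : f (c' + ν • a) a = f c' a := by
        rw [j2, LinearMap.add_apply, LinearMap.smul_apply, (hf.tv a ha).1, smul_zero, add_zero]
      have j6 : f (c' + ν • a) c₁ ≠ 0 := by
        rw [hf.skew _ _ j1 hc₁]; exact neg_ne_zero.2 j3
      obtain ⟨l, m2, m3⟩ := exists_avoid hc0 hc1 (u := 0) (v := 1) (u' := f c₁ a)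
        (v' := f c' a) (Or.inr one_ne_zero) (Or.inl k1)
      obtain ⟨j7, j8⟩ := h.add_line hf j1 hc₁ j6 l
      have l0 : l ≠ 0 := by simpa using m2
      have j9 : f (c₁ + l • (c' + ν • a)) b = f c₁ b := by
        rw [j8, LinearMap.add_apply, LinearMap.smul_apply, j4, smul_zero, add_zero]
      have j10 : f (c₁ + l • (c' + ν • a)) a = f c₁ a + l * f c' a := by
        rw [j8, LinearMap.add_apply, LinearMap.smul_apply, j5, smul_eq_mul]
      refine ⟨_, j7, by rwa [j10], by rwa [j9], ?_⟩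
      rw [map_add, j9, j10]
      rw [map_add] at e
      rw [show f c₁ a + l * f c' a + f c₁ b = (f c₁ a + f c₁ b) + l * f c' a by ring, e, zero_add]
      exact mul_ne_zero l0 ea
    exact ⟨c', hc', ea, eb, hne⟩
  obtain ⟨c, hc, g1, g2, g3⟩ := good
  -- `a + c`
  have k1 : f c a ≠ 0 := g1
  obtain ⟨p1, p2⟩ := h.add_line hf hc ha g1 1
  rw [one_smul, one_smul] at p2
  rw [one_smul] at p1
  -- `b + (a + c)`
  have q0 : f (a + c) b ≠ 0 := by
    rw [p2, LinearMap.add_apply, hab, zero_add]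
    exact g2
  obtain ⟨q1, q2⟩ := h.add_line hf p1 hb q0 1
  rw [one_smul, one_smul] at q2
  rw [one_smul] at q1
  have r0 : f c (b + (a + c)) ≠ 0 := by
    have : f c (b + (a + c)) = f c (a + b) := by
      simp only [map_add, (hf.tv c hc).1]
      ring
    rwa [this]
  obtain ⟨r1, r2⟩ := h.add_line hf hc q1 r0 (-1)
  have e1 : b + (a + c) + (-1 : K) • c = a + b := by module
  rw [e1] at r1 r2
  refine ⟨r1, ?_⟩
  rw [r2, q2, p2]
  module

/-- Two different centres of the component are different modulo the common kernel. -/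
def SepC (H : Subgroup (V ≃ₗ[K] V)) (a₀ : V) : Prop :=
  ∀ x y, Cmp H a₀ x → Cmp H a₀ y → y - x ∈ CC H a₀ → x = y

theorem SpH.add (h : SpH hF a₀) (hf : Frm hF a₀ f) (hE : SepC H a₀) {a b : V} (ha : Cmp H a₀ a)
    (hb : Cmp H a₀ b) (h0 : a + b ≠ 0) : Cmp H a₀ (a + b) ∧ f (a + b) = f a + f b := by
  by_cases hab : f a b = 0
  · have h1 : a + b ∉ CC H a₀ := by
      intro hmem
      have h2 : Cmp H a₀ ((-1 : K) • b) :=
        hb.trans ((h.ctr.of_cmp hb).cmp_smul hF (neg_ne_zero.2 one_ne_zero))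
      have h3 := hE _ _ h2 ha (by
        have : a - (-1 : K) • b = a + b := by module
        rwa [this])
      apply h0
      rw [← h3]
      module
    rw [mem_CC] at h1
    push Not at h1
    obtain ⟨c, φ, h2, h3, h4⟩ := h1
    refine h.add_perp hf ha hb hab h2 ?_
    exact h.np h2 (hf.tv c h2) (hf.ne c h2) ⟨φ, h3, h4⟩
  · have h1 : f b a ≠ 0 := by rw [hf.skew b a hb ha]; exact neg_ne_zero.2 hab
    obtain ⟨p1, p2⟩ := h.add_line hf hb ha h1 1
    rw [one_smul, one_smul] at p2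
    rw [one_smul] at p1
    exact ⟨p1, p2⟩

theorem SpH.addC (h : SpH hF a₀) (hE : SepC H a₀) : AddC H a₀ := by
  obtain ⟨f, h1, h2⟩ := h.exists_form
  intro x y hx hy hxy
  exact (h.add ⟨fun x hx => (h1 x hx).1, fun x hx => (h1 x hx).2, h2⟩ hE hx hy hxy).1

/-- The symplectic case. -/
theorem SpH.main (h : SpH hF a₀) (hN : NI H) (hE : SepC H a₀) :
    ∃ F : WW hF h.ctr (h.addC hE) →ₗ[K] Dual K V,
      (∀ x : WW hF h.ctr (h.addC hE), Tv H (x : V) (F x)) ∧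
      (∀ x : WW hF h.ctr (h.addC hE), x ≠ 0 → F x ≠ 0) ∧
      (∀ x y : WW hF h.ctr (h.addC hE), F x (y : V) = - F y (x : V)) ∧
      (∀ x : WW hF h.ctr (h.addC hE), x ≠ 0 → ∀ φ, Tv H (x : V) φ → ∃ c : K, φ = c • F x) := by
  classical
  obtain ⟨f, h1, h2⟩ := h.exists_form
  have hf : Frm hF a₀ f := ⟨fun x hx => (h1 x hx).1, fun x hx => (h1 x hx).2, h2⟩
  let W := WW hF h.ctr (h.addC hE)
  have hW : ∀ x : W, x ≠ 0 → Cmp H a₀ (x : V) := by
    intro x hx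
    rcases x.2 with h0 | h0
    · exact absurd (Subtype.ext h0) hx
    · exact h0
  let g : W → Dual K V := fun x => if x = 0 then 0 else f x
  have g0 : g 0 = 0 := if_pos rfl
  have gne : ∀ x : W, x ≠ 0 → g x = f x := fun x hx => if_neg hx
  have gadd : ∀ x y : W, g (x + y) = g x + g y := by
    intro x y
    by_cases hx : x = 0
    · rw [hx, zero_add, g0, zero_add]
    by_cases hy : y = 0
    · rw [hy, add_zero, g0, add_zero]
    by_cases hxy : x + y = 0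
    · rw [hxy, g0, gne x hx, gne y hy]
      have : (y : V) = (-1 : K) • (x : V) := by
        have e1 : y = -x := (neg_eq_of_add_eq_zero_right hxy).symm
        rw [e1]
        simp
      rw [this, h.f_smul hf (hW x hx) (neg_ne_zero.2 one_ne_zero)]
      module
    · rw [gne _ hxy, gne x hx, gne y hy]
      exact (h.add hf hE (hW x hx) (hW y hy) (fun e => hxy (Subtype.ext e))).2
  have gsmul : ∀ (c : K) (x : W), g (c • x) = c • g x := by
    intro c x
    by_cases hx : x = 0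
    · rw [hx, smul_zero, g0, smul_zero]
    by_cases hc : c = 0
    · rw [hc, zero_smul, g0, zero_smul]
    rw [gne _ (smul_ne_zero hc hx), gne x hx]
    exact h.f_smul hf (hW x hx) hc
  refine ⟨⟨⟨g, gadd⟩, gsmul⟩, ?_, ?_, ?_, ?_⟩
  · intro x
    change Tv H (x : V) (g x)
    by_cases hx : x = 0
    · rw [hx]
      exact tv_zero_left _
    · rw [gne x hx]
      exact hf.tv _ (hW x hx)
  · intro x hx
    change g x ≠ 0
    rw [gne x hx]
    exact hf.ne _ (hW x hx)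
  · intro x y
    change g x y = - g y x
    by_cases hx : x = 0
    · rw [hx, g0]
      simp
    by_cases hy : y = 0
    · rw [hy, g0]
      simp
    rw [gne x hx, gne y hy]
    exact hf.skew _ _ (hW x hx) (hW y hy)
  · intro x hx φ hφ
    obtain ⟨μ, hμ⟩ := h.eq_smul (hW x hx) (hf.tv _ (hW x hx)) (hf.ne _ (hW x hx)) hφ
    refine ⟨μ, ?_⟩
    change φ = μ • g x
    rw [gne x hx, hμ]

theorem SpH.isCompl (h : SpH hF a₀) (hN : NI H) (hE : SepC H a₀) :
    IsCompl (WW hF h.ctr (h.addC hE)) (CC H a₀) := by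
  refine ⟨disjoint_WW_CC hF h.ctr _, ?_⟩
  rw [codisjoint_iff, Submodule.eq_top_iff']
  intro v
  obtain ⟨F, h1, h2, h3, h4⟩ := h.main hN hE
  let W := WW hF h.ctr (h.addC hE)
  let r : W →ₗ[K] (W →ₗ[K] K) := W.subtype.dualMap ∘ₗ F
  have hr : Function.Injective r := by
    rw [injective_iff_map_eq_zero]
    intro x hx
    by_contra h0
    have hc : Cmp H a₀ (x : V) := by
      rcases x.2 with h5 | h5
      · exact absurd (Subtype.ext h5) h0
      · exact h5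
    refine h2 x h0 (eq_zero_of_WW hF hN h.ctr (h.addC hE) hc (h1 x) fun w hw => ?_)
    exact LinearMap.congr_fun hx (⟨w, hw⟩ : W)
  obtain ⟨w, hw⟩ := exists_vec (K := K) (F := W) (W := W) r hr
    ((Module.Dual.eval K V v) ∘ₗ F)
  have hwv : ∀ x : W, F x (w : V) = F x v := fun x => hw x
  rw [show v = (w : V) + (v - w) by abel]
  refine Submodule.add_mem_sup w.2 ?_
  intro a φ ha hφ
  obtain ⟨c, rfl⟩ := h4 ⟨a, Or.inr ha⟩ (fun e => (h.ctr.of_cmp ha).ne_zero (congrArg Subtype.val e)) φ hφ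
  rw [LinearMap.smul_apply, map_sub, hwv, sub_self, smul_zero]

end FD

end Cfsg.Agent.H743.McL
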